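import Mathlib
import Cfsg.Agent.Lib.Helper25.InvChk

/-!
# Involution classes (S2175/S2174, architect helper25): piece CM

Soundness of the evaluation of products of root elements `x_r(1)` on vectors modulo two coded as
bit masks.
-/

set_option autoImplicit false

namespace Cfsg.Agent.Lib.Helper25

open Cfsg Cfsg.Lie Matrix Cfsg.Agent.Lib.Helper24

variable {F : Type*} [Field F]

theorem cm_codeOf_lt (D : ChevalleyDatum) (row : D.Idx) : codeOf D row < D.rank + D.nroots := by
  rcases row with v | u
  · have := v.isLt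
    show v.val < D.rank + D.nroots
    omega
  · have := u.isLt
    show D.rank + u.val < D.rank + D.nroots
    omega

theorem cm_vec2_zero (D : ChevalleyDatum) : vec2 F D 0 = 0 := by
  funext row
  simp [vec2]

theorem cm_vec2_xor [CharP F 2] (D : ChevalleyDatum) (a b : ℕ) :
    vec2 F D (a ^^^ b) = vec2 F D a + vec2 F D b := by
  funext row
  simp only [vec2, Pi.add_apply, Nat.testBit_xor]
  cases h1 : a.testBit (codeOf D row) <;> cases h2 : b.testBit (codeOf D row) <;> simp
  exact (CharTwo.add_self_eq_zero (1 : F)).symm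

theorem cm_vec2_shift (D : ChevalleyDatum) (c : ℕ) : vec2 F D (1 <<< c) = bv F D c := by
  funext row
  rw [bv_apply]
  simp only [vec2, Nat.one_shiftLeft, Nat.testBit_two_pow]
  by_cases h : c = codeOf D row
  · simp [h]
  · have h' : ¬ (codeOf D row = c) := fun e => h e.symm
    simp [h, h']

theorem cm_cast_even [CharP F 2] (z : ℤ) (h : z % 2 = 0) : ((z : ℤ) : F) = 0 := by
  rw [CharP.intCast_eq_zero_iff F 2 z]
  exact_mod_cast Int.dvd_of_emod_eq_zero h

theorem cm_cast_odd [CharP F 2] (z : ℤ) (h : ¬ z % 2 = 0) : ((z : ℤ) : F) = 1 := by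
  have h1 : z % 2 = 1 := by
    rcases Int.emod_two_eq_zero_or_one z with h2 | h2
    · exact absurd h2 h
    · exact h2
  have h3 : z = 2 * (z / 2) + 1 := by
    have := Int.mul_ediv_add_emod z 2
    omega
  rw [h3]
  push_cast
  rw [CharTwo.two_eq_zero, zero_mul, zero_add]

/-- the fold of a sparse list modulo two -/
theorem cm_fold_vec [CharP F 2] (D : ChevalleyDatum) (v : List (ℕ × ℤ)) (acc : ℕ) :
    vec2 F D (v.foldl (fun (m : ℕ) (e : ℕ × ℤ) => if e.2 % 2 = 0 then m else m ^^^ (1 <<< e.1)) acc)
      = vec2 F D acc + vecOf F D v := by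
  induction v generalizing acc with
  | nil => rw [List.foldl_nil, vecOf_nil, add_zero]
  | cons e v ih =>
    rw [List.foldl_cons, ih, vecOf_cons, ← add_assoc]
    congr 1
    by_cases h : e.2 % 2 = 0
    · rw [if_pos h, cm_cast_even e.2 h, zero_smul, add_zero]
    · rw [if_neg h, cm_vec2_xor, cm_vec2_shift, cm_cast_odd e.2 h, one_smul]

theorem cm_col [CharP F 2] (D : ChevalleyDatum) (r : ℕ) (hr : r < D.nroots) (code : ℕ) :
    D.x F r 1 *ᵥ bv F D code = vec2 F D (col2 D r code) := by
  have h1 := x_mulVec_bv (F := F) D r hr 1 code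
  rw [Int.cast_one] at h1
  rw [h1]
  unfold col2
  rw [cm_fold_vec, cm_vec2_zero, zero_add]

theorem cm_sum_range (D : ChevalleyDatum) (m n : ℕ) :
    ((List.range n).map (fun c => if m.testBit c then bv F D c else 0)).sum =
      fun row => if (m.testBit (codeOf D row) = true ∧ codeOf D row < n) then (1 : F) else 0 := by
  induction n with
  | zero =>
    funext row
    simp
  | succ n ih =>
    rw [List.range_succ, List.map_append, List.sum_append, ih, List.map_singleton,
      List.sum_singleton]
    funext row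
    rw [Pi.add_apply]
    by_cases hb : m.testBit n = true
    · rw [if_pos hb, bv_apply]
      by_cases h1 : codeOf D row = n
      · have h2 : ¬ (m.testBit (codeOf D row) = true ∧ codeOf D row < n) := by
          rintro ⟨-, h3⟩; omega
        have h4 : m.testBit (codeOf D row) = true ∧ codeOf D row < n + 1 := by
          rw [h1]; exact ⟨hb, by omega⟩
        rw [if_neg h2, if_pos h1, if_pos h4, zero_add]
      · rw [if_neg h1, add_zero]
        by_cases h5 : m.testBit (codeOf D row) = true ∧ codeOf D row < n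
        · have h6 : m.testBit (codeOf D row) = true ∧ codeOf D row < n + 1 := ⟨h5.1, by omega⟩
          rw [if_pos h5, if_pos h6]
        · have h6 : ¬ (m.testBit (codeOf D row) = true ∧ codeOf D row < n + 1) := by
            rintro ⟨h7, h8⟩
            exact h5 ⟨h7, by omega⟩
          rw [if_neg h5, if_neg h6]
    · rw [if_neg hb, Pi.zero_apply, add_zero]
      by_cases h5 : m.testBit (codeOf D row) = true ∧ codeOf D row < n
      · have h6 : m.testBit (codeOf D row) = true ∧ codeOf D row < n + 1 := ⟨h5.1, by omega⟩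
        rw [if_pos h5, if_pos h6]
      · have h6 : ¬ (m.testBit (codeOf D row) = true ∧ codeOf D row < n + 1) := by
          rintro ⟨h7, h8⟩
          by_cases h9 : codeOf D row = n
          · rw [h9] at h7; exact hb h7
          · exact h5 ⟨h7, by omega⟩
        rw [if_neg h5, if_neg h6]

theorem cm_sum_eq (D : ChevalleyDatum) (m : ℕ) :
    ((List.range (D.rank + D.nroots)).map (fun c => if m.testBit c then bv F D c else 0)).sum =
      vec2 F D m := by
  rw [cm_sum_range]
  funext row
  have h := cm_codeOf_lt D row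
  unfold vec2
  by_cases hb : m.testBit (codeOf D row) = true
  · rw [if_pos ⟨hb, h⟩, if_pos hb]
  · have h2 : ¬ (m.testBit (codeOf D row) = true ∧ codeOf D row < D.rank + D.nroots) :=
      fun h3 => hb h3.1
    rw [if_neg h2, if_neg hb]

theorem cm_fold_app [CharP F 2] (D : ChevalleyDatum) (r : ℕ) (hr : r < D.nroots) (m : ℕ)
    (L : List ℕ) (acc : ℕ) :
    vec2 F D (L.foldl
        (fun (acc : ℕ) (code : ℕ) => if m.testBit code then acc ^^^ col2 D r code else acc) acc)
      = vec2 F D acc +
        D.x F r 1 *ᵥ (L.map (fun c => if m.testBit c then bv F D c else 0)).sum := by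
  induction L generalizing acc with
  | nil => rw [List.foldl_nil, List.map_nil, List.sum_nil, Matrix.mulVec_zero, add_zero]
  | cons c L ih =>
    rw [List.foldl_cons, ih, List.map_cons, List.sum_cons, Matrix.mulVec_add, ← add_assoc]
    congr 1
    by_cases hb : m.testBit c = true
    · rw [if_pos hb, if_pos hb, cm_vec2_xor, cm_col D r hr]
    · rw [if_neg hb, if_neg hb, Matrix.mulVec_zero, add_zero]

theorem app2_sound [CharP F 2] (D : ChevalleyDatum) (r : ℕ) (hr : r < D.nroots) (m : ℕ) :
    D.x F r 1 *ᵥ vec2 F D m = vec2 F D (app2 D r m) := by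
  unfold app2
  rw [cm_fold_app D r hr, cm_vec2_zero, zero_add, cm_sum_eq]

theorem apps2_sound [CharP F 2] (D : ChevalleyDatum) (rs : List ℕ) (hrs : ∀ r ∈ rs, r < D.nroots)
    (m : ℕ) : xProd F D rs *ᵥ vec2 F D m = vec2 F D (apps2 D rs m) := by
  induction rs with
  | nil =>
    show (1 : Matrix D.Idx D.Idx F) *ᵥ vec2 F D m = vec2 F D m
    rw [Matrix.one_mulVec]
  | cons r rs ih =>
    have h1 : xProd F D (r :: rs) = D.x F r 1 * xProd F D rs := by
      unfold xProd
      rw [List.map_cons, List.prod_cons]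
    have h2 : apps2 D (r :: rs) m = app2 D r (apps2 D rs m) := rfl
    rw [h1, h2, ← Matrix.mulVec_mulVec, ih (fun r' hr' => hrs r' (List.mem_cons_of_mem _ hr')),
      app2_sound D r (hrs r List.mem_cons_self)]

theorem wordEq2_sound [CharP F 2] (D : ChevalleyDatum) (A B : List ℕ)
    (hA : ∀ r ∈ A, r < D.nroots) (hB : ∀ r ∈ B, r < D.nroots) (h : wordEq2 D A B = true) :
    xProd F D A = xProd F D B := by
  apply mat_ext_bv
  intro code hcode
  unfold wordEq2 at h
  rw [List.all_eq_true] at h
  have h1 := h code (List.mem_range.mpr hcode)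
  rw [beq_iff_eq] at h1
  rw [← cm_vec2_shift, apps2_sound D A hA, apps2_sound D B hB, h1]

theorem xProd_ne_one_of_bit [CharP F 2] (D : ChevalleyDatum) (Y : List ℕ)
    (hY : ∀ r ∈ Y, r < D.nroots) (c p : ℕ) (hc : c < D.rank + D.nroots)
    (hp : p < D.rank + D.nroots)
    (h : (apps2 D Y (1 <<< c) ^^^ (1 <<< c)).testBit p = true) : xProd F D Y ≠ 1 := by
  intro h1
  have h2 := apps2_sound (F := F) D Y hY (1 <<< c)
  rw [h1, Matrix.one_mulVec] at h2
  -- the row with code `p`
  obtain ⟨row, hrow⟩ : ∃ row : D.Idx, codeOf D row = p := by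
    by_cases hpr : p < D.rank
    · exact ⟨Sum.inl ⟨p, hpr⟩, rfl⟩
    · refine ⟨Sum.inr ⟨p - D.rank, by omega⟩, ?_⟩
      show D.rank + (p - D.rank) = p
      omega
  have h3 := congrFun h2 row
  unfold vec2 at h3
  rw [hrow] at h3
  rw [Nat.testBit_xor] at h
  cases ha : (apps2 D Y (1 <<< c)).testBit p <;> cases hb : (1 <<< c).testBit p <;>
    rw [ha, hb] at h <;> simp [ha, hb] at h3 h

end Cfsg.Agent.Lib.Helper25
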