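import Mathlib
import Cfsg.Agent.Lib.Helper25.InvChk
import Cfsg.Agent.Lib.Helper39.InvCM
import Cfsg.Agent.Lib.Helper92.InvLA

/-!
# Involution classes (S2175/S2174, architect helper25): piece CK

A fixed-vector certificate for one product of root elements and a range certificate for another,
of total length more than the dimension, show that the two products are not conjugate.
-/

set_option autoImplicit false

namespace Cfsg.Agent.Lib.Helper25

open Cfsg Cfsg.Lie Matrix Cfsg.Agent.Lib.Helper24

variable {F : Type*} [Field F]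

theorem ck_triOK (L : List (ℕ × ℕ)) (h : triOK L = true) :
    (∀ i (hi : i < L.length), (L[i]).2.testBit (L[i]).1 = true) ∧
    (∀ i j (hi : i < L.length) (hj : j < L.length), i < j →
      (L[j]).2.testBit (L[i]).1 = false) := by
  induction L with
  | nil =>
    constructor
    · intro i hi
      exact absurd hi (by simp)
    · intro i j hi
      exact absurd hi (by simp)
  | cons e rest ih =>
    simp only [triOK, Bool.and_eq_true, List.all_eq_true, Bool.not_eq_true'] at h
    obtain ⟨⟨h1, h2⟩, h3⟩ := h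
    obtain ⟨ih1, ih2⟩ := ih h3
    constructor
    · intro i hi
      cases i with
      | zero => exact h1
      | succ i => exact ih1 i (by simpa using hi)
    · intro i j hi hj hij
      cases j with
      | zero => omega
      | succ j =>
        cases i with
        | zero => exact h2 _ (List.getElem_mem _)
        | succ i => exact ih2 i j _ _ (by omega)

theorem ck_exists_row (D : ChevalleyDatum) (p : ℕ) (hp : p < D.rank + D.nroots) :
    ∃ row : D.Idx, codeOf D row = p := by
  by_cases h : p < D.rank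
  · exact ⟨Sum.inl ⟨p, h⟩, rfl⟩
  · refine ⟨Sum.inr ⟨p - D.rank, by omega⟩, ?_⟩
    show D.rank + (p - D.rank) = p
    omega

theorem ck_testBit_lt (x n p : ℕ) (hx : x < 2 ^ n) (hp : x.testBit p = true) : p < n := by
  by_contra hcon
  have h1 : x < 2 ^ p := lt_of_lt_of_le hx (Nat.pow_le_pow_right (by norm_num) (by omega))
  rw [Nat.testBit_lt_two_pow h1] at hp
  exact Bool.false_ne_true hp

theorem ck_card (D : ChevalleyDatum) : Fintype.card D.Idx = D.rank + D.nroots := by
  show Fintype.card (Fin D.rank ⊕ Fin D.nroots) = D.rank + D.nroots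
  rw [Fintype.card_sum, Fintype.card_fin, Fintype.card_fin]

theorem inv_chev_not_conj [CharP F 2] (D : ChevalleyDatum) (Y₁ Y₂ : List ℕ)
    (h₁ : ∀ r ∈ Y₁, r < D.nroots) (h₂ : ∀ r ∈ Y₂, r < D.nroots) (K R : List (ℕ × ℕ))
    (hK : fixChk2 D Y₁ K = true) (hR : ranChk2 D Y₂ R = true)
    (hlen : D.rank + D.nroots < K.length + R.length) (P : GL D.Idx F) :
    (P : Matrix D.Idx D.Idx F) * xProd F D Y₁ ≠ xProd F D Y₂ * (P : Matrix D.Idx D.Idx F) := by
  classical
  intro hconj
  unfold fixChk2 at hK
  unfold ranChk2 at hR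
  rw [Bool.and_eq_true] at hK hR
  obtain ⟨hK1, hK2⟩ := hK
  obtain ⟨hR1, hR2⟩ := hR
  rw [List.all_eq_true] at hK1 hR1
  obtain ⟨hKd, hKz⟩ := ck_triOK K hK2
  obtain ⟨hRd, hRz⟩ := ck_triOK _ hR2
  have hKmem : ∀ j : Fin K.length, apps2 D Y₁ (K[j.val]).2 = (K[j.val]).2 ∧
      (K[j.val]).2 < 2 ^ (D.rank + D.nroots) := by
    intro j
    have h := hK1 _ (List.getElem_mem j.isLt)
    rw [Bool.and_eq_true, beq_iff_eq, decide_eq_true_eq] at h
    exact h
  have hRmem : ∀ j : Fin R.length, (R[j.val]).1 < D.rank + D.nroots ∧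
      (R[j.val]).2 < D.rank + D.nroots := by
    intro j
    have h := hR1 _ (List.getElem_mem j.isLt)
    rw [Bool.and_eq_true, decide_eq_true_eq, decide_eq_true_eq] at h
    exact h
  have hKp : ∀ j : Fin K.length, ∃ row : D.Idx, codeOf D row = (K[j.val]).1 := fun j =>
    ck_exists_row D _ (ck_testBit_lt _ _ _ (hKmem j).2 (hKd j.val j.isLt))
  have hRp : ∀ j : Fin R.length, ∃ row : D.Idx, codeOf D row = (R[j.val]).2 := fun j =>
    ck_exists_row D _ (hRmem j).2
  choose pK hpK using hKp
  choose pR hpR using hRp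
  have hv : LinearIndependent F (fun j : Fin K.length => vec2 F D (K[j.val]).2) := by
    apply inv_linIndep_tri K.length _ pK
    · intro a
      show (if (K[a.val]).2.testBit (codeOf D (pK a)) then (1 : F) else 0) ≠ 0
      rw [hpK a, hKd a.val a.isLt]
      simp
    · intro a b hab
      show (if (K[b.val]).2.testBit (codeOf D (pK a)) then (1 : F) else 0) = 0
      rw [hpK a, hKz a.val b.val a.isLt b.isLt hab]
      simp
  have hfix : ∀ j : Fin K.length,
      (xProd F D Y₁) *ᵥ (vec2 F D (K[j.val]).2) = vec2 F D (K[j.val]).2 := by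
    intro j
    rw [apps2_sound D Y₁ h₁, (hKmem j).1]
  have hlenR : (R.map fun e => (e.2, apps2 D Y₂ (1 <<< e.1) ^^^ (1 <<< e.1))).length = R.length :=
    List.length_map _
  have hwEq : ∀ j : Fin R.length,
      (xProd F D Y₂) *ᵥ (vec2 F D (1 <<< (R[j.val]).1)) - vec2 F D (1 <<< (R[j.val]).1) =
        vec2 F D (apps2 D Y₂ (1 <<< (R[j.val]).1) ^^^ (1 <<< (R[j.val]).1)) := by
    intro j
    rw [apps2_sound D Y₂ h₂, cm_vec2_xor]
    funext row
    rw [Pi.sub_apply, Pi.add_apply]
    exact CharTwo.sub_eq_add _ _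
  have hw : LinearIndependent F (fun j : Fin R.length =>
      (xProd F D Y₂) *ᵥ (vec2 F D (1 <<< (R[j.val]).1)) - vec2 F D (1 <<< (R[j.val]).1)) := by
    apply inv_linIndep_tri R.length _ pR
    · intro a
      rw [hwEq a]
      show (if (apps2 D Y₂ (1 <<< (R[a.val]).1) ^^^ (1 <<< (R[a.val]).1)).testBit
        (codeOf D (pR a)) then (1 : F) else 0) ≠ 0
      have h := hRd a.val (by rw [hlenR]; exact a.isLt)
      rw [List.getElem_map] at h
      rw [hpR a, h]
      simp
    · intro a b hab
      rw [hwEq b]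
      show (if (apps2 D Y₂ (1 <<< (R[b.val]).1) ^^^ (1 <<< (R[b.val]).1)).testBit
        (codeOf D (pR a)) then (1 : F) else 0) = 0
      have h := hRz a.val b.val (by rw [hlenR]; exact a.isLt) (by rw [hlenR]; exact b.isLt) hab
      rw [List.getElem_map, List.getElem_map] at h
      rw [hpR a, h]
      simp
  refine inv_not_conj_of_cert (xProd F D Y₁) (xProd F D Y₂) (P : Matrix D.Idx D.Idx F)
    ((Matrix.isUnit_iff_isUnit_det _).1 P.isUnit) hconj K.length R.length _ hv hfix _ hw ?_
  rw [ck_card]
  exact hlen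

end Cfsg.Agent.Lib.Helper25
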