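import Cfsg.Agent.Lib.Helper39.OrdMax
import Cfsg.Agent.Lib.Helper38.CosetCover

/-!
Orders and simplicity of groups presented by involutions, from verified coset-enumeration
certificates: chains of pointwise stabilisers with orbit trees over words, Iwasawa's criterion
for an abelian subgroup, maximality from connectedness of the suborbits, and upper bounds through
a subgroup of a sub-presentation.
-/

namespace Cfsg.Agent.Lib.Helper39.Ord

open Cfsg.Agent.Lib.Helper38

section Chain

variable (G : Type*) [Group G] {X : Type*} [MulAction G X]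

/-- pointwise stabiliser of the points labelled by a list -/
def PSt (F : ℕ → X) (ps : List ℕ) : Subgroup G where
  carrier := {g | ∀ p ∈ ps, g • F p = F p}
  mul_mem' := by
    intro a b ha hb p hp
    rw [mul_smul, hb p hp, ha p hp]
  one_mem' := by
    intro p _
    exact one_smul _ _
  inv_mem' := by
    intro a ha p hp
    calc a⁻¹ • F p = a⁻¹ • (a • F p) := by rw [ha p hp]
      _ = F p := inv_smul_smul a _

variable {G}

theorem mem_PSt {F : ℕ → X} {ps : List ℕ} {g : G} :
    g ∈ PSt G F ps ↔ ∀ p ∈ ps, g • F p = F p := Iff.rfl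

theorem PSt_nil (F : ℕ → X) : PSt G F [] = ⊤ := by
  ext g
  simp [mem_PSt]

theorem PSt_cons_le (F : ℕ → X) (p : ℕ) (ps : List ℕ) : PSt G F (p :: ps) ≤ PSt G F ps :=
  fun _ hg q hq => hg q (List.mem_cons_of_mem _ hq)

variable (G)

/-- a chain of base points with lower bounds for the orbit lengths -/
def ChainF (F : ℕ → X) : List ℕ → List (ℕ × ℕ) → Prop
  | _, [] => True
  | ps, (p, m) :: L => m ≤ (MulAction.orbit (PSt G F ps) (F p)).ncard ∧ ChainF F (p :: ps) L

variable {G}

theorem chainF_card [Finite G] (F : ℕ → X) : ∀ (L : List (ℕ × ℕ)) (ps : List ℕ),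
    ChainF G F ps L →
    (L.map Prod.snd).prod * Nat.card (PSt G F ((L.map Prod.fst).reverse ++ ps)) ≤
      Nat.card (PSt G F ps)
  | [], ps, _ => by simp
  | (p, m) :: L, ps, h => by
    have h1 : m * Nat.card (PSt G F (p :: ps)) ≤ Nat.card (PSt G F ps) :=
      lb_step' (PSt G F ps) (PSt G F (p :: ps)) (PSt_cons_le F p ps) (F p)
        (fun k hk => hk p List.mem_cons_self) h.1 le_rfl
    have h2 := chainF_card F L (p :: ps) h.2
    simp only [List.map_cons, List.prod_cons, List.reverse_cons, List.append_assoc,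
      List.singleton_append]
    calc m * (L.map Prod.snd).prod * Nat.card (PSt G F ((L.map Prod.fst).reverse ++ p :: ps))
        = m * ((L.map Prod.snd).prod *
            Nat.card (PSt G F ((L.map Prod.fst).reverse ++ p :: ps))) := by ring
      _ ≤ m * Nat.card (PSt G F (p :: ps)) := Nat.mul_le_mul_left _ h2
      _ ≤ _ := h1

/-- **Order and base.** If the orbit lengths along a chain of base points multiply up to an upper
bound for the order, then the order is this product and the points form a base. -/
theorem order_baseF [Finite G] (F : ℕ → X) (L : List (ℕ × ℕ)) (hch : ChainF G F [] L)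
    (hub : Nat.card G ≤ (L.map Prod.snd).prod) :
    Nat.card G = (L.map Prod.snd).prod ∧
      ∀ g : G, (∀ p ∈ L.map Prod.fst, g • F p = F p) → g = 1 := by
  have h := chainF_card F L [] hch
  rw [List.append_nil, PSt_nil, Subgroup.card_top] at h
  have hGpos : 0 < Nat.card G := Nat.card_pos
  have hPpos : 0 < (L.map Prod.snd).prod := lt_of_lt_of_le hGpos hub
  have hK1 : 1 ≤ Nat.card (PSt G F (L.map Prod.fst).reverse) := Nat.card_pos
  have hKle : Nat.card (PSt G F (L.map Prod.fst).reverse) ≤ 1 := by
    by_contra hc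
    have hc' : 2 ≤ Nat.card (PSt G F (L.map Prod.fst).reverse) := by omega
    have h5 : (L.map Prod.snd).prod * 2 ≤
        (L.map Prod.snd).prod * Nat.card (PSt G F (L.map Prod.fst).reverse) :=
      Nat.mul_le_mul_left _ hc'
    omega
  have hK : Nat.card (PSt G F (L.map Prod.fst).reverse) = 1 := le_antisymm hKle hK1
  constructor
  · rw [hK, mul_one] at h
    exact le_antisymm hub h
  · intro g hg
    have hgK : g ∈ PSt G F (L.map Prod.fst).reverse := fun p hp => hg p (List.mem_reverse.mp hp)
    rw [Subgroup.card_eq_one.mp hK] at hgK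
    exact Subgroup.mem_bot.mp hgK

end Chain

/-! ### Orbit trees over words -/

/-- an orbit tree: the entries `(c, p, j)` say that the new class `c` is the image of the earlier
class `p` under the word number `j` -/
noncomputable def chkTreeW (C : Cert) (Ws : List (List ℕ)) : List (ℕ × ℕ × ℕ) → List ℕ → Bool
  | [], _ => true
  | (c, p, j) :: L, seen =>
    band (seen.contains p) (band (Nat.blt c C.n) (band (Nat.beq (ev C (Ws.getD j []) p) c)
      (band (!seen.contains c) (chkTreeW C Ws L (c :: seen)))))

section Tree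

variable {C : Cert} {G : Type*} [Group G] {γ : ℕ → G} {X : Type*} [MulAction G X] {F : ℕ → X}

theorem getD_prod_mem (T : Subgroup G) (Ws : List (List ℕ))
    (hWs : ∀ w ∈ Ws, (w.map γ).prod ∈ T) (j : ℕ) : ((Ws.getD j []).map γ).prod ∈ T := by
  by_cases hj : j < Ws.length
  · rw [List.getD_eq_getElem _ _ hj]
    exact hWs _ (List.getElem_mem hj)
  · rw [List.getD_eq_default _ _ (not_lt.mp hj)]
    simp

theorem chkTreeW_sound (hA : TAct C γ F) (T : Subgroup G) (Ws : List (List ℕ))
    (hWs : ∀ w ∈ Ws, (w.map γ).prod ∈ T) (root : ℕ) :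
    ∀ (L : List (ℕ × ℕ × ℕ)) (seen : List ℕ), chkTreeW C Ws L seen = true → seen.Nodup →
      (∀ c ∈ seen, c < C.n ∧ F c ∈ MulAction.orbit T (F root)) →
      ∃ fin : List ℕ, fin.Nodup ∧ fin.length = seen.length + L.length ∧
        ∀ c ∈ fin, c < C.n ∧ F c ∈ MulAction.orbit T (F root)
  | [], seen, _, hnd, hs => ⟨seen, hnd, by simp, hs⟩
  | (c, p, j) :: L, seen, h, hnd, hs => by
    unfold chkTreeW at h
    simp only [band_iff, blt_iff, beq_iff] at h
    obtain ⟨h1, h2, h3, h4, h5⟩ := h
    have hp : p ∈ seen := by simpa using h1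
    have hc : c ∉ seen := by simpa using h4
    obtain ⟨hpn, hpo⟩ := hs p hp
    have hco : F c ∈ MulAction.orbit T (F root) := by
      have e := ev_smul hA (Ws.getD j []) p hpn (by rw [h3]; exact h2)
      rw [h3] at e
      have e2 : F c = (⟨((Ws.getD j []).map γ).prod, getD_prod_mem T Ws hWs j⟩ : T) • F p :=
        e.symm
      rw [e2]
      exact MulAction.mem_orbit_of_mem_orbit _ hpo
    obtain ⟨fin, f1, f2, f3⟩ := chkTreeW_sound hA T Ws hWs root L (c :: seen) h5
      (List.nodup_cons.mpr ⟨hc, hnd⟩) (by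
        intro c' hc'
        rcases List.mem_cons.mp hc' with rfl | hc'
        · exact ⟨h2, hco⟩
        · exact hs c' hc')
    refine ⟨fin, f1, ?_, f3⟩
    rw [f2]
    simp only [List.length_cons]
    omega

/-- an orbit tree over words of a subgroup gives a lower bound for the length of the orbit -/
theorem tree_orbitW [Finite X] (hA : TAct C γ F) (T : Subgroup G) (Ws : List (List ℕ))
    (hWs : ∀ w ∈ Ws, (w.map γ).prod ∈ T) (root : ℕ) (hroot : root < C.n)
    (L : List (ℕ × ℕ × ℕ)) (h : chkTreeW C Ws L [root] = true) :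
    L.length + 1 ≤ (MulAction.orbit T (F root)).ncard := by
  classical
  obtain ⟨fin, f1, f2, f3⟩ := chkTreeW_sound hA T Ws hWs root L [root] h
    (List.nodup_singleton _) (by
      intro c hc
      rw [List.mem_singleton] at hc
      subst hc
      exact ⟨hroot, MulAction.mem_orbit_self _⟩)
  have hsub : ((fin.toFinset.image F : Finset X) : Set X) ⊆ MulAction.orbit T (F root) := by
    intro x hx
    rw [Finset.mem_coe, Finset.mem_image] at hx
    obtain ⟨c, hc, rfl⟩ := hx
    exact (f3 c (List.mem_toFinset.mp hc)).2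
  have hcard : (fin.toFinset.image F).card = L.length + 1 := by
    rw [Finset.card_image_of_injOn, List.toFinset_card_of_nodup f1, f2]
    · simp; omega
    · intro a ha b hb hab
      exact hA.inj a (f3 a (List.mem_toFinset.mp ha)).1 b (f3 b (List.mem_toFinset.mp hb)).1 hab
  have h2 := Set.ncard_le_ncard hsub (Set.toFinite _)
  rw [Set.ncard_coe_finset, hcard] at h2
  exact h2

/-- the words `Ws` fix the classes `ps` -/
noncomputable def fixAll (C : Cert) (Ws : List (List ℕ)) (ps : List ℕ) : Bool :=
  Ws.all (fun w => ps.all (fun p => fixB C w p))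

/-- one level of a chain: an orbit tree over words fixing the earlier base points -/
theorem reach_tree [Finite X] (hA : TAct C γ F) (ps : List ℕ) (Ws : List (List ℕ))
    (hfix : fixAll C Ws ps = true) (root : ℕ) (hroot : root < C.n)
    (L : List (ℕ × ℕ × ℕ)) (h : chkTreeW C Ws L [root] = true) {m : ℕ} (hm : L.length + 1 = m) :
    m ≤ (MulAction.orbit (PSt G F ps) (F root)).ncard := by
  subst hm
  refine tree_orbitW hA (PSt G F ps) Ws ?_ root hroot L h
  intro w hw p hp
  unfold fixAll at hfix
  exact fix_of hA (List.all_eq_true.mp (List.all_eq_true.mp hfix w hw) p hp)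

/-- the top level of a chain: a transitive action -/
theorem top_orbit [Finite X] [MulAction.IsPretransitive G X] (hA : TAct C γ F) (root : ℕ) :
    C.n ≤ (MulAction.orbit (PSt G F []) (F root)).ncard := by
  have horb : MulAction.orbit (PSt G F []) (F root) = Set.univ := by
    rw [Set.eq_univ_iff_forall]
    intro y
    obtain ⟨g, hg⟩ := MulAction.exists_smul_eq G (F root) y
    exact ⟨⟨g, by rw [PSt_nil]; exact Subgroup.mem_top g⟩, hg⟩
  rw [horb, Set.ncard_univ]
  have hbij : Function.Bijective (fun i : Fin C.n => F i) := by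
    constructor
    · intro i j hij
      exact Fin.ext (hA.inj i i.2 j j.2 hij)
    · intro x
      obtain ⟨c, hc, rfl⟩ := hA.surj x
      exact ⟨⟨c, hc⟩, rfl⟩
  rw [← Nat.card_congr (Equiv.ofBijective _ hbij), Nat.card_fin]

/-- a word in generators lying in a subgroup lies in the subgroup -/
theorem word_mem (N : Subgroup G) : ∀ w : List ℕ, (∀ s ∈ w, γ s ∈ N) → (w.map γ).prod ∈ N
  | [], _ => by simp
  | a :: w, h => by
    rw [List.map_cons, List.prod_cons]
    exact mul_mem (h a List.mem_cons_self) (word_mem N w (fun s hs => h s (List.mem_cons_of_mem _ hs)))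

end Tree

/-! ### Iwasawa's criterion for an abelian subgroup -/

section Iwasawa

variable {G : Type*} [Group G]

/-- **Iwasawa's criterion**: a perfect group with a maximal subgroup `H` of trivial core
normalising an abelian subgroup whose conjugates generate the group is simple. -/
theorem simple_of_iwasawa' [Nontrivial G] (H A : Subgroup G)
    (hmax : ∀ M : Subgroup G, H ≤ M → M = H ∨ M = ⊤)
    (hA : ∀ h ∈ H, ∀ x ∈ A, h * x * h⁻¹ ∈ A)
    (hAc : ∀ x ∈ A, ∀ y ∈ A, x * y = y * x)
    (hncl : Subgroup.normalClosure (A : Set G) = ⊤)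
    (hperf : ∀ N : Subgroup G, N.Normal → (∀ a b : G, a * b * a⁻¹ * b⁻¹ ∈ N) → N = ⊤)
    (hcore : ∀ N : Subgroup G, N.Normal → N ≤ H → N = ⊥) : IsSimpleGroup G := by
  refine { toNontrivial := ‹Nontrivial G›, eq_bot_or_eq_top_of_normal := fun N hN => ?_ }
  rcases hmax (N ⊔ H) le_sup_right with hM | hM
  · left
    exact hcore N hN (by rw [← hM]; exact le_sup_left)
  · right
    apply hperf N hN
    have hconj : ∀ g : G, ∀ x ∈ A, g * x * g⁻¹ ∈ N ⊔ A := by
      intro g x hx
      have hg : g ∈ N ⊔ H := by rw [hM]; exact Subgroup.mem_top g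
      obtain ⟨n, hn, k, hk, rfl⟩ := Subgroup.mem_sup_of_normal_left.mp hg
      have ha := hA k hk x hx
      have e : n * k * x * (n * k)⁻¹ =
          (n * ((k * x * k⁻¹) * n⁻¹ * (k * x * k⁻¹)⁻¹)) * (k * x * k⁻¹) := by group
      rw [e]
      exact Subgroup.mul_mem_sup (mul_mem hn (hN.conj_mem _ (inv_mem hn) _)) ha
    have htop : N ⊔ A = ⊤ := by
      rw [eq_top_iff, ← hncl]
      show Subgroup.closure (Group.conjugatesOfSet (A : Set G)) ≤ _
      rw [Subgroup.closure_le]
      intro x hx
      rw [Group.mem_conjugatesOfSet_iff] at hx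
      obtain ⟨a, ha, hax⟩ := hx
      obtain ⟨c, rfl⟩ := isConj_iff.mp hax
      exact hconj c a ha
    have hcomm : ∀ a b : G, (QuotientGroup.mk a : G ⧸ N) * QuotientGroup.mk b =
        QuotientGroup.mk b * QuotientGroup.mk a := by
      intro a b
      have ha : a ∈ N ⊔ A := by rw [htop]; exact Subgroup.mem_top a
      have hb : b ∈ N ⊔ A := by rw [htop]; exact Subgroup.mem_top b
      obtain ⟨n1, hn1, z1, hz1, rfl⟩ := Subgroup.mem_sup_of_normal_left.mp ha
      obtain ⟨n2, hn2, z2, hz2, rfl⟩ := Subgroup.mem_sup_of_normal_left.mp hb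
      have e1 : (QuotientGroup.mk n1 : G ⧸ N) = 1 := (QuotientGroup.eq_one_iff n1).mpr hn1
      have e2 : (QuotientGroup.mk n2 : G ⧸ N) = 1 := (QuotientGroup.eq_one_iff n2).mpr hn2
      rw [QuotientGroup.mk_mul, QuotientGroup.mk_mul, e1, e2, one_mul, one_mul,
        ← QuotientGroup.mk_mul, ← QuotientGroup.mk_mul, hAc z1 hz1 z2 hz2]
    intro a b
    rw [← QuotientGroup.eq_one_iff, QuotientGroup.mk_mul, QuotientGroup.mk_mul,
      QuotientGroup.mk_mul, hcomm a b, QuotientGroup.mk_inv, QuotientGroup.mk_inv]
    group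

/-- a subgroup generated by involutions which conjugate the generators of `⟨U⟩` into `⟨U⟩`
normalises `⟨U⟩` -/
theorem conj_mem_of_closure_invol {T U : Set G}
    (hT : ∀ t ∈ T, t * t = 1 ∧ ∀ u ∈ U, t * u * t⁻¹ ∈ Subgroup.closure U) :
    ∀ h ∈ Subgroup.closure T, ∀ x ∈ Subgroup.closure U, h * x * h⁻¹ ∈ Subgroup.closure U := by
  have hle : Subgroup.closure T ≤ Subgroup.normalizer (Subgroup.closure U : Set G) := by
    rw [Subgroup.closure_le]
    intro t ht
    obtain ⟨ht2, htU⟩ := hT t ht
    have htinv : t⁻¹ = t := inv_eq_of_mul_eq_one_left ht2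
    have key : ∀ x ∈ Subgroup.closure U, t * x * t⁻¹ ∈ Subgroup.closure U := by
      intro x hx
      induction hx using Subgroup.closure_induction with
      | mem y hy => exact htU y hy
      | one => simp
      | mul a b _ _ ha hb =>
        have e : t * (a * b) * t⁻¹ = (t * a * t⁻¹) * (t * b * t⁻¹) := by group
        rw [e]
        exact mul_mem ha hb
      | inv a _ ha =>
        have e : t * a⁻¹ * t⁻¹ = (t * a * t⁻¹)⁻¹ := by group
        rw [e]
        exact inv_mem ha
    rw [SetLike.mem_coe, Subgroup.mem_normalizer_iff]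
    intro x
    constructor
    · exact key x
    · intro hx
      have h2 := key _ hx
      have e : t * (t * x * t⁻¹) * t⁻¹ = x := by
        rw [htinv]
        calc t * (t * x * t) * t = (t * t) * x * (t * t) := by group
          _ = x := by rw [ht2, one_mul, mul_one]
      rw [e] at h2
      exact h2
  intro h hh x hx
  exact (Subgroup.mem_normalizer_iff.mp (hle hh) x).mp hx

/-- a subgroup generated by commuting elements is commutative -/
theorem comm_of_closure {U : Set G} (h : ∀ x ∈ U, ∀ y ∈ U, x * y = y * x) :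
    ∀ x ∈ Subgroup.closure U, ∀ y ∈ Subgroup.closure U, x * y = y * x := by
  have h1 : ∀ z ∈ U, ∀ y ∈ Subgroup.closure U, y * z = z * y :=
    fun z hz => comm_closure (fun x hx => h x hx z hz)
  intro x hx y hy
  exact comm_closure (z := y) (T := U) (fun u hu => (h1 u hu y hy).symm) x hx

end Iwasawa

/-! ### Upper bound through a subgroup of a sub-presentation -/

section Upper

variable {G : Type*} [Group G]

/-- the homomorphism from a sub-presentation -/
theorem exists_hom (γ : ℕ → G) (hγ : ∀ s, γ s * γ s = 1)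
    (words : List (List ℕ)) (hrelw : ∀ w ∈ words, (w.map γ).prod = 1)
    (g' : ℕ) (words' : List (List ℕ)) (act : ℕ → Bool)
    (hact : ∀ s, g' ≤ s → act s = false)
    (hw' : ∀ w ∈ words', okw words act w = true) :
    ∃ ψ : WP g' words' →* G,
      ∀ s, ψ (WP.gen g' words' s) = if act s = true then γ s else 1 := by
  classical
  let f : ℕ → G := fun s => if act s = true then γ s else 1
  have hf2 : ∀ s, f s * f s = 1 := by
    intro s
    show (if act s = true then γ s else 1) * (if act s = true then γ s else 1) = 1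
    split_ifs
    · exact hγ s
    · exact one_mul 1
  have hfge : ∀ s, g' ≤ s → f s = 1 := by
    intro s hs
    show (if act s = true then γ s else 1) = 1
    rw [if_neg (by rw [hact s hs]; exact Bool.false_ne_true)]
  have hfact : ∀ w : List ℕ, w.all act = true → w.map f = w.map γ := by
    intro w hw
    apply List.map_congr_left
    intro s hs
    show (if act s = true then γ s else 1) = γ s
    rw [if_pos (List.all_eq_true.mp hw s hs)]
  have hfw : ∀ w ∈ words', (w.map f).prod = 1 := by
    intro w hw
    have h := hw' w hw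
    unfold okw at h
    rw [Bool.or_eq_true] at h
    rcases h with h | h
    · match w, h with
      | [s], h =>
        have hs : act s = false := by simpa using h
        show (if act s = true then γ s else 1) * 1 = 1
        rw [if_neg (by rw [hs]; exact Bool.false_ne_true), one_mul]
    · rw [Bool.and_eq_true, decide_eq_true_eq] at h
      rw [hfact w h.2]
      exact hrelw w h.1
  exact ⟨WP.lift g' words' f hf2 hfge hfw, fun s => WP.lift_gen g' words' f hf2 hfge hfw s⟩

/-- one step of the upper bound, through a subgroup of the sub-presented group generated by the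
same words -/
theorem ub_step_sub {C : Cert} {γ : ℕ → G} {H : Subgroup G}
    (hP : Cert.Pres C γ H) (hC : Cert.Checks C)
    (words : List (List ℕ)) (hrelw : ∀ w ∈ words, (w.map γ).prod = 1)
    (g' : ℕ) (words' : List (List ℕ)) (act : ℕ → Bool)
    (hact : ∀ s, g' ≤ s → act s = false)
    (hw' : ∀ w ∈ words', okw words act w = true)
    [Finite (WP g' words')]
    {CP : Cert} {HP : Subgroup (WP g' words')}
    (hPP : Cert.Pres CP (WP.gen g' words') HP) (hCP : Cert.Checks CP)
    (k : ℕ) (hk : C.nw = C.nsub + k) (hkP : CP.nw = CP.nsub + k)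
    (hsame : ∀ j < k, C.wordL (C.nsub + j) = CP.wordL (CP.nsub + j) ∧
      (C.wordL (C.nsub + j)).all act = true) :
    Finite G ∧ Nat.card G * CP.n ≤ C.n * Nat.card (WP g' words') := by
  obtain ⟨ψ, hψ⟩ := exists_hom γ hP.hγ words hrelw g' words' act hact hw'
  have hle : H ≤ HP.map ψ := by
    rw [hP.hH, Subgroup.closure_le]
    rintro _ ⟨wid, h1, h2, rfl⟩
    obtain ⟨j, rfl⟩ := Nat.exists_eq_add_of_le h1
    have hj : j < k := by omega
    obtain ⟨e1, e2⟩ := hsame j hj
    refine ⟨((CP.wordL (CP.nsub + j)).map (WP.gen g' words')).prod,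
      Cert.hword_mem hPP (Nat.le_add_right _ _) (by omega), ?_⟩
    rw [hom_word ψ (WP.gen g' words') γ act hψ _ (by rw [← e1]; exact e2), e1]
  have hfin : Finite (HP.map ψ) :=
    Finite.of_surjective (fun x : HP => (⟨ψ x, Subgroup.mem_map_of_mem ψ x.2⟩ : HP.map ψ)) (by
      rintro ⟨y, x, hx, rfl⟩
      exact ⟨⟨x, hx⟩, rfl⟩)
  have : Finite H := Finite.of_injective (Subgroup.inclusion hle) (Subgroup.inclusion_injective hle)
  have h1 : Nat.card H ≤ Nat.card HP :=
    (Subgroup.card_le_of_le hle).trans
      (Nat.card_le_card_of_surjective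
        (fun x : HP => (⟨ψ x, Subgroup.mem_map_of_mem ψ x.2⟩ : HP.map ψ)) (by
          rintro ⟨y, x, hx, rfl⟩
          exact ⟨⟨x, hx⟩, rfl⟩))
  have h2 : C.n * Nat.card H = Nat.card G := by
    rw [← Cert.index_eq hP hC]; exact Subgroup.index_mul_card H
  have h3 : CP.n * Nat.card HP = Nat.card (WP g' words') := by
    rw [← Cert.index_eq hPP hCP]; exact Subgroup.index_mul_card HP
  have hn : 0 < C.n := (C.chkG_spec hC.hG).2.2.1
  have hH0 : Nat.card H ≠ 0 := Nat.card_pos.ne'
  refine ⟨Nat.finite_of_card_ne_zero (by rw [← h2]; exact Nat.mul_ne_zero hn.ne' hH0), ?_⟩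
  rw [← h2, ← h3]
  calc C.n * Nat.card H * CP.n ≤ C.n * Nat.card HP * CP.n :=
        Nat.mul_le_mul_right _ (Nat.mul_le_mul_left _ h1)
    _ = C.n * (CP.n * Nat.card HP) := by ring

end Upper

/-! ### Maximality from the connectedness of the suborbits -/

/-- the components reached from the components in `R`: for an entry `(c, i)` with the class `c` in
a component of `R`, the component of the image of `c` under the word number `i` is added -/
noncomputable def reachL (C : Cert) (ws : List (List ℕ)) : List (ℕ × ℕ) → List ℕ → List ℕ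
  | [], R => R
  | (c, i) :: E, R =>
    reachL C ws E (sel (band (Nat.blt c C.n) (band (R.contains (C.comp c))
      (Nat.blt (ev C (ws.getD i []) c) C.n))) (C.comp (ev C (ws.getD i []) c) :: R) R)

/-- the check for the component `j`: the word `w` leads from `0` into the component, and all
components are reached -/
noncomputable def chkMaxJ (C : Cert) (j : ℕ) (w : List ℕ) (E : List (ℕ × ℕ)) : Bool :=
  band (Nat.blt (ev C w 0) C.n) (band (Nat.beq (C.comp (ev C w 0)) j)
    (allB C.ncomp (fun k => (reachL C [w, w.reverse] E [0]).contains k)))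

section Max

variable {C : Cert} {G : Type*} [Group G] {γ : ℕ → G} {H : Subgroup G}

/-- two classes in the same component are related by an element of the subgroup -/
theorem same_comp (hP : Cert.Pres C γ H) (hC : Cert.Checks C) (hO : Cert.OChecks C)
    {c c' : ℕ} (hc : c < C.n) (hc' : c' < C.n) (h : C.comp c = C.comp c') :
    ∃ x ∈ H, x • C.F γ H c = C.F γ H c' := by
  obtain ⟨φ, hφ⟩ := hP.hφ
  have hH0 := Cert.phi_fix hP hC φ hφ
  have o1 := Cert.mem_orbit_root hP hC hO φ hφ hH0 _ c hc (Nat.lt_succ_self _)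
  have o2 := Cert.mem_orbit_root hP hC hO φ hφ hH0 _ c' hc' (Nat.lt_succ_self _)
  rw [← h] at o2
  obtain ⟨x1, e1⟩ := o1
  obtain ⟨x2, e2⟩ := o2
  refine ⟨(x2 : G) * (x1 : G)⁻¹, mul_mem x2.2 (inv_mem x1.2), ?_⟩
  have e1' : (x1 : G) • C.F γ H (C.root (C.comp c)) = C.F γ H c := e1
  have e2' : (x2 : G) • C.F γ H (C.root (C.comp c)) = C.F γ H c' := e2
  rw [mul_smul, ← e1', inv_smul_smul, e2']

theorem reachL_sound (hP : Cert.Pres C γ H) (hC : Cert.Checks C) (hO : Cert.OChecks C)
    (M : Subgroup G) (hHM : H ≤ M) (ws : List (List ℕ)) (hws : ∀ w ∈ ws, (w.map γ).prod ∈ M) :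
    ∀ (E : List (ℕ × ℕ)) (R : List ℕ),
      (∀ k ∈ R, ∀ c < C.n, C.comp c = k → ∃ m ∈ M, m • C.F γ H 0 = C.F γ H c) →
      ∀ k ∈ reachL C ws E R, ∀ c < C.n, C.comp c = k → ∃ m ∈ M, m • C.F γ H 0 = C.F γ H c
  | [], R, hR => hR
  | (c0, i) :: E, R, hR => by
    unfold reachL
    apply reachL_sound hP hC hO M hHM ws hws E
    rw [sel_eq_ite]
    split_ifs with hcond
    · rw [band_iff, band_iff, blt_iff, blt_iff] at hcond
      obtain ⟨h1, h2, h3⟩ := hcond
      have h2' : C.comp c0 ∈ R := by simpa using h2
      intro k hk c hc hck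
      rcases List.mem_cons.mp hk with rfl | hk
      · obtain ⟨m, hm, em⟩ := hR _ h2' c0 h1 rfl
        have hA := tact_of hP hC
        have e := ev_smul hA (ws.getD i []) c0 h1 h3
        obtain ⟨x, hx, ex⟩ := same_comp hP hC hO h3 hc hck.symm
        refine ⟨x * (((ws.getD i []).map γ).prod * m),
          mul_mem (hHM hx) (mul_mem (getD_prod_mem M ws hws i) hm), ?_⟩
        rw [mul_smul, mul_smul, em, e, ex]
      · exact hR k hk c hc hck
    · exact hR

/-- **Maximality.** If for every nontrivial suborbit `j` a word `w` leads from the base point into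
it and the subgroup generated by `H` and `w` is transitive (shown by `reachL`), then `H` is
maximal. -/
theorem maximal_of_reach (hP : Cert.Pres C γ H) (hC : Cert.Checks C) (hO : Cert.OChecks C)
    (hroot0 : C.root 0 = 0) (MD : List (List ℕ × List (ℕ × ℕ)))
    (h : allB C.ncomp (fun j => bor (Nat.beq j 0)
      (chkMaxJ C j (MD.getD j ([], [])).1 (MD.getD j ([], [])).2)) = true)
    (M : Subgroup G) (hHM : H ≤ M) : M = H ∨ M = ⊤ := by
  have hA := tact_of hP hC
  have hn : 0 < C.n := (C.chkG_spec hC.hG).2.2.1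
  have hF0 := Cert.F_zero (γ := γ) (H := H) hC
  have hγ := hP.hγ
  -- elements fixing the base coset lie in `H`
  have hfix0 : ∀ x : G, x • C.F γ H 0 = C.F γ H 0 → x ∈ H := by
    intro x hx
    rw [hF0, MulAction.Quotient.smul_mk, smul_eq_mul, mul_one, QuotientGroup.eq, mul_one,
      inv_mem_iff] at hx
    exact hx
  have hH0fix : ∀ x ∈ H, x • C.F γ H 0 = C.F γ H 0 := by
    intro x hx
    rw [hF0, MulAction.Quotient.smul_mk, smul_eq_mul, mul_one, QuotientGroup.eq, mul_one,
      inv_mem_iff]
    exact hx
  have hcomp0 : C.comp 0 = 0 := by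
    have h1 := (Cert.root_spec hO (k := 0) (lt_of_le_of_lt (Nat.zero_le _)
      (Cert.chkO_spec hO hn).2.1)).2
    rw [hroot0] at h1
    exact h1
  by_cases hMH : M ≤ H
  · left; exact le_antisymm hMH hHM
  · right
    obtain ⟨g, hgM, hgH⟩ := SetLike.not_le_iff_exists.mp hMH
    obtain ⟨c, hc, ec⟩ := hA.surj (g • C.F γ H 0)
    have hj : C.comp c < C.ncomp := (Cert.chkO_spec hO hc).2.1
    have hj0 : C.comp c ≠ 0 := by
      intro h0
      obtain ⟨x, hx, ex⟩ := same_comp hP hC hO hn hc (hcomp0.trans h0.symm)
      rw [hH0fix x hx] at ex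
      rw [← ex] at ec
      exact hgH (hfix0 g ec.symm)
    rw [allB_iff] at h
    have hchk := h _ hj
    rw [bor_iff, beq_iff] at hchk
    rcases hchk with hchk | hchk
    · exact absurd hchk hj0
    · unfold chkMaxJ at hchk
      rw [band_iff, band_iff, blt_iff, beq_iff, allB_iff] at hchk
      obtain ⟨k1, k2, k3⟩ := hchk
      -- the word lies in `M`
      have e := ev_smul hA (MD.getD (C.comp c) ([], [])).1 0 hn k1
      obtain ⟨x, hx, ex⟩ := same_comp hP hC hO k1 hc k2
      have hwM : (((MD.getD (C.comp c) ([], [])).1).map γ).prod ∈ M := by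
        have e3 : (x * (((MD.getD (C.comp c) ([], [])).1).map γ).prod)⁻¹ * g ∈ H := by
          apply hfix0
          rw [mul_smul, ← ec, ← ex, ← e, ← mul_smul x, inv_smul_smul]
        have e4 : (((MD.getD (C.comp c) ([], [])).1).map γ).prod =
            x⁻¹ * (g * ((x * (((MD.getD (C.comp c) ([], [])).1).map γ).prod)⁻¹ * g)⁻¹) := by
          group
        rw [e4]
        exact mul_mem (inv_mem (hHM hx)) (mul_mem hgM (inv_mem (hHM e3)))
      have hws : ∀ w ∈ [(MD.getD (C.comp c) ([], [])).1,
          ((MD.getD (C.comp c) ([], [])).1).reverse], (w.map γ).prod ∈ M := by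
        intro w hw
        rcases List.mem_cons.mp hw with rfl | hw
        · exact hwM
        · rw [List.mem_singleton] at hw
          subst hw
          rw [prod_reverse_inv hγ]
          exact inv_mem hwM
      have hreach := reachL_sound hP hC hO M hHM _ hws (MD.getD (C.comp c) ([], [])).2 [0] (by
        intro k hk c' hc' hck
        rw [List.mem_singleton] at hk
        subst hk
        obtain ⟨y, hy, ey⟩ := same_comp hP hC hO hn hc' (hcomp0.trans hck.symm)
        exact ⟨y, hHM hy, ey⟩)
      rw [eq_top_iff]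
      intro g' _
      obtain ⟨c', hc', ec'⟩ := hA.surj (g' • C.F γ H 0)
      have hk' := k3 (C.comp c') (Cert.chkO_spec hO hc').2.1
      have hmem : C.comp c' ∈ reachL C [(MD.getD (C.comp c) ([], [])).1,
          ((MD.getD (C.comp c) ([], [])).1).reverse] (MD.getD (C.comp c) ([], [])).2 [0] := by
        simpa using hk'
      obtain ⟨m, hm, em⟩ := hreach _ hmem c' hc' rfl
      have e5 : m⁻¹ * g' ∈ H := by
        apply hfix0
        rw [mul_smul, ← ec', ← em, inv_smul_smul]
      have e6 : g' = m * (m⁻¹ * g') := by group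
      rw [e6]
      exact mul_mem hm (hHM e5)

end Max

end Cfsg.Agent.Lib.Helper39.Ord
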