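import Mathlib
import Cfsg.Agent.Lib.Helper10.BWDefs
import Cfsg.Agent.Lib.Helper83.IrrBasic

/-!
# S0997 project BW, piece BW-OMINV (helper10's board): `om P χ g⁻¹ = conj (om P χ g)`.
-/

set_option autoImplicit false
set_option linter.style.haveILetI false

namespace Cfsg.Agent.Lib.Helper10.BW

open Cfsg
open Cfsg.Agent.Lib.Helper83 (trivIrr)
open Cfsg.Agent.Lib.Helper10.BR (psum DOut)
open scoped ComplexConjugate

universe u

variable {G : Type u} [Group G] [Fintype G]

/-- BW-OMINV -/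
theorem om_inv (P : Subgroup G) (χ : IrrCharacter G) (g : G) :
    om P (χ : G → ℂ) g⁻¹ = conj (om P (χ : G → ℂ) g) := by
  classical
  haveI : Fintype P := Fintype.ofFinite P
  unfold om
  rw [Cfsg.Agent.Lib.Helper10.BR.psum_eq_sum, Cfsg.Agent.Lib.Helper10.BR.psum_eq_sum,
    map_div₀, map_natCast, map_sum]
  congr 1
  rw [← Equiv.sum_comp (Equiv.inv P) (fun u : P => (χ : G → ℂ) (g⁻¹ * (u : G)))]
  apply Finset.sum_congr rfl
  intro u _
  rw [← Cfsg.Agent.Lib.Helper83.irr_inv χ.2]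
  have h1 := Cfsg.Agent.Lib.Helper83.irr_classFunction χ.2 (g * (u : G))⁻¹ g⁻¹
  rw [← h1]
  simp only [Equiv.inv_apply, Subgroup.coe_inv]
  group

end Cfsg.Agent.Lib.Helper10.BW
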