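import Cfsg.Agent.Lib.Helper39.Fi23FD0
import Cfsg.Agent.Lib.Helper39.Fi23FD1
import Cfsg.Agent.Lib.Helper39.Fi23FD2
import Cfsg.Agent.Lib.Helper39.Fi23FD3
import Cfsg.Agent.Lib.Helper39.Fi23FD4

set_option maxRecDepth 100000
set_option maxHeartbeats 0

namespace Cfsg.Agent.Lib.Helper39.Fi23F
open Cfsg.Agent.Lib.Helper38

noncomputable def rTRoot : BT := .node 4032 (.node 2016 (.node 1008 (.node 512 (.node 256 (.node 128 (.node 64 (.node 32 (.node 16 (rT0) (rT1)) (.node 48 (rT2) (rT3))) (.node 96 (.node 80 (rT4) (rT5)) (.node 112 (rT6) (rT7)))) (.node 192 (.node 160 (.node 144 (rT8) (rT9)) (.node 176 (rT10) (rT11))) (.node 224 (.node 208 (rT12) (rT13)) (.node 240 (rT14) (rT15))))) (.node 384 (.node 320 (.node 288 (.node 272 (rT16) (rT17)) (.node 304 (rT18) (rT19))) (.node 352 (.node 336 (rT20) (rT21)) (.node 368 (rT22) (rT23)))) (.node 448 (.node 416 (.node 400 (rT24) (rT25)) (.node 432 (rT26) (rT27))) (.node 480 (.node 464 (rT28) (rT29)) (.node 496 (rT30) (rT31)))))) (.node 768 (.node 640 (.node 576 (.node 544 (.node 528 (rT32) (rT33)) (.node 560 (rT34) (rT35))) (.node 608 (.node 592 (rT36) (rT37)) (.node 624 (rT38)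 (rT39)))) (.node 704 (.node 672 (.node 656 (rT40) (rT41)) (.node 688 (rT42) (rT43))) (.node 736 (.node 720 (rT44) (rT45)) (.node 752 (rT46) (rT47))))) (.node 896 (.node 832 (.node 800 (.node 784 (rT48) (rT49)) (.node 816 (rT50) (rT51))) (.node 864 (.node 848 (rT52) (rT53)) (.node 880 (rT54) (rT55)))) (.node 960 (.node 928 (.node 912 (rT56) (rT57)) (.node 944 (rT58) (rT59))) (.node 992 (.node 976 (rT60) (rT61)) (rT62)))))) (.node 1520 (.node 1264 (.node 1136 (.node 1072 (.node 1040 (.node 1024 (rT63) (rT64)) (.node 1056 (rT65) (rT66))) (.node 1104 (.node 1088 (rT67) (rT68)) (.node 1120 (rT69) (rT70)))) (.node 1200 (.node 1168 (.node 1152 (rT71) (rT72)) (.node 1184 (rT73) (rT74))) (.node 1232 (.node 1216 (rT75) (rT76)) (.node 1248 (rT77) (rT78))))) (.node 1392 (.node 1328 (.node 1296 (.node 1280 (rT79) (rT80)) (.node 1312 (rT81) (rT82))) (.node 1360 (.node 1344 (rT83) (rT84)) (.node 1376 (rT85) (rT86)))) (.node 1456 (.node 1424 (.node 1408 (rT87) (rT88)) (.node 1440 (rT89) (rT90))) (.node 1488 (.node 1472 (rT91) (rT92)) (.node 1504 (rT93) (rT94)))))) (.node 1776 (.node 1648 (.node 1584 (.node 1552 (.node 1536 (rT95)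 (rT96)) (.node 1568 (rT97) (rT98))) (.node 1616 (.node 1600 (rT99) (rT100)) (.node 1632 (rT101) (rT102)))) (.node 1712 (.node 1680 (.node 1664 (rT103) (rT104)) (.node 1696 (rT105) (rT106))) (.node 1744 (.node 1728 (rT107) (rT108)) (.node 1760 (rT109) (rT110))))) (.node 1904 (.node 1840 (.node 1808 (.node 1792 (rT111) (rT112)) (.node 1824 (rT113) (rT114))) (.node 1872 (.node 1856 (rT115) (rT116)) (.node 1888 (rT117) (rT118)))) (.node 1968 (.node 1936 (.node 1920 (rT119) (rT120)) (.node 1952 (rT121) (rT122))) (.node 2000 (.node 1984 (rT123) (rT124)) (rT125))))))) (.node 3024 (.node 2528 (.node 2272 (.node 2144 (.node 2080 (.node 2048 (.node 2032 (rT126) (rT127)) (.node 2064 (rT128) (rT129))) (.node 2112 (.node 2096 (rT130) (rT131)) (.node 2128 (rT132) (rT133)))) (.node 2208 (.node 2176 (.node 2160 (rT134) (rT135)) (.node 2192 (rT136) (rT137))) (.node 2240 (.node 2224 (rT138) (rT139)) (.node 2256 (rT140) (rT141))))) (.node 2400 (.node 2336 (.node 2304 (.node 2288 (rT142) (rT143)) (.node 2320 (rT144) (rT145))) (.node 2368 (.node 2352 (rT146) (rT147)) (.node 2384 (rT148) (rT149)))) (.node 2464 (.node 2432 (.node 2416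 (rT150) (rT151)) (.node 2448 (rT152) (rT153))) (.node 2496 (.node 2480 (rT154) (rT155)) (.node 2512 (rT156) (rT157)))))) (.node 2784 (.node 2656 (.node 2592 (.node 2560 (.node 2544 (rT158) (rT159)) (.node 2576 (rT160) (rT161))) (.node 2624 (.node 2608 (rT162) (rT163)) (.node 2640 (rT164) (rT165)))) (.node 2720 (.node 2688 (.node 2672 (rT166) (rT167)) (.node 2704 (rT168) (rT169))) (.node 2752 (.node 2736 (rT170) (rT171)) (.node 2768 (rT172) (rT173))))) (.node 2912 (.node 2848 (.node 2816 (.node 2800 (rT174) (rT175)) (.node 2832 (rT176) (rT177))) (.node 2880 (.node 2864 (rT178) (rT179)) (.node 2896 (rT180) (rT181)))) (.node 2976 (.node 2944 (.node 2928 (rT182) (rT183)) (.node 2960 (rT184) (rT185))) (.node 3008 (.node 2992 (rT186) (rT187)) (rT188)))))) (.node 3536 (.node 3280 (.node 3152 (.node 3088 (.node 3056 (.node 3040 (rT189) (rT190)) (.node 3072 (rT191) (rT192))) (.node 3120 (.node 3104 (rT193) (rT194)) (.node 3136 (rT195) (rT196)))) (.node 3216 (.node 3184 (.node 3168 (rT197) (rT198)) (.node 3200 (rT199) (rT200))) (.node 3248 (.node 3232 (rT201) (rT202)) (.node 3264 (rT203) (rT204))))) (.node 3408 (.node 3344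 (.node 3312 (.node 3296 (rT205) (rT206)) (.node 3328 (rT207) (rT208))) (.node 3376 (.node 3360 (rT209) (rT210)) (.node 3392 (rT211) (rT212)))) (.node 3472 (.node 3440 (.node 3424 (rT213) (rT214)) (.node 3456 (rT215) (rT216))) (.node 3504 (.node 3488 (rT217) (rT218)) (.node 3520 (rT219) (rT220)))))) (.node 3792 (.node 3664 (.node 3600 (.node 3568 (.node 3552 (rT221) (rT222)) (.node 3584 (rT223) (rT224))) (.node 3632 (.node 3616 (rT225) (rT226)) (.node 3648 (rT227) (rT228)))) (.node 3728 (.node 3696 (.node 3680 (rT229) (rT230)) (.node 3712 (rT231) (rT232))) (.node 3760 (.node 3744 (rT233) (rT234)) (.node 3776 (rT235) (rT236))))) (.node 3920 (.node 3856 (.node 3824 (.node 3808 (rT237) (rT238)) (.node 3840 (rT239) (rT240))) (.node 3888 (.node 3872 (rT241) (rT242)) (.node 3904 (rT243) (rT244)))) (.node 3984 (.node 3952 (.node 3936 (rT245) (rT246)) (.node 3968 (rT247) (rT248))) (.node 4016 (.node 4000 (rT249) (rT250)) (rT251)))))))) (.node 6048 (.node 5040 (.node 4544 (.node 4288 (.node 4160 (.node 4096 (.node 4064 (.node 4048 (rT252) (rT253)) (.node 4080 (rT254) (rT255))) (.node 4128 (.node 4112 (rT256) (rT257)) (.node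 4144 (rT258) (rT259)))) (.node 4224 (.node 4192 (.node 4176 (rT260) (rT261)) (.node 4208 (rT262) (rT263))) (.node 4256 (.node 4240 (rT264) (rT265)) (.node 4272 (rT266) (rT267))))) (.node 4416 (.node 4352 (.node 4320 (.node 4304 (rT268) (rT269)) (.node 4336 (rT270) (rT271))) (.node 4384 (.node 4368 (rT272) (rT273)) (.node 4400 (rT274) (rT275)))) (.node 4480 (.node 4448 (.node 4432 (rT276) (rT277)) (.node 4464 (rT278) (rT279))) (.node 4512 (.node 4496 (rT280) (rT281)) (.node 4528 (rT282) (rT283)))))) (.node 4800 (.node 4672 (.node 4608 (.node 4576 (.node 4560 (rT284) (rT285)) (.node 4592 (rT286) (rT287))) (.node 4640 (.node 4624 (rT288) (rT289)) (.node 4656 (rT290) (rT291)))) (.node 4736 (.node 4704 (.node 4688 (rT292) (rT293)) (.node 4720 (rT294) (rT295))) (.node 4768 (.node 4752 (rT296) (rT297)) (.node 4784 (rT298) (rT299))))) (.node 4928 (.node 4864 (.node 4832 (.node 4816 (rT300) (rT301)) (.node 4848 (rT302) (rT303))) (.node 4896 (.node 4880 (rT304) (rT305)) (.node 4912 (rT306) (rT307)))) (.node 4992 (.node 4960 (.node 4944 (rT308) (rT309)) (.node 4976 (rT310) (rT311))) (.node 5024 (.node 5008 (rT312) (rT313))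 (rT314)))))) (.node 5552 (.node 5296 (.node 5168 (.node 5104 (.node 5072 (.node 5056 (rT315) (rT316)) (.node 5088 (rT317) (rT318))) (.node 5136 (.node 5120 (rT319) (rT320)) (.node 5152 (rT321) (rT322)))) (.node 5232 (.node 5200 (.node 5184 (rT323) (rT324)) (.node 5216 (rT325) (rT326))) (.node 5264 (.node 5248 (rT327) (rT328)) (.node 5280 (rT329) (rT330))))) (.node 5424 (.node 5360 (.node 5328 (.node 5312 (rT331) (rT332)) (.node 5344 (rT333) (rT334))) (.node 5392 (.node 5376 (rT335) (rT336)) (.node 5408 (rT337) (rT338)))) (.node 5488 (.node 5456 (.node 5440 (rT339) (rT340)) (.node 5472 (rT341) (rT342))) (.node 5520 (.node 5504 (rT343) (rT344)) (.node 5536 (rT345) (rT346)))))) (.node 5808 (.node 5680 (.node 5616 (.node 5584 (.node 5568 (rT347) (rT348)) (.node 5600 (rT349) (rT350))) (.node 5648 (.node 5632 (rT351) (rT352)) (.node 5664 (rT353) (rT354)))) (.node 5744 (.node 5712 (.node 5696 (rT355) (rT356)) (.node 5728 (rT357) (rT358))) (.node 5776 (.node 5760 (rT359) (rT360)) (.node 5792 (rT361) (rT362))))) (.node 5936 (.node 5872 (.node 5840 (.node 5824 (rT363) (rT364)) (.node 5856 (rT365) (rT366))) (.node 5904 (.node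 5888 (rT367) (rT368)) (.node 5920 (rT369) (rT370)))) (.node 6000 (.node 5968 (.node 5952 (rT371) (rT372)) (.node 5984 (rT373) (rT374))) (.node 6032 (.node 6016 (rT375) (rT376)) (rT377))))))) (.node 7056 (.node 6560 (.node 6304 (.node 6176 (.node 6112 (.node 6080 (.node 6064 (rT378) (rT379)) (.node 6096 (rT380) (rT381))) (.node 6144 (.node 6128 (rT382) (rT383)) (.node 6160 (rT384) (rT385)))) (.node 6240 (.node 6208 (.node 6192 (rT386) (rT387)) (.node 6224 (rT388) (rT389))) (.node 6272 (.node 6256 (rT390) (rT391)) (.node 6288 (rT392) (rT393))))) (.node 6432 (.node 6368 (.node 6336 (.node 6320 (rT394) (rT395)) (.node 6352 (rT396) (rT397))) (.node 6400 (.node 6384 (rT398) (rT399)) (.node 6416 (rT400) (rT401)))) (.node 6496 (.node 6464 (.node 6448 (rT402) (rT403)) (.node 6480 (rT404) (rT405))) (.node 6528 (.node 6512 (rT406) (rT407)) (.node 6544 (rT408) (rT409)))))) (.node 6816 (.node 6688 (.node 6624 (.node 6592 (.node 6576 (rT410) (rT411)) (.node 6608 (rT412) (rT413))) (.node 6656 (.node 6640 (rT414) (rT415)) (.node 6672 (rT416) (rT417)))) (.node 6752 (.node 6720 (.node 6704 (rT418) (rT419)) (.node 6736 (rT420) (rT421)))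 (.node 6784 (.node 6768 (rT422) (rT423)) (.node 6800 (rT424) (rT425))))) (.node 6944 (.node 6880 (.node 6848 (.node 6832 (rT426) (rT427)) (.node 6864 (rT428) (rT429))) (.node 6912 (.node 6896 (rT430) (rT431)) (.node 6928 (rT432) (rT433)))) (.node 7008 (.node 6976 (.node 6960 (rT434) (rT435)) (.node 6992 (rT436) (rT437))) (.node 7040 (.node 7024 (rT438) (rT439)) (rT440)))))) (.node 7568 (.node 7312 (.node 7184 (.node 7120 (.node 7088 (.node 7072 (rT441) (rT442)) (.node 7104 (rT443) (rT444))) (.node 7152 (.node 7136 (rT445) (rT446)) (.node 7168 (rT447) (rT448)))) (.node 7248 (.node 7216 (.node 7200 (rT449) (rT450)) (.node 7232 (rT451) (rT452))) (.node 7280 (.node 7264 (rT453) (rT454)) (.node 7296 (rT455) (rT456))))) (.node 7440 (.node 7376 (.node 7344 (.node 7328 (rT457) (rT458)) (.node 7360 (rT459) (rT460))) (.node 7408 (.node 7392 (rT461) (rT462)) (.node 7424 (rT463) (rT464)))) (.node 7504 (.node 7472 (.node 7456 (rT465) (rT466)) (.node 7488 (rT467) (rT468))) (.node 7536 (.node 7520 (rT469) (rT470)) (.node 7552 (rT471) (rT472)))))) (.node 7824 (.node 7696 (.node 7632 (.node 7600 (.node 7584 (rT473) (rT474)) (.node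 7616 (rT475) (rT476))) (.node 7664 (.node 7648 (rT477) (rT478)) (.node 7680 (rT479) (rT480)))) (.node 7760 (.node 7728 (.node 7712 (rT481) (rT482)) (.node 7744 (rT483) (rT484))) (.node 7792 (.node 7776 (rT485) (rT486)) (.node 7808 (rT487) (rT488))))) (.node 7952 (.node 7888 (.node 7856 (.node 7840 (rT489) (rT490)) (.node 7872 (rT491) (rT492))) (.node 7920 (.node 7904 (rT493) (rT494)) (.node 7936 (rT495) (rT496)))) (.node 8016 (.node 7984 (.node 7968 (rT497) (rT498)) (.node 8000 (rT499) (rT500))) (.node 8048 (.node 8032 (rT501) (rT502)) (rT503))))))))
noncomputable def nTRoot : BT := .node 992 (.node 496 (.node 256 (.node 128 (.node 64 (.node 32 (.node 16 (nT0) (nT1)) (.node 48 (nT2) (nT3))) (.node 96 (.node 80 (nT4) (nT5)) (.node 112 (nT6) (nT7)))) (.node 192 (.node 160 (.node 144 (nT8) (nT9)) (.node 176 (nT10) (nT11))) (.node 224 (.node 208 (nT12) (nT13)) (.node 240 (nT14) (nT15))))) (.node 384 (.node 320 (.node 288 (.node 272 (nT16) (nT17)) (.node 304 (nT18) (nT19))) (.node 352 (.node 336 (nT20) (nT21)) (.node 368 (nT22) (nT23)))) (.node 448 (.node 416 (.node 400 (nT24) (nT25)) (.node 432 (nT26) (nT27))) (.node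 480 (.node 464 (nT28) (nT29)) (nT30))))) (.node 752 (.node 624 (.node 560 (.node 528 (.node 512 (nT31) (nT32)) (.node 544 (nT33) (nT34))) (.node 592 (.node 576 (nT35) (nT36)) (.node 608 (nT37) (nT38)))) (.node 688 (.node 656 (.node 640 (nT39) (nT40)) (.node 672 (nT41) (nT42))) (.node 720 (.node 704 (nT43) (nT44)) (.node 736 (nT45) (nT46))))) (.node 880 (.node 816 (.node 784 (.node 768 (nT47) (nT48)) (.node 800 (nT49) (nT50))) (.node 848 (.node 832 (nT51) (nT52)) (.node 864 (nT53) (nT54)))) (.node 944 (.node 912 (.node 896 (nT55) (nT56)) (.node 928 (nT57) (nT58))) (.node 976 (.node 960 (nT59) (nT60)) (nT61)))))) (.node 1488 (.node 1248 (.node 1120 (.node 1056 (.node 1024 (.node 1008 (nT62) (nT63)) (.node 1040 (nT64) (nT65))) (.node 1088 (.node 1072 (nT66) (nT67)) (.node 1104 (nT68) (nT69)))) (.node 1184 (.node 1152 (.node 1136 (nT70) (nT71)) (.node 1168 (nT72) (nT73))) (.node 1216 (.node 1200 (nT74) (nT75)) (.node 1232 (nT76) (nT77))))) (.node 1376 (.node 1312 (.node 1280 (.node 1264 (nT78) (nT79)) (.node 1296 (nT80) (nT81))) (.node 1344 (.node 1328 (nT82) (nT83)) (.node 1360 (nT84) (nT85)))) (.node 1440 (.node 1408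 (.node 1392 (nT86) (nT87)) (.node 1424 (nT88) (nT89))) (.node 1472 (.node 1456 (nT90) (nT91)) (nT92))))) (.node 1744 (.node 1616 (.node 1552 (.node 1520 (.node 1504 (nT93) (nT94)) (.node 1536 (nT95) (nT96))) (.node 1584 (.node 1568 (nT97) (nT98)) (.node 1600 (nT99) (nT100)))) (.node 1680 (.node 1648 (.node 1632 (nT101) (nT102)) (.node 1664 (nT103) (nT104))) (.node 1712 (.node 1696 (nT105) (nT106)) (.node 1728 (nT107) (nT108))))) (.node 1872 (.node 1808 (.node 1776 (.node 1760 (nT109) (nT110)) (.node 1792 (nT111) (nT112))) (.node 1840 (.node 1824 (nT113) (nT114)) (.node 1856 (nT115) (nT116)))) (.node 1936 (.node 1904 (.node 1888 (nT117) (nT118)) (.node 1920 (nT119) (nT120))) (.node 1968 (.node 1952 (nT121) (nT122)) (nT123))))))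

/-- the certificate -/
noncomputable def cert : Cert where
  g := 10
  m := 64441
  n := 31671
  R := 374123
  fuel := 6
  nw := 66
  nrel := 47
  nsub := 57
  lg := 3
  lmask := 7
  rW := 755
  eW := 67
  mv := 65535
  mr := 524287
  mw := 127
  mt := 127
  ml := 15
  oR := 16
  oK := 35
  oW := 37
  oT := 44
  oU := 51
  oM := 670
  oMR := 686
  oMW := 705
  oMT := 712
  oMU := 719
  oP := 735
  oL := 751
  rows := rTRoot
  wW := 367
  wt := 7
  wl := 4
  WD := 0x240800000000000000000000000000000000000000000000000000000000000000000000000000000000000000004010000000000000000000000000000000000000000000000000000000000000000000000000000000000000000060200000000000000000000000000000000000000000000000000000000000000000000000000000000000000000a04000000000000000000000000000000000000000000000000000000000000000000000000000000000000000010080000000000000000000000000000000000000000000000000000000000000000000000000000000000000000181000000000000000000000000000000000000000000000000000000000000000000000000000000000000000002020000000000000000000000000000000000000000000000000000000000000000000000000000000000000000020400000000000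0000000000000000000000000000000000000000000000000000000000000000000000000000000080000000000000000000000000000000000000000000000000000000000000000000000000000000000000004c82000000000000000000000000000000000000000000000000000000000000000000000000000000000000000088040000000000000000000000000000000000000000000000000000000000000000000000000000000000000000ee08000000000000000000000000000000000000000000000000000000000000000000000000000000000000000198100000000000000000000000000000000000000000000000000000000000000000000000000000000000000002a820000000000000000000000000000000000000000000000000000000000000000000000000000000000000000440400000000000000000000000000000000000000000000000000000000000000000000000000000000000000006608000000000000000000000000000000000000000000000000000000000000000000000000000000000000000088100000000000000000000000000000000000000000000000000000000000000000000000000000000000000000882000000000000000000000000000000000000000000000000000000000000000000000000000000000000000000040000000000000000000000000010a864210a864210a864210a864210a864210a864210a864210a864210a86420fe60d50c48e60d50c48e60d50c48e60d50c48e60d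50c48e60d50c48e60d50c48e60d50c48e60d50c48e60d50c48ed0000000000000000000000000000000000000000000000000000000000000000000000000000000000004c4c4c0600000000000000000000000000000000000000000000000000000000000000000000000000000000000000979708000000000000000000000000000000000000000000000000000000000000000000000000000000000000010f0e10000000000000000000000000000000000000000000000000000000000000000000000000000000000000025a582000000000000000000000000000000000000000000000000000000000000000000000000000000000000004343040000000000000000000000000000000000000000000000000000000000000000000000000000000000007676760c000000000000000000000000000000000000000000000000000000000000000000000000000000000000012b2a100000000000000000000000000000000000000000000000000000000000000000000000000000000000000216142000000000000000000000000000000000000000000000000000000000000000000000000000000000000003aba840000000000000000000000000000000000000000000000000000000000000000000000000000000000006565650c000000000000000000000000000000000000000000000000000000000000000000000000000000000000012928100000000000000000000000000000000000000000000000000000000000000000000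000000000000000000212102000000000000000000000000000000000000000000000000000000000000000000000000000000000000003a3a0400000000000000000000000000000000000000000000000000000000000000000000000000000000000000646408000000000000000000000000000000000000000000000000000000000000000000000000000000000000a8a8a818000000000000000000000000000000000000000000000000000000000000000000000000000000000000024e4c200000000000000000000000000000000000000000000000000000000000000000000000000000000000041c1c1860000000000000000000000000000000000000000000000000000000000000000000000000000000000000073730800000000000000000000000000000000000000000000000000000000000000000000000000000000000000c6c610000000000000000000000000000000000000000000000000000000000000000000000000000000000000014d4c200000000000000000000000000000000000000000000000000000000000000000000000000000000000021a1a186000000000000000000000000000000000000000000000000000000000000000000000000000000000000009292080000000000000000000000000000000000000000000000000000000000000000000000000000000000000105041000000000000000000000000000000000000000000000000000000000000000000000000000000000000001c9c820000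00000000000000000000000000000000000000000000000000000000000000000000000000000000003131040000000000000000000000000000000000000000000000000000000000000000000000000000000000000052520800000000000000000000000000000000000000000000000000000000000000000000000000000000000000848410000000000000000000000000000000000000000000000000000000000000000000000000000000000000c8c8c830000000000000000000000000000000000000000000000000000000000000000000000000000000000000048c8840000000000000000000000000000000000000000000000000000000000000000000000000000000000000081810800000000000000000000000000000000000000000000000000000000000000000000000000000000000000e2e21000000000000000000000000000000000000000000000000000000000000000000000000000000000000001858420000000000000000000000000000000000000000000000000000000000000000000000000000000000000028a8840000000000000000000000000000000000000000000000000000000000000000000000000000000000000041410800000000000000000000000000000000000000000000000000000000000000000000000000000000000000626210000000000000000000000000000000000000000000000000000000000000000000000000000000000000848484300000000000000000000000000000000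0000000000000000000000000000000000000000000000000000004848040000000000000000000000000000000000000000000000000000000000000000000000000000000000000080800800000000000000000000000000000000000000000000000000000000000000000000000000000000000000e0e0100000000000000000000000000000000000000000000000000000000000000000000000000000000000000181802000000000000000000000000000000000000000000000000000000000000000000000000000000000000002828040000000000000000000000000000000000000000000000000000000000000000000000000000000000000040400800000000000000000000000000000000000000000000000000000000000000000000000000000000000000606010000000000000000000000000000000000000000000000000000000000000000000000000000000000000008080200000000000000000000000000000000000000000000000000000000000000000000000000000000000008080806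
  lgN := 4
  lmaskN := 15
  nW := 228
  wv := 16
  oCan := 160
  oPN := 176
  oLN := 192
  oComp := 196
  mc := 3
  oOP := 198
  oOW := 214
  oOD := 221
  md := 63
  oODir := 227
  ncomp := 3
  ROOTS := 0x3400010000
  nrows := nTRoot

end Cfsg.Agent.Lib.Helper39.Fi23F
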