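import Cfsg.Agent.Lib.Helper38.CosetPres
import Cfsg.Prelude.Def_Spor_Fi23

/-!
The presentation of a sporadic group and the list of relator words used by the
coset-enumeration certificates (generated).
-/

set_option maxRecDepth 100000
set_option maxHeartbeats 1000000
set_option linter.unusedSimpArgs false
set_option linter.deprecated false
set_option linter.unusedVariables false

namespace Cfsg.Agent.Lib.Helper39.Fi23P

open Cfsg.Spor Cfsg.Agent.Lib.Helper38

/-- the relators of the presentation -/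
abbrev rels : Set (FreeGroup Fi23.Gen) :=
  coxRelators Fi23.edges ∪ {r | r ∈ Fi23.extra}

/-- generator number `s` -/
def gen : ℕ → Fi23.Gen
  | 0 => .a
  | 1 => .b
  | 2 => .c
  | 3 => .d
  | 4 => .e
  | 5 => .f
  | 6 => .g
  | 7 => .j
  | 8 => .h
  | _ => .i

/-- the number of a generator -/
def idx : Fi23.Gen → ℕ
  | .a => 0
  | .b => 1
  | .c => 2
  | .d => 3
  | .e => 4
  | .f => 5
  | .g => 6
  | .j => 7
  | .h => 8
  | .i => 9

theorem gen_idx (x : Fi23.Gen) : gen (idx x) = x := by cases x <;> rfl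

theorem idx_lt (x : Fi23.Gen) : idx x < 10 := by cases x <;> decide

theorem idx_gen : ∀ s < 10, idx (gen s) = s := by decide

/-- the relator words -/
def words : List (List ℕ) := [
  (List.replicate 3 [0, 1]).flatten,
  (List.replicate 2 [0, 2]).flatten,
  (List.replicate 2 [0, 3]).flatten,
  (List.replicate 2 [0, 4]).flatten,
  (List.replicate 2 [0, 5]).flatten,
  (List.replicate 2 [0, 6]).flatten,
  (List.replicate 2 [0, 7]).flatten,
  (List.replicate 2 [0, 8]).flatten,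
  (List.replicate 2 [0, 9]).flatten,
  (List.replicate 3 [1, 2]).flatten,
  (List.replicate 2 [1, 3]).flatten,
  (List.replicate 2 [1, 4]).flatten,
  (List.replicate 2 [1, 5]).flatten,
  (List.replicate 2 [1, 6]).flatten,
  (List.replicate 2 [1, 7]).flatten,
  (List.replicate 2 [1, 8]).flatten,
  (List.replicate 2 [1, 9]).flatten,
  (List.replicate 3 [2, 3]).flatten,
  (List.replicate 2 [2, 4]).flatten,
  (List.replicate 2 [2, 5]).flatten,
  (List.replicate 2 [2, 6]).flatten,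
  (List.replicate 2 [2, 7]).flatten,
  (List.replicate 2 [2, 8]).flatten,
  (List.replicate 2 [2, 9]).flatten,
  (List.replicate 3 [3, 4]).flatten,
  (List.replicate 2 [3, 5]).flatten,
  (List.replicate 2 [3, 6]).flatten,
  (List.replicate 2 [3, 7]).flatten,
  (List.replicate 3 [3, 8]).flatten,
  (List.replicate 2 [3, 9]).flatten,
  (List.replicate 3 [4, 5]).flatten,
  (List.replicate 2 [4, 6]).flatten,
  (List.replicate 2 [4, 7]).flatten,
  (List.replicate 2 [4, 8]).flatten,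
  (List.replicate 2 [4, 9]).flatten,
  (List.replicate 3 [5, 6]).flatten,
  (List.replicate 2 [5, 7]).flatten,
  (List.replicate 2 [5, 8]).flatten,
  (List.replicate 2 [5, 9]).flatten,
  (List.replicate 3 [6, 7]).flatten,
  (List.replicate 2 [6, 8]).flatten,
  (List.replicate 2 [6, 9]).flatten,
  (List.replicate 2 [7, 8]).flatten,
  (List.replicate 2 [7, 9]).flatten,
  (List.replicate 3 [8, 9]).flatten,
  (List.replicate 10 [3, 2, 1, 3, 4, 5, 3, 8, 9]).flatten,
  (List.replicate 9 [0, 1, 2, 3, 4, 5, 8]).flatten]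

theorem label_ab : coxLabel Fi23.edges .a .b = 3 := by decide
theorem label_ac : coxLabel Fi23.edges .a .c = 2 := by decide
theorem label_ad : coxLabel Fi23.edges .a .d = 2 := by decide
theorem label_ae : coxLabel Fi23.edges .a .e = 2 := by decide
theorem label_af : coxLabel Fi23.edges .a .f = 2 := by decide
theorem label_ag : coxLabel Fi23.edges .a .g = 2 := by decide
theorem label_aj : coxLabel Fi23.edges .a .j = 2 := by decide
theorem label_ah : coxLabel Fi23.edges .a .h = 2 := by decide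
theorem label_ai : coxLabel Fi23.edges .a .i = 2 := by decide
theorem label_ba : coxLabel Fi23.edges .b .a = 3 := by decide
theorem label_bc : coxLabel Fi23.edges .b .c = 3 := by decide
theorem label_bd : coxLabel Fi23.edges .b .d = 2 := by decide
theorem label_be : coxLabel Fi23.edges .b .e = 2 := by decide
theorem label_bf : coxLabel Fi23.edges .b .f = 2 := by decide
theorem label_bg : coxLabel Fi23.edges .b .g = 2 := by decide
theorem label_bj : coxLabel Fi23.edges .b .j = 2 := by decide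
theorem label_bh : coxLabel Fi23.edges .b .h = 2 := by decide
theorem label_bi : coxLabel Fi23.edges .b .i = 2 := by decide
theorem label_ca : coxLabel Fi23.edges .c .a = 2 := by decide
theorem label_cb : coxLabel Fi23.edges .c .b = 3 := by decide
theorem label_cd : coxLabel Fi23.edges .c .d = 3 := by decide
theorem label_ce : coxLabel Fi23.edges .c .e = 2 := by decide
theorem label_cf : coxLabel Fi23.edges .c .f = 2 := by decide
theorem label_cg : coxLabel Fi23.edges .c .g = 2 := by decide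
theorem label_cj : coxLabel Fi23.edges .c .j = 2 := by decide
theorem label_ch : coxLabel Fi23.edges .c .h = 2 := by decide
theorem label_ci : coxLabel Fi23.edges .c .i = 2 := by decide
theorem label_da : coxLabel Fi23.edges .d .a = 2 := by decide
theorem label_db : coxLabel Fi23.edges .d .b = 2 := by decide
theorem label_dc : coxLabel Fi23.edges .d .c = 3 := by decide
theorem label_de : coxLabel Fi23.edges .d .e = 3 := by decide
theorem label_df : coxLabel Fi23.edges .d .f = 2 := by decide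
theorem label_dg : coxLabel Fi23.edges .d .g = 2 := by decide
theorem label_dj : coxLabel Fi23.edges .d .j = 2 := by decide
theorem label_dh : coxLabel Fi23.edges .d .h = 3 := by decide
theorem label_di : coxLabel Fi23.edges .d .i = 2 := by decide
theorem label_ea : coxLabel Fi23.edges .e .a = 2 := by decide
theorem label_eb : coxLabel Fi23.edges .e .b = 2 := by decide
theorem label_ec : coxLabel Fi23.edges .e .c = 2 := by decide
theorem label_ed : coxLabel Fi23.edges .e .d = 3 := by decide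
theorem label_ef : coxLabel Fi23.edges .e .f = 3 := by decide
theorem label_eg : coxLabel Fi23.edges .e .g = 2 := by decide
theorem label_ej : coxLabel Fi23.edges .e .j = 2 := by decide
theorem label_eh : coxLabel Fi23.edges .e .h = 2 := by decide
theorem label_ei : coxLabel Fi23.edges .e .i = 2 := by decide
theorem label_fa : coxLabel Fi23.edges .f .a = 2 := by decide
theorem label_fb : coxLabel Fi23.edges .f .b = 2 := by decide
theorem label_fc : coxLabel Fi23.edges .f .c = 2 := by decide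
theorem label_fd : coxLabel Fi23.edges .f .d = 2 := by decide
theorem label_fe : coxLabel Fi23.edges .f .e = 3 := by decide
theorem label_fg : coxLabel Fi23.edges .f .g = 3 := by decide
theorem label_fj : coxLabel Fi23.edges .f .j = 2 := by decide
theorem label_fh : coxLabel Fi23.edges .f .h = 2 := by decide
theorem label_fi : coxLabel Fi23.edges .f .i = 2 := by decide
theorem label_ga : coxLabel Fi23.edges .g .a = 2 := by decide
theorem label_gb : coxLabel Fi23.edges .g .b = 2 := by decide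
theorem label_gc : coxLabel Fi23.edges .g .c = 2 := by decide
theorem label_gd : coxLabel Fi23.edges .g .d = 2 := by decide
theorem label_ge : coxLabel Fi23.edges .g .e = 2 := by decide
theorem label_gf : coxLabel Fi23.edges .g .f = 3 := by decide
theorem label_gj : coxLabel Fi23.edges .g .j = 3 := by decide
theorem label_gh : coxLabel Fi23.edges .g .h = 2 := by decide
theorem label_gi : coxLabel Fi23.edges .g .i = 2 := by decide
theorem label_ja : coxLabel Fi23.edges .j .a = 2 := by decide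
theorem label_jb : coxLabel Fi23.edges .j .b = 2 := by decide
theorem label_jc : coxLabel Fi23.edges .j .c = 2 := by decide
theorem label_jd : coxLabel Fi23.edges .j .d = 2 := by decide
theorem label_je : coxLabel Fi23.edges .j .e = 2 := by decide
theorem label_jf : coxLabel Fi23.edges .j .f = 2 := by decide
theorem label_jg : coxLabel Fi23.edges .j .g = 3 := by decide
theorem label_jh : coxLabel Fi23.edges .j .h = 2 := by decide
theorem label_ji : coxLabel Fi23.edges .j .i = 2 := by decide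
theorem label_ha : coxLabel Fi23.edges .h .a = 2 := by decide
theorem label_hb : coxLabel Fi23.edges .h .b = 2 := by decide
theorem label_hc : coxLabel Fi23.edges .h .c = 2 := by decide
theorem label_hd : coxLabel Fi23.edges .h .d = 3 := by decide
theorem label_he : coxLabel Fi23.edges .h .e = 2 := by decide
theorem label_hf : coxLabel Fi23.edges .h .f = 2 := by decide
theorem label_hg : coxLabel Fi23.edges .h .g = 2 := by decide
theorem label_hj : coxLabel Fi23.edges .h .j = 2 := by decide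
theorem label_hi : coxLabel Fi23.edges .h .i = 3 := by decide
theorem label_ia : coxLabel Fi23.edges .i .a = 2 := by decide
theorem label_ib : coxLabel Fi23.edges .i .b = 2 := by decide
theorem label_ic : coxLabel Fi23.edges .i .c = 2 := by decide
theorem label_id : coxLabel Fi23.edges .i .d = 2 := by decide
theorem label_ie : coxLabel Fi23.edges .i .e = 2 := by decide
theorem label_if : coxLabel Fi23.edges .i .f = 2 := by decide
theorem label_ig : coxLabel Fi23.edges .i .g = 2 := by decide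
theorem label_ij : coxLabel Fi23.edges .i .j = 2 := by decide
theorem label_ih : coxLabel Fi23.edges .i .h = 3 := by decide

theorem node (x : Fi23.Gen) : x ∈ coxNodes Fi23.edges := by cases x <;> decide

theorem rep_word {K : Type*} [Group K] (σ : ℕ → K) (w : List ℕ) : ∀ m : ℕ,
    (((List.replicate m w).flatten).map σ).prod = ((w.map σ).prod) ^ m
  | 0 => by simp
  | m + 1 => by
    rw [List.replicate_succ, List.flatten_cons, List.map_append, List.prod_append,
      rep_word σ w m, pow_succ']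

section

variable {K : Type*} [Group K]

theorem invol (f : Fi23.Gen → K) (hf : ∀ r ∈ rels, FreeGroup.lift f r = 1) (x : Fi23.Gen) :
    f x * f x = 1 := by
  have h := hf _ (Or.inl ⟨x, node x, x, node x, rfl⟩)
  simpa [coxLabel] using h

theorem word_one_0 (f : Fi23.Gen → K) (hf : ∀ r ∈ rels, FreeGroup.lift f r = 1) :
    (((List.replicate 3 [0, 1]).flatten).map (fun s => f (gen s))).prod = 1 := by
  have h := hf _ (Or.inl ⟨.a, node _, .b, node _, rfl⟩)
  rw [label_ab] at h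
  rw [rep_word]
  simp only [List.map_cons, List.map_nil, List.prod_cons, List.prod_nil, mul_one, gen]
  simpa only [map_pow, map_mul, FreeGroup.lift_apply_of] using h

theorem word_one_1 (f : Fi23.Gen → K) (hf : ∀ r ∈ rels, FreeGroup.lift f r = 1) :
    (((List.replicate 2 [0, 2]).flatten).map (fun s => f (gen s))).prod = 1 := by
  have h := hf _ (Or.inl ⟨.a, node _, .c, node _, rfl⟩)
  rw [label_ac] at h
  rw [rep_word]
  simp only [List.map_cons, List.map_nil, List.prod_cons, List.prod_nil, mul_one, gen]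
  simpa only [map_pow, map_mul, FreeGroup.lift_apply_of] using h

theorem word_one_2 (f : Fi23.Gen → K) (hf : ∀ r ∈ rels, FreeGroup.lift f r = 1) :
    (((List.replicate 2 [0, 3]).flatten).map (fun s => f (gen s))).prod = 1 := by
  have h := hf _ (Or.inl ⟨.a, node _, .d, node _, rfl⟩)
  rw [label_ad] at h
  rw [rep_word]
  simp only [List.map_cons, List.map_nil, List.prod_cons, List.prod_nil, mul_one, gen]
  simpa only [map_pow, map_mul, FreeGroup.lift_apply_of] using h

theorem word_one_3 (f : Fi23.Gen → K) (hf : ∀ r ∈ rels, FreeGroup.lift f r = 1) :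
    (((List.replicate 2 [0, 4]).flatten).map (fun s => f (gen s))).prod = 1 := by
  have h := hf _ (Or.inl ⟨.a, node _, .e, node _, rfl⟩)
  rw [label_ae] at h
  rw [rep_word]
  simp only [List.map_cons, List.map_nil, List.prod_cons, List.prod_nil, mul_one, gen]
  simpa only [map_pow, map_mul, FreeGroup.lift_apply_of] using h

theorem word_one_4 (f : Fi23.Gen → K) (hf : ∀ r ∈ rels, FreeGroup.lift f r = 1) :
    (((List.replicate 2 [0, 5]).flatten).map (fun s => f (gen s))).prod = 1 := by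
  have h := hf _ (Or.inl ⟨.a, node _, .f, node _, rfl⟩)
  rw [label_af] at h
  rw [rep_word]
  simp only [List.map_cons, List.map_nil, List.prod_cons, List.prod_nil, mul_one, gen]
  simpa only [map_pow, map_mul, FreeGroup.lift_apply_of] using h

theorem word_one_5 (f : Fi23.Gen → K) (hf : ∀ r ∈ rels, FreeGroup.lift f r = 1) :
    (((List.replicate 2 [0, 6]).flatten).map (fun s => f (gen s))).prod = 1 := by
  have h := hf _ (Or.inl ⟨.a, node _, .g, node _, rfl⟩)
  rw [label_ag] at h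
  rw [rep_word]
  simp only [List.map_cons, List.map_nil, List.prod_cons, List.prod_nil, mul_one, gen]
  simpa only [map_pow, map_mul, FreeGroup.lift_apply_of] using h

theorem word_one_6 (f : Fi23.Gen → K) (hf : ∀ r ∈ rels, FreeGroup.lift f r = 1) :
    (((List.replicate 2 [0, 7]).flatten).map (fun s => f (gen s))).prod = 1 := by
  have h := hf _ (Or.inl ⟨.a, node _, .j, node _, rfl⟩)
  rw [label_aj] at h
  rw [rep_word]
  simp only [List.map_cons, List.map_nil, List.prod_cons, List.prod_nil, mul_one, gen]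
  simpa only [map_pow, map_mul, FreeGroup.lift_apply_of] using h

theorem word_one_7 (f : Fi23.Gen → K) (hf : ∀ r ∈ rels, FreeGroup.lift f r = 1) :
    (((List.replicate 2 [0, 8]).flatten).map (fun s => f (gen s))).prod = 1 := by
  have h := hf _ (Or.inl ⟨.a, node _, .h, node _, rfl⟩)
  rw [label_ah] at h
  rw [rep_word]
  simp only [List.map_cons, List.map_nil, List.prod_cons, List.prod_nil, mul_one, gen]
  simpa only [map_pow, map_mul, FreeGroup.lift_apply_of] using h

theorem word_one_8 (f : Fi23.Gen → K) (hf : ∀ r ∈ rels, FreeGroup.lift f r = 1) :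
    (((List.replicate 2 [0, 9]).flatten).map (fun s => f (gen s))).prod = 1 := by
  have h := hf _ (Or.inl ⟨.a, node _, .i, node _, rfl⟩)
  rw [label_ai] at h
  rw [rep_word]
  simp only [List.map_cons, List.map_nil, List.prod_cons, List.prod_nil, mul_one, gen]
  simpa only [map_pow, map_mul, FreeGroup.lift_apply_of] using h

theorem word_one_9 (f : Fi23.Gen → K) (hf : ∀ r ∈ rels, FreeGroup.lift f r = 1) :
    (((List.replicate 3 [1, 2]).flatten).map (fun s => f (gen s))).prod = 1 := by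
  have h := hf _ (Or.inl ⟨.b, node _, .c, node _, rfl⟩)
  rw [label_bc] at h
  rw [rep_word]
  simp only [List.map_cons, List.map_nil, List.prod_cons, List.prod_nil, mul_one, gen]
  simpa only [map_pow, map_mul, FreeGroup.lift_apply_of] using h

theorem word_one_10 (f : Fi23.Gen → K) (hf : ∀ r ∈ rels, FreeGroup.lift f r = 1) :
    (((List.replicate 2 [1, 3]).flatten).map (fun s => f (gen s))).prod = 1 := by
  have h := hf _ (Or.inl ⟨.b, node _, .d, node _, rfl⟩)
  rw [label_bd] at h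
  rw [rep_word]
  simp only [List.map_cons, List.map_nil, List.prod_cons, List.prod_nil, mul_one, gen]
  simpa only [map_pow, map_mul, FreeGroup.lift_apply_of] using h

theorem word_one_11 (f : Fi23.Gen → K) (hf : ∀ r ∈ rels, FreeGroup.lift f r = 1) :
    (((List.replicate 2 [1, 4]).flatten).map (fun s => f (gen s))).prod = 1 := by
  have h := hf _ (Or.inl ⟨.b, node _, .e, node _, rfl⟩)
  rw [label_be] at h
  rw [rep_word]
  simp only [List.map_cons, List.map_nil, List.prod_cons, List.prod_nil, mul_one, gen]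
  simpa only [map_pow, map_mul, FreeGroup.lift_apply_of] using h

theorem word_one_12 (f : Fi23.Gen → K) (hf : ∀ r ∈ rels, FreeGroup.lift f r = 1) :
    (((List.replicate 2 [1, 5]).flatten).map (fun s => f (gen s))).prod = 1 := by
  have h := hf _ (Or.inl ⟨.b, node _, .f, node _, rfl⟩)
  rw [label_bf] at h
  rw [rep_word]
  simp only [List.map_cons, List.map_nil, List.prod_cons, List.prod_nil, mul_one, gen]
  simpa only [map_pow, map_mul, FreeGroup.lift_apply_of] using h

theorem word_one_13 (f : Fi23.Gen → K) (hf : ∀ r ∈ rels, FreeGroup.lift f r = 1) :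
    (((List.replicate 2 [1, 6]).flatten).map (fun s => f (gen s))).prod = 1 := by
  have h := hf _ (Or.inl ⟨.b, node _, .g, node _, rfl⟩)
  rw [label_bg] at h
  rw [rep_word]
  simp only [List.map_cons, List.map_nil, List.prod_cons, List.prod_nil, mul_one, gen]
  simpa only [map_pow, map_mul, FreeGroup.lift_apply_of] using h

theorem word_one_14 (f : Fi23.Gen → K) (hf : ∀ r ∈ rels, FreeGroup.lift f r = 1) :
    (((List.replicate 2 [1, 7]).flatten).map (fun s => f (gen s))).prod = 1 := by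
  have h := hf _ (Or.inl ⟨.b, node _, .j, node _, rfl⟩)
  rw [label_bj] at h
  rw [rep_word]
  simp only [List.map_cons, List.map_nil, List.prod_cons, List.prod_nil, mul_one, gen]
  simpa only [map_pow, map_mul, FreeGroup.lift_apply_of] using h

theorem word_one_15 (f : Fi23.Gen → K) (hf : ∀ r ∈ rels, FreeGroup.lift f r = 1) :
    (((List.replicate 2 [1, 8]).flatten).map (fun s => f (gen s))).prod = 1 := by
  have h := hf _ (Or.inl ⟨.b, node _, .h, node _, rfl⟩)
  rw [label_bh] at h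
  rw [rep_word]
  simp only [List.map_cons, List.map_nil, List.prod_cons, List.prod_nil, mul_one, gen]
  simpa only [map_pow, map_mul, FreeGroup.lift_apply_of] using h

theorem word_one_16 (f : Fi23.Gen → K) (hf : ∀ r ∈ rels, FreeGroup.lift f r = 1) :
    (((List.replicate 2 [1, 9]).flatten).map (fun s => f (gen s))).prod = 1 := by
  have h := hf _ (Or.inl ⟨.b, node _, .i, node _, rfl⟩)
  rw [label_bi] at h
  rw [rep_word]
  simp only [List.map_cons, List.map_nil, List.prod_cons, List.prod_nil, mul_one, gen]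
  simpa only [map_pow, map_mul, FreeGroup.lift_apply_of] using h

theorem word_one_17 (f : Fi23.Gen → K) (hf : ∀ r ∈ rels, FreeGroup.lift f r = 1) :
    (((List.replicate 3 [2, 3]).flatten).map (fun s => f (gen s))).prod = 1 := by
  have h := hf _ (Or.inl ⟨.c, node _, .d, node _, rfl⟩)
  rw [label_cd] at h
  rw [rep_word]
  simp only [List.map_cons, List.map_nil, List.prod_cons, List.prod_nil, mul_one, gen]
  simpa only [map_pow, map_mul, FreeGroup.lift_apply_of] using h

theorem word_one_18 (f : Fi23.Gen → K) (hf : ∀ r ∈ rels, FreeGroup.lift f r = 1) :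
    (((List.replicate 2 [2, 4]).flatten).map (fun s => f (gen s))).prod = 1 := by
  have h := hf _ (Or.inl ⟨.c, node _, .e, node _, rfl⟩)
  rw [label_ce] at h
  rw [rep_word]
  simp only [List.map_cons, List.map_nil, List.prod_cons, List.prod_nil, mul_one, gen]
  simpa only [map_pow, map_mul, FreeGroup.lift_apply_of] using h

theorem word_one_19 (f : Fi23.Gen → K) (hf : ∀ r ∈ rels, FreeGroup.lift f r = 1) :
    (((List.replicate 2 [2, 5]).flatten).map (fun s => f (gen s))).prod = 1 := by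
  have h := hf _ (Or.inl ⟨.c, node _, .f, node _, rfl⟩)
  rw [label_cf] at h
  rw [rep_word]
  simp only [List.map_cons, List.map_nil, List.prod_cons, List.prod_nil, mul_one, gen]
  simpa only [map_pow, map_mul, FreeGroup.lift_apply_of] using h

theorem word_one_20 (f : Fi23.Gen → K) (hf : ∀ r ∈ rels, FreeGroup.lift f r = 1) :
    (((List.replicate 2 [2, 6]).flatten).map (fun s => f (gen s))).prod = 1 := by
  have h := hf _ (Or.inl ⟨.c, node _, .g, node _, rfl⟩)
  rw [label_cg] at h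
  rw [rep_word]
  simp only [List.map_cons, List.map_nil, List.prod_cons, List.prod_nil, mul_one, gen]
  simpa only [map_pow, map_mul, FreeGroup.lift_apply_of] using h

theorem word_one_21 (f : Fi23.Gen → K) (hf : ∀ r ∈ rels, FreeGroup.lift f r = 1) :
    (((List.replicate 2 [2, 7]).flatten).map (fun s => f (gen s))).prod = 1 := by
  have h := hf _ (Or.inl ⟨.c, node _, .j, node _, rfl⟩)
  rw [label_cj] at h
  rw [rep_word]
  simp only [List.map_cons, List.map_nil, List.prod_cons, List.prod_nil, mul_one, gen]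
  simpa only [map_pow, map_mul, FreeGroup.lift_apply_of] using h

theorem word_one_22 (f : Fi23.Gen → K) (hf : ∀ r ∈ rels, FreeGroup.lift f r = 1) :
    (((List.replicate 2 [2, 8]).flatten).map (fun s => f (gen s))).prod = 1 := by
  have h := hf _ (Or.inl ⟨.c, node _, .h, node _, rfl⟩)
  rw [label_ch] at h
  rw [rep_word]
  simp only [List.map_cons, List.map_nil, List.prod_cons, List.prod_nil, mul_one, gen]
  simpa only [map_pow, map_mul, FreeGroup.lift_apply_of] using h

theorem word_one_23 (f : Fi23.Gen → K) (hf : ∀ r ∈ rels, FreeGroup.lift f r = 1) :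
    (((List.replicate 2 [2, 9]).flatten).map (fun s => f (gen s))).prod = 1 := by
  have h := hf _ (Or.inl ⟨.c, node _, .i, node _, rfl⟩)
  rw [label_ci] at h
  rw [rep_word]
  simp only [List.map_cons, List.map_nil, List.prod_cons, List.prod_nil, mul_one, gen]
  simpa only [map_pow, map_mul, FreeGroup.lift_apply_of] using h

theorem word_one_24 (f : Fi23.Gen → K) (hf : ∀ r ∈ rels, FreeGroup.lift f r = 1) :
    (((List.replicate 3 [3, 4]).flatten).map (fun s => f (gen s))).prod = 1 := by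
  have h := hf _ (Or.inl ⟨.d, node _, .e, node _, rfl⟩)
  rw [label_de] at h
  rw [rep_word]
  simp only [List.map_cons, List.map_nil, List.prod_cons, List.prod_nil, mul_one, gen]
  simpa only [map_pow, map_mul, FreeGroup.lift_apply_of] using h

theorem word_one_25 (f : Fi23.Gen → K) (hf : ∀ r ∈ rels, FreeGroup.lift f r = 1) :
    (((List.replicate 2 [3, 5]).flatten).map (fun s => f (gen s))).prod = 1 := by
  have h := hf _ (Or.inl ⟨.d, node _, .f, node _, rfl⟩)
  rw [label_df] at h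
  rw [rep_word]
  simp only [List.map_cons, List.map_nil, List.prod_cons, List.prod_nil, mul_one, gen]
  simpa only [map_pow, map_mul, FreeGroup.lift_apply_of] using h

theorem word_one_26 (f : Fi23.Gen → K) (hf : ∀ r ∈ rels, FreeGroup.lift f r = 1) :
    (((List.replicate 2 [3, 6]).flatten).map (fun s => f (gen s))).prod = 1 := by
  have h := hf _ (Or.inl ⟨.d, node _, .g, node _, rfl⟩)
  rw [label_dg] at h
  rw [rep_word]
  simp only [List.map_cons, List.map_nil, List.prod_cons, List.prod_nil, mul_one, gen]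
  simpa only [map_pow, map_mul, FreeGroup.lift_apply_of] using h

theorem word_one_27 (f : Fi23.Gen → K) (hf : ∀ r ∈ rels, FreeGroup.lift f r = 1) :
    (((List.replicate 2 [3, 7]).flatten).map (fun s => f (gen s))).prod = 1 := by
  have h := hf _ (Or.inl ⟨.d, node _, .j, node _, rfl⟩)
  rw [label_dj] at h
  rw [rep_word]
  simp only [List.map_cons, List.map_nil, List.prod_cons, List.prod_nil, mul_one, gen]
  simpa only [map_pow, map_mul, FreeGroup.lift_apply_of] using h

theorem word_one_28 (f : Fi23.Gen → K) (hf : ∀ r ∈ rels, FreeGroup.lift f r = 1) :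
    (((List.replicate 3 [3, 8]).flatten).map (fun s => f (gen s))).prod = 1 := by
  have h := hf _ (Or.inl ⟨.d, node _, .h, node _, rfl⟩)
  rw [label_dh] at h
  rw [rep_word]
  simp only [List.map_cons, List.map_nil, List.prod_cons, List.prod_nil, mul_one, gen]
  simpa only [map_pow, map_mul, FreeGroup.lift_apply_of] using h

theorem word_one_29 (f : Fi23.Gen → K) (hf : ∀ r ∈ rels, FreeGroup.lift f r = 1) :
    (((List.replicate 2 [3, 9]).flatten).map (fun s => f (gen s))).prod = 1 := by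
  have h := hf _ (Or.inl ⟨.d, node _, .i, node _, rfl⟩)
  rw [label_di] at h
  rw [rep_word]
  simp only [List.map_cons, List.map_nil, List.prod_cons, List.prod_nil, mul_one, gen]
  simpa only [map_pow, map_mul, FreeGroup.lift_apply_of] using h

theorem word_one_30 (f : Fi23.Gen → K) (hf : ∀ r ∈ rels, FreeGroup.lift f r = 1) :
    (((List.replicate 3 [4, 5]).flatten).map (fun s => f (gen s))).prod = 1 := by
  have h := hf _ (Or.inl ⟨.e, node _, .f, node _, rfl⟩)
  rw [label_ef] at h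
  rw [rep_word]
  simp only [List.map_cons, List.map_nil, List.prod_cons, List.prod_nil, mul_one, gen]
  simpa only [map_pow, map_mul, FreeGroup.lift_apply_of] using h

theorem word_one_31 (f : Fi23.Gen → K) (hf : ∀ r ∈ rels, FreeGroup.lift f r = 1) :
    (((List.replicate 2 [4, 6]).flatten).map (fun s => f (gen s))).prod = 1 := by
  have h := hf _ (Or.inl ⟨.e, node _, .g, node _, rfl⟩)
  rw [label_eg] at h
  rw [rep_word]
  simp only [List.map_cons, List.map_nil, List.prod_cons, List.prod_nil, mul_one, gen]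
  simpa only [map_pow, map_mul, FreeGroup.lift_apply_of] using h

theorem word_one_32 (f : Fi23.Gen → K) (hf : ∀ r ∈ rels, FreeGroup.lift f r = 1) :
    (((List.replicate 2 [4, 7]).flatten).map (fun s => f (gen s))).prod = 1 := by
  have h := hf _ (Or.inl ⟨.e, node _, .j, node _, rfl⟩)
  rw [label_ej] at h
  rw [rep_word]
  simp only [List.map_cons, List.map_nil, List.prod_cons, List.prod_nil, mul_one, gen]
  simpa only [map_pow, map_mul, FreeGroup.lift_apply_of] using h

theorem word_one_33 (f : Fi23.Gen → K) (hf : ∀ r ∈ rels, FreeGroup.lift f r = 1) :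
    (((List.replicate 2 [4, 8]).flatten).map (fun s => f (gen s))).prod = 1 := by
  have h := hf _ (Or.inl ⟨.e, node _, .h, node _, rfl⟩)
  rw [label_eh] at h
  rw [rep_word]
  simp only [List.map_cons, List.map_nil, List.prod_cons, List.prod_nil, mul_one, gen]
  simpa only [map_pow, map_mul, FreeGroup.lift_apply_of] using h

theorem word_one_34 (f : Fi23.Gen → K) (hf : ∀ r ∈ rels, FreeGroup.lift f r = 1) :
    (((List.replicate 2 [4, 9]).flatten).map (fun s => f (gen s))).prod = 1 := by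
  have h := hf _ (Or.inl ⟨.e, node _, .i, node _, rfl⟩)
  rw [label_ei] at h
  rw [rep_word]
  simp only [List.map_cons, List.map_nil, List.prod_cons, List.prod_nil, mul_one, gen]
  simpa only [map_pow, map_mul, FreeGroup.lift_apply_of] using h

theorem word_one_35 (f : Fi23.Gen → K) (hf : ∀ r ∈ rels, FreeGroup.lift f r = 1) :
    (((List.replicate 3 [5, 6]).flatten).map (fun s => f (gen s))).prod = 1 := by
  have h := hf _ (Or.inl ⟨.f, node _, .g, node _, rfl⟩)
  rw [label_fg] at h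
  rw [rep_word]
  simp only [List.map_cons, List.map_nil, List.prod_cons, List.prod_nil, mul_one, gen]
  simpa only [map_pow, map_mul, FreeGroup.lift_apply_of] using h

theorem word_one_36 (f : Fi23.Gen → K) (hf : ∀ r ∈ rels, FreeGroup.lift f r = 1) :
    (((List.replicate 2 [5, 7]).flatten).map (fun s => f (gen s))).prod = 1 := by
  have h := hf _ (Or.inl ⟨.f, node _, .j, node _, rfl⟩)
  rw [label_fj] at h
  rw [rep_word]
  simp only [List.map_cons, List.map_nil, List.prod_cons, List.prod_nil, mul_one, gen]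
  simpa only [map_pow, map_mul, FreeGroup.lift_apply_of] using h

theorem word_one_37 (f : Fi23.Gen → K) (hf : ∀ r ∈ rels, FreeGroup.lift f r = 1) :
    (((List.replicate 2 [5, 8]).flatten).map (fun s => f (gen s))).prod = 1 := by
  have h := hf _ (Or.inl ⟨.f, node _, .h, node _, rfl⟩)
  rw [label_fh] at h
  rw [rep_word]
  simp only [List.map_cons, List.map_nil, List.prod_cons, List.prod_nil, mul_one, gen]
  simpa only [map_pow, map_mul, FreeGroup.lift_apply_of] using h

theorem word_one_38 (f : Fi23.Gen → K) (hf : ∀ r ∈ rels, FreeGroup.lift f r = 1) :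
    (((List.replicate 2 [5, 9]).flatten).map (fun s => f (gen s))).prod = 1 := by
  have h := hf _ (Or.inl ⟨.f, node _, .i, node _, rfl⟩)
  rw [label_fi] at h
  rw [rep_word]
  simp only [List.map_cons, List.map_nil, List.prod_cons, List.prod_nil, mul_one, gen]
  simpa only [map_pow, map_mul, FreeGroup.lift_apply_of] using h

theorem word_one_39 (f : Fi23.Gen → K) (hf : ∀ r ∈ rels, FreeGroup.lift f r = 1) :
    (((List.replicate 3 [6, 7]).flatten).map (fun s => f (gen s))).prod = 1 := by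
  have h := hf _ (Or.inl ⟨.g, node _, .j, node _, rfl⟩)
  rw [label_gj] at h
  rw [rep_word]
  simp only [List.map_cons, List.map_nil, List.prod_cons, List.prod_nil, mul_one, gen]
  simpa only [map_pow, map_mul, FreeGroup.lift_apply_of] using h

theorem word_one_40 (f : Fi23.Gen → K) (hf : ∀ r ∈ rels, FreeGroup.lift f r = 1) :
    (((List.replicate 2 [6, 8]).flatten).map (fun s => f (gen s))).prod = 1 := by
  have h := hf _ (Or.inl ⟨.g, node _, .h, node _, rfl⟩)
  rw [label_gh] at h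
  rw [rep_word]
  simp only [List.map_cons, List.map_nil, List.prod_cons, List.prod_nil, mul_one, gen]
  simpa only [map_pow, map_mul, FreeGroup.lift_apply_of] using h

theorem word_one_41 (f : Fi23.Gen → K) (hf : ∀ r ∈ rels, FreeGroup.lift f r = 1) :
    (((List.replicate 2 [6, 9]).flatten).map (fun s => f (gen s))).prod = 1 := by
  have h := hf _ (Or.inl ⟨.g, node _, .i, node _, rfl⟩)
  rw [label_gi] at h
  rw [rep_word]
  simp only [List.map_cons, List.map_nil, List.prod_cons, List.prod_nil, mul_one, gen]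
  simpa only [map_pow, map_mul, FreeGroup.lift_apply_of] using h

theorem word_one_42 (f : Fi23.Gen → K) (hf : ∀ r ∈ rels, FreeGroup.lift f r = 1) :
    (((List.replicate 2 [7, 8]).flatten).map (fun s => f (gen s))).prod = 1 := by
  have h := hf _ (Or.inl ⟨.j, node _, .h, node _, rfl⟩)
  rw [label_jh] at h
  rw [rep_word]
  simp only [List.map_cons, List.map_nil, List.prod_cons, List.prod_nil, mul_one, gen]
  simpa only [map_pow, map_mul, FreeGroup.lift_apply_of] using h

theorem word_one_43 (f : Fi23.Gen → K) (hf : ∀ r ∈ rels, FreeGroup.lift f r = 1) :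
    (((List.replicate 2 [7, 9]).flatten).map (fun s => f (gen s))).prod = 1 := by
  have h := hf _ (Or.inl ⟨.j, node _, .i, node _, rfl⟩)
  rw [label_ji] at h
  rw [rep_word]
  simp only [List.map_cons, List.map_nil, List.prod_cons, List.prod_nil, mul_one, gen]
  simpa only [map_pow, map_mul, FreeGroup.lift_apply_of] using h

theorem word_one_44 (f : Fi23.Gen → K) (hf : ∀ r ∈ rels, FreeGroup.lift f r = 1) :
    (((List.replicate 3 [8, 9]).flatten).map (fun s => f (gen s))).prod = 1 := by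
  have h := hf _ (Or.inl ⟨.h, node _, .i, node _, rfl⟩)
  rw [label_hi] at h
  rw [rep_word]
  simp only [List.map_cons, List.map_nil, List.prod_cons, List.prod_nil, mul_one, gen]
  simpa only [map_pow, map_mul, FreeGroup.lift_apply_of] using h

theorem word_one_45 (f : Fi23.Gen → K) (hf : ∀ r ∈ rels, FreeGroup.lift f r = 1) :
    (((List.replicate 10 [3, 2, 1, 3, 4, 5, 3, 8, 9]).flatten).map (fun s => f (gen s))).prod = 1 := by
  have h := hf _ (Or.inr (show _ ∈ Fi23.extra from List.Mem.head _))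
  rw [rep_word]
  simp only [List.map_cons, List.map_nil, List.prod_cons, List.prod_nil, mul_one, gen]
  simp only [map_pow, map_mul, FreeGroup.lift_apply_of, mul_assoc] at h ⊢
  exact h

theorem word_one_46 (f : Fi23.Gen → K) (hf : ∀ r ∈ rels, FreeGroup.lift f r = 1) :
    (((List.replicate 9 [0, 1, 2, 3, 4, 5, 8]).flatten).map (fun s => f (gen s))).prod = 1 := by
  have h := hf _ (Or.inr (show _ ∈ Fi23.extra from List.Mem.tail _ (List.Mem.head _)))
  rw [rep_word]
  simp only [List.map_cons, List.map_nil, List.prod_cons, List.prod_nil, mul_one, gen]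
  simp only [map_pow, map_mul, FreeGroup.lift_apply_of, mul_assoc] at h ⊢
  exact h

theorem words_one (f : Fi23.Gen → K) (hf : ∀ r ∈ rels, FreeGroup.lift f r = 1) :
    ∀ w ∈ words, (w.map (fun s => f (gen s))).prod = 1 := by
  intro w hw
  simp only [words, List.mem_cons, List.not_mem_nil, or_false] at hw
  rcases hw with rfl | rfl | rfl | rfl | rfl | rfl | rfl | rfl | rfl | rfl | rfl | rfl | rfl | rfl | rfl | rfl | rfl | rfl | rfl | rfl | rfl | rfl | rfl | rfl | rfl | rfl | rfl | rfl | rfl | rfl | rfl | rfl | rfl | rfl | rfl | rfl | rfl | rfl | rfl | rfl | rfl | rfl | rfl | rfl | rfl | rfl | rfl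
  · exact word_one_0 f hf
  · exact word_one_1 f hf
  · exact word_one_2 f hf
  · exact word_one_3 f hf
  · exact word_one_4 f hf
  · exact word_one_5 f hf
  · exact word_one_6 f hf
  · exact word_one_7 f hf
  · exact word_one_8 f hf
  · exact word_one_9 f hf
  · exact word_one_10 f hf
  · exact word_one_11 f hf
  · exact word_one_12 f hf
  · exact word_one_13 f hf
  · exact word_one_14 f hf
  · exact word_one_15 f hf
  · exact word_one_16 f hf
  · exact word_one_17 f hf
  · exact word_one_18 f hf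
  · exact word_one_19 f hf
  · exact word_one_20 f hf
  · exact word_one_21 f hf
  · exact word_one_22 f hf
  · exact word_one_23 f hf
  · exact word_one_24 f hf
  · exact word_one_25 f hf
  · exact word_one_26 f hf
  · exact word_one_27 f hf
  · exact word_one_28 f hf
  · exact word_one_29 f hf
  · exact word_one_30 f hf
  · exact word_one_31 f hf
  · exact word_one_32 f hf
  · exact word_one_33 f hf
  · exact word_one_34 f hf
  · exact word_one_35 f hf
  · exact word_one_36 f hf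
  · exact word_one_37 f hf
  · exact word_one_38 f hf
  · exact word_one_39 f hf
  · exact word_one_40 f hf
  · exact word_one_41 f hf
  · exact word_one_42 f hf
  · exact word_one_43 f hf
  · exact word_one_44 f hf
  · exact word_one_45 f hf
  · exact word_one_46 f hf

theorem cox_case (σ : ℕ → K) (hσ : ∀ s, σ s * σ s = 1)
    (hw : ∀ w ∈ words, (w.map σ).prod = 1) (i j m : ℕ)
    (hmem : (List.replicate m [i, j]).flatten ∈ words) :
    (σ i * σ j) ^ m = 1 ∧ (σ j * σ i) ^ m = 1 := by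
  have h := hw _ hmem
  rw [pair_word] at h
  exact ⟨h, pair_swap (hσ i) (hσ j) h⟩

theorem lift_cox_aa (σ : ℕ → K) (hσ : ∀ s, σ s * σ s = 1)
    (hw : ∀ w ∈ words, (w.map σ).prod = 1) :
    FreeGroup.lift (fun x => σ (idx x)) ((FreeGroup.of (Fi23.Gen.a) * FreeGroup.of (Fi23.Gen.a)) ^ coxLabel Fi23.edges .a .a) = 1 := by
  simpa [coxLabel, idx] using hσ 0

theorem lift_cox_ab (σ : ℕ → K) (hσ : ∀ s, σ s * σ s = 1)
    (hw : ∀ w ∈ words, (w.map σ).prod = 1) :
    FreeGroup.lift (fun x => σ (idx x)) ((FreeGroup.of (Fi23.Gen.a) * FreeGroup.of (Fi23.Gen.b)) ^ coxLabel Fi23.edges .a .b) = 1 := by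
  rw [label_ab]
  simpa only [map_pow, map_mul, FreeGroup.lift_apply_of, idx] using
    (cox_case σ hσ hw 0 1 3 (List.Mem.head _)).1

theorem lift_cox_ac (σ : ℕ → K) (hσ : ∀ s, σ s * σ s = 1)
    (hw : ∀ w ∈ words, (w.map σ).prod = 1) :
    FreeGroup.lift (fun x => σ (idx x)) ((FreeGroup.of (Fi23.Gen.a) * FreeGroup.of (Fi23.Gen.c)) ^ coxLabel Fi23.edges .a .c) = 1 := by
  rw [label_ac]
  simpa only [map_pow, map_mul, FreeGroup.lift_apply_of, idx] using
    (cox_case σ hσ hw 0 2 2 (List.Mem.tail _ (List.Mem.head _))).1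

theorem lift_cox_ad (σ : ℕ → K) (hσ : ∀ s, σ s * σ s = 1)
    (hw : ∀ w ∈ words, (w.map σ).prod = 1) :
    FreeGroup.lift (fun x => σ (idx x)) ((FreeGroup.of (Fi23.Gen.a) * FreeGroup.of (Fi23.Gen.d)) ^ coxLabel Fi23.edges .a .d) = 1 := by
  rw [label_ad]
  simpa only [map_pow, map_mul, FreeGroup.lift_apply_of, idx] using
    (cox_case σ hσ hw 0 3 2 (List.Mem.tail _ (List.Mem.tail _ (List.Mem.head _)))).1

theorem lift_cox_ae (σ : ℕ → K) (hσ : ∀ s, σ s * σ s = 1)
    (hw : ∀ w ∈ words, (w.map σ).prod = 1) :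
    FreeGroup.lift (fun x => σ (idx x)) ((FreeGroup.of (Fi23.Gen.a) * FreeGroup.of (Fi23.Gen.e)) ^ coxLabel Fi23.edges .a .e) = 1 := by
  rw [label_ae]
  simpa only [map_pow, map_mul, FreeGroup.lift_apply_of, idx] using
    (cox_case σ hσ hw 0 4 2 (List.Mem.tail _ (List.Mem.tail _ (List.Mem.tail _ (List.Mem.head _))))).1

theorem lift_cox_af (σ : ℕ → K) (hσ : ∀ s, σ s * σ s = 1)
    (hw : ∀ w ∈ words, (w.map σ).prod = 1) :
    FreeGroup.lift (fun x => σ (idx x)) ((FreeGroup.of (Fi23.Gen.a) * FreeGroup.of (Fi23.Gen.f)) ^ coxLabel Fi23.edges .a .f) = 1 := by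
  rw [label_af]
  simpa only [map_pow, map_mul, FreeGroup.lift_apply_of, idx] using
    (cox_case σ hσ hw 0 5 2 (List.Mem.tail _ (List.Mem.tail _ (List.Mem.tail _ (List.Mem.tail _ (List.Mem.head _)))))).1

theorem lift_cox_ag (σ : ℕ → K) (hσ : ∀ s, σ s * σ s = 1)
    (hw : ∀ w ∈ words, (w.map σ).prod = 1) :
    FreeGroup.lift (fun x => σ (idx x)) ((FreeGroup.of (Fi23.Gen.a) * FreeGroup.of (Fi23.Gen.g)) ^ coxLabel Fi23.edges .a .g) = 1 := by
  rw [label_ag]
  simpa only [map_pow, map_mul, FreeGroup.lift_apply_of, idx] using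
    (cox_case σ hσ hw 0 6 2 (List.Mem.tail _ (List.Mem.tail _ (List.Mem.tail _ (List.Mem.tail _ (List.Mem.tail _ (List.Mem.head _))))))).1

theorem lift_cox_aj (σ : ℕ → K) (hσ : ∀ s, σ s * σ s = 1)
    (hw : ∀ w ∈ words, (w.map σ).prod = 1) :
    FreeGroup.lift (fun x => σ (idx x)) ((FreeGroup.of (Fi23.Gen.a) * FreeGroup.of (Fi23.Gen.j)) ^ coxLabel Fi23.edges .a .j) = 1 := by
  rw [label_aj]
  simpa only [map_pow, map_mul, FreeGroup.lift_apply_of, idx] using
    (cox_case σ hσ hw 0 7 2 (List.Mem.tail _ (List.Mem.tail _ (List.Mem.tail _ (List.Mem.tail _ (List.Mem.tail _ (List.Mem.tail _ (List.Mem.head _)))))))).1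

theorem lift_cox_ah (σ : ℕ → K) (hσ : ∀ s, σ s * σ s = 1)
    (hw : ∀ w ∈ words, (w.map σ).prod = 1) :
    FreeGroup.lift (fun x => σ (idx x)) ((FreeGroup.of (Fi23.Gen.a) * FreeGroup.of (Fi23.Gen.h)) ^ coxLabel Fi23.edges .a .h) = 1 := by
  rw [label_ah]
  simpa only [map_pow, map_mul, FreeGroup.lift_apply_of, idx] using
    (cox_case σ hσ hw 0 8 2 (List.Mem.tail _ (List.Mem.tail _ (List.Mem.tail _ (List.Mem.tail _ (List.Mem.tail _ (List.Mem.tail _ (List.Mem.tail _ (List.Mem.head _))))))))).1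

theorem lift_cox_ai (σ : ℕ → K) (hσ : ∀ s, σ s * σ s = 1)
    (hw : ∀ w ∈ words, (w.map σ).prod = 1) :
    FreeGroup.lift (fun x => σ (idx x)) ((FreeGroup.of (Fi23.Gen.a) * FreeGroup.of (Fi23.Gen.i)) ^ coxLabel Fi23.edges .a .i) = 1 := by
  rw [label_ai]
  simpa only [map_pow, map_mul, FreeGroup.lift_apply_of, idx] using
    (cox_case σ hσ hw 0 9 2 (List.Mem.tail _ (List.Mem.tail _ (List.Mem.tail _ (List.Mem.tail _ (List.Mem.tail _ (List.Mem.tail _ (List.Mem.tail _ (List.Mem.tail _ (List.Mem.head _)))))))))).1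

theorem lift_cox_ba (σ : ℕ → K) (hσ : ∀ s, σ s * σ s = 1)
    (hw : ∀ w ∈ words, (w.map σ).prod = 1) :
    FreeGroup.lift (fun x => σ (idx x)) ((FreeGroup.of (Fi23.Gen.b) * FreeGroup.of (Fi23.Gen.a)) ^ coxLabel Fi23.edges .b .a) = 1 := by
  rw [label_ba]
  simpa only [map_pow, map_mul, FreeGroup.lift_apply_of, idx] using
    (cox_case σ hσ hw 0 1 3 (List.Mem.head _)).2

theorem lift_cox_bb (σ : ℕ → K) (hσ : ∀ s, σ s * σ s = 1)
    (hw : ∀ w ∈ words, (w.map σ).prod = 1) :
    FreeGroup.lift (fun x => σ (idx x)) ((FreeGroup.of (Fi23.Gen.b) * FreeGroup.of (Fi23.Gen.b)) ^ coxLabel Fi23.edges .b .b) = 1 := by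
  simpa [coxLabel, idx] using hσ 1

theorem lift_cox_bc (σ : ℕ → K) (hσ : ∀ s, σ s * σ s = 1)
    (hw : ∀ w ∈ words, (w.map σ).prod = 1) :
    FreeGroup.lift (fun x => σ (idx x)) ((FreeGroup.of (Fi23.Gen.b) * FreeGroup.of (Fi23.Gen.c)) ^ coxLabel Fi23.edges .b .c) = 1 := by
  rw [label_bc]
  simpa only [map_pow, map_mul, FreeGroup.lift_apply_of, idx] using
    (cox_case σ hσ hw 1 2 3 (List.Mem.tail _ (List.Mem.tail _ (List.Mem.tail _ (List.Mem.tail _ (List.Mem.tail _ (List.Mem.tail _ (List.Mem.tail _ (List.Mem.tail _ (List.Mem.tail _ (List.Mem.head _))))))))))).1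

theorem lift_cox_bd (σ : ℕ → K) (hσ : ∀ s, σ s * σ s = 1)
    (hw : ∀ w ∈ words, (w.map σ).prod = 1) :
    FreeGroup.lift (fun x => σ (idx x)) ((FreeGroup.of (Fi23.Gen.b) * FreeGroup.of (Fi23.Gen.d)) ^ coxLabel Fi23.edges .b .d) = 1 := by
  rw [label_bd]
  simpa only [map_pow, map_mul, FreeGroup.lift_apply_of, idx] using
    (cox_case σ hσ hw 1 3 2 (List.Mem.tail _ (List.Mem.tail _ (List.Mem.tail _ (List.Mem.tail _ (List.Mem.tail _ (List.Mem.tail _ (List.Mem.tail _ (List.Mem.tail _ (List.Mem.tail _ (List.Mem.tail _ (List.Mem.head _)))))))))))).1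

theorem lift_cox_be (σ : ℕ → K) (hσ : ∀ s, σ s * σ s = 1)
    (hw : ∀ w ∈ words, (w.map σ).prod = 1) :
    FreeGroup.lift (fun x => σ (idx x)) ((FreeGroup.of (Fi23.Gen.b) * FreeGroup.of (Fi23.Gen.e)) ^ coxLabel Fi23.edges .b .e) = 1 := by
  rw [label_be]
  simpa only [map_pow, map_mul, FreeGroup.lift_apply_of, idx] using
    (cox_case σ hσ hw 1 4 2 (List.Mem.tail _ (List.Mem.tail _ (List.Mem.tail _ (List.Mem.tail _ (List.Mem.tail _ (List.Mem.tail _ (List.Mem.tail _ (List.Mem.tail _ (List.Mem.tail _ (List.Mem.tail _ (List.Mem.tail _ (List.Mem.head _))))))))))))).1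

theorem lift_cox_bf (σ : ℕ → K) (hσ : ∀ s, σ s * σ s = 1)
    (hw : ∀ w ∈ words, (w.map σ).prod = 1) :
    FreeGroup.lift (fun x => σ (idx x)) ((FreeGroup.of (Fi23.Gen.b) * FreeGroup.of (Fi23.Gen.f)) ^ coxLabel Fi23.edges .b .f) = 1 := by
  rw [label_bf]
  simpa only [map_pow, map_mul, FreeGroup.lift_apply_of, idx] using
    (cox_case σ hσ hw 1 5 2 (List.Mem.tail _ (List.Mem.tail _ (List.Mem.tail _ (List.Mem.tail _ (List.Mem.tail _ (List.Mem.tail _ (List.Mem.tail _ (List.Mem.tail _ (List.Mem.tail _ (List.Mem.tail _ (List.Mem.tail _ (List.Mem.tail _ (List.Mem.head _)))))))))))))).1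

theorem lift_cox_bg (σ : ℕ → K) (hσ : ∀ s, σ s * σ s = 1)
    (hw : ∀ w ∈ words, (w.map σ).prod = 1) :
    FreeGroup.lift (fun x => σ (idx x)) ((FreeGroup.of (Fi23.Gen.b) * FreeGroup.of (Fi23.Gen.g)) ^ coxLabel Fi23.edges .b .g) = 1 := by
  rw [label_bg]
  simpa only [map_pow, map_mul, FreeGroup.lift_apply_of, idx] using
    (cox_case σ hσ hw 1 6 2 (List.Mem.tail _ (List.Mem.tail _ (List.Mem.tail _ (List.Mem.tail _ (List.Mem.tail _ (List.Mem.tail _ (List.Mem.tail _ (List.Mem.tail _ (List.Mem.tail _ (List.Mem.tail _ (List.Mem.tail _ (List.Mem.tail _ (List.Mem.tail _ (List.Mem.head _))))))))))))))).1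

theorem lift_cox_bj (σ : ℕ → K) (hσ : ∀ s, σ s * σ s = 1)
    (hw : ∀ w ∈ words, (w.map σ).prod = 1) :
    FreeGroup.lift (fun x => σ (idx x)) ((FreeGroup.of (Fi23.Gen.b) * FreeGroup.of (Fi23.Gen.j)) ^ coxLabel Fi23.edges .b .j) = 1 := by
  rw [label_bj]
  simpa only [map_pow, map_mul, FreeGroup.lift_apply_of, idx] using
    (cox_case σ hσ hw 1 7 2 (List.Mem.tail _ (List.Mem.tail _ (List.Mem.tail _ (List.Mem.tail _ (List.Mem.tail _ (List.Mem.tail _ (List.Mem.tail _ (List.Mem.tail _ (List.Mem.tail _ (List.Mem.tail _ (List.Mem.tail _ (List.Mem.tail _ (List.Mem.tail _ (List.Mem.tail _ (List.Mem.head _)))))))))))))))).1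

theorem lift_cox_bh (σ : ℕ → K) (hσ : ∀ s, σ s * σ s = 1)
    (hw : ∀ w ∈ words, (w.map σ).prod = 1) :
    FreeGroup.lift (fun x => σ (idx x)) ((FreeGroup.of (Fi23.Gen.b) * FreeGroup.of (Fi23.Gen.h)) ^ coxLabel Fi23.edges .b .h) = 1 := by
  rw [label_bh]
  simpa only [map_pow, map_mul, FreeGroup.lift_apply_of, idx] using
    (cox_case σ hσ hw 1 8 2 (List.Mem.tail _ (List.Mem.tail _ (List.Mem.tail _ (List.Mem.tail _ (List.Mem.tail _ (List.Mem.tail _ (List.Mem.tail _ (List.Mem.tail _ (List.Mem.tail _ (List.Mem.tail _ (List.Mem.tail _ (List.Mem.tail _ (List.Mem.tail _ (List.Mem.tail _ (List.Mem.tail _ (List.Mem.head _))))))))))))))))).1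

theorem lift_cox_bi (σ : ℕ → K) (hσ : ∀ s, σ s * σ s = 1)
    (hw : ∀ w ∈ words, (w.map σ).prod = 1) :
    FreeGroup.lift (fun x => σ (idx x)) ((FreeGroup.of (Fi23.Gen.b) * FreeGroup.of (Fi23.Gen.i)) ^ coxLabel Fi23.edges .b .i) = 1 := by
  rw [label_bi]
  simpa only [map_pow, map_mul, FreeGroup.lift_apply_of, idx] using
    (cox_case σ hσ hw 1 9 2 (List.Mem.tail _ (List.Mem.tail _ (List.Mem.tail _ (List.Mem.tail _ (List.Mem.tail _ (List.Mem.tail _ (List.Mem.tail _ (List.Mem.tail _ (List.Mem.tail _ (List.Mem.tail _ (List.Mem.tail _ (List.Mem.tail _ (List.Mem.tail _ (List.Mem.tail _ (List.Mem.tail _ (List.Mem.tail _ (List.Mem.head _)))))))))))))))))).1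

theorem lift_cox_ca (σ : ℕ → K) (hσ : ∀ s, σ s * σ s = 1)
    (hw : ∀ w ∈ words, (w.map σ).prod = 1) :
    FreeGroup.lift (fun x => σ (idx x)) ((FreeGroup.of (Fi23.Gen.c) * FreeGroup.of (Fi23.Gen.a)) ^ coxLabel Fi23.edges .c .a) = 1 := by
  rw [label_ca]
  simpa only [map_pow, map_mul, FreeGroup.lift_apply_of, idx] using
    (cox_case σ hσ hw 0 2 2 (List.Mem.tail _ (List.Mem.head _))).2

theorem lift_cox_cb (σ : ℕ → K) (hσ : ∀ s, σ s * σ s = 1)
    (hw : ∀ w ∈ words, (w.map σ).prod = 1) :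
    FreeGroup.lift (fun x => σ (idx x)) ((FreeGroup.of (Fi23.Gen.c) * FreeGroup.of (Fi23.Gen.b)) ^ coxLabel Fi23.edges .c .b) = 1 := by
  rw [label_cb]
  simpa only [map_pow, map_mul, FreeGroup.lift_apply_of, idx] using
    (cox_case σ hσ hw 1 2 3 (List.Mem.tail _ (List.Mem.tail _ (List.Mem.tail _ (List.Mem.tail _ (List.Mem.tail _ (List.Mem.tail _ (List.Mem.tail _ (List.Mem.tail _ (List.Mem.tail _ (List.Mem.head _))))))))))).2

theorem lift_cox_cc (σ : ℕ → K) (hσ : ∀ s, σ s * σ s = 1)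
    (hw : ∀ w ∈ words, (w.map σ).prod = 1) :
    FreeGroup.lift (fun x => σ (idx x)) ((FreeGroup.of (Fi23.Gen.c) * FreeGroup.of (Fi23.Gen.c)) ^ coxLabel Fi23.edges .c .c) = 1 := by
  simpa [coxLabel, idx] using hσ 2

theorem lift_cox_cd (σ : ℕ → K) (hσ : ∀ s, σ s * σ s = 1)
    (hw : ∀ w ∈ words, (w.map σ).prod = 1) :
    FreeGroup.lift (fun x => σ (idx x)) ((FreeGroup.of (Fi23.Gen.c) * FreeGroup.of (Fi23.Gen.d)) ^ coxLabel Fi23.edges .c .d) = 1 := by
  rw [label_cd]
  simpa only [map_pow, map_mul, FreeGroup.lift_apply_of, idx] using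
    (cox_case σ hσ hw 2 3 3 (List.Mem.tail _ (List.Mem.tail _ (List.Mem.tail _ (List.Mem.tail _ (List.Mem.tail _ (List.Mem.tail _ (List.Mem.tail _ (List.Mem.tail _ (List.Mem.tail _ (List.Mem.tail _ (List.Mem.tail _ (List.Mem.tail _ (List.Mem.tail _ (List.Mem.tail _ (List.Mem.tail _ (List.Mem.tail _ (List.Mem.tail _ (List.Mem.head _))))))))))))))))))).1

theorem lift_cox_ce (σ : ℕ → K) (hσ : ∀ s, σ s * σ s = 1)
    (hw : ∀ w ∈ words, (w.map σ).prod = 1) :
    FreeGroup.lift (fun x => σ (idx x)) ((FreeGroup.of (Fi23.Gen.c) * FreeGroup.of (Fi23.Gen.e)) ^ coxLabel Fi23.edges .c .e) = 1 := by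
  rw [label_ce]
  simpa only [map_pow, map_mul, FreeGroup.lift_apply_of, idx] using
    (cox_case σ hσ hw 2 4 2 (List.Mem.tail _ (List.Mem.tail _ (List.Mem.tail _ (List.Mem.tail _ (List.Mem.tail _ (List.Mem.tail _ (List.Mem.tail _ (List.Mem.tail _ (List.Mem.tail _ (List.Mem.tail _ (List.Mem.tail _ (List.Mem.tail _ (List.Mem.tail _ (List.Mem.tail _ (List.Mem.tail _ (List.Mem.tail _ (List.Mem.tail _ (List.Mem.tail _ (List.Mem.head _)))))))))))))))))))).1

theorem lift_cox_cf (σ : ℕ → K) (hσ : ∀ s, σ s * σ s = 1)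
    (hw : ∀ w ∈ words, (w.map σ).prod = 1) :
    FreeGroup.lift (fun x => σ (idx x)) ((FreeGroup.of (Fi23.Gen.c) * FreeGroup.of (Fi23.Gen.f)) ^ coxLabel Fi23.edges .c .f) = 1 := by
  rw [label_cf]
  simpa only [map_pow, map_mul, FreeGroup.lift_apply_of, idx] using
    (cox_case σ hσ hw 2 5 2 (List.Mem.tail _ (List.Mem.tail _ (List.Mem.tail _ (List.Mem.tail _ (List.Mem.tail _ (List.Mem.tail _ (List.Mem.tail _ (List.Mem.tail _ (List.Mem.tail _ (List.Mem.tail _ (List.Mem.tail _ (List.Mem.tail _ (List.Mem.tail _ (List.Mem.tail _ (List.Mem.tail _ (List.Mem.tail _ (List.Mem.tail _ (List.Mem.tail _ (List.Mem.tail _ (List.Mem.head _))))))))))))))))))))).1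

theorem lift_cox_cg (σ : ℕ → K) (hσ : ∀ s, σ s * σ s = 1)
    (hw : ∀ w ∈ words, (w.map σ).prod = 1) :
    FreeGroup.lift (fun x => σ (idx x)) ((FreeGroup.of (Fi23.Gen.c) * FreeGroup.of (Fi23.Gen.g)) ^ coxLabel Fi23.edges .c .g) = 1 := by
  rw [label_cg]
  simpa only [map_pow, map_mul, FreeGroup.lift_apply_of, idx] using
    (cox_case σ hσ hw 2 6 2 (List.Mem.tail _ (List.Mem.tail _ (List.Mem.tail _ (List.Mem.tail _ (List.Mem.tail _ (List.Mem.tail _ (List.Mem.tail _ (List.Mem.tail _ (List.Mem.tail _ (List.Mem.tail _ (List.Mem.tail _ (List.Mem.tail _ (List.Mem.tail _ (List.Mem.tail _ (List.Mem.tail _ (List.Mem.tail _ (List.Mem.tail _ (List.Mem.tail _ (List.Mem.tail _ (List.Mem.tail _ (List.Mem.head _)))))))))))))))))))))).1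

theorem lift_cox_cj (σ : ℕ → K) (hσ : ∀ s, σ s * σ s = 1)
    (hw : ∀ w ∈ words, (w.map σ).prod = 1) :
    FreeGroup.lift (fun x => σ (idx x)) ((FreeGroup.of (Fi23.Gen.c) * FreeGroup.of (Fi23.Gen.j)) ^ coxLabel Fi23.edges .c .j) = 1 := by
  rw [label_cj]
  simpa only [map_pow, map_mul, FreeGroup.lift_apply_of, idx] using
    (cox_case σ hσ hw 2 7 2 (List.Mem.tail _ (List.Mem.tail _ (List.Mem.tail _ (List.Mem.tail _ (List.Mem.tail _ (List.Mem.tail _ (List.Mem.tail _ (List.Mem.tail _ (List.Mem.tail _ (List.Mem.tail _ (List.Mem.tail _ (List.Mem.tail _ (List.Mem.tail _ (List.Mem.tail _ (List.Mem.tail _ (List.Mem.tail _ (List.Mem.tail _ (List.Mem.tail _ (List.Mem.tail _ (List.Mem.tail _ (List.Mem.tail _ (List.Mem.head _))))))))))))))))))))))).1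

theorem lift_cox_ch (σ : ℕ → K) (hσ : ∀ s, σ s * σ s = 1)
    (hw : ∀ w ∈ words, (w.map σ).prod = 1) :
    FreeGroup.lift (fun x => σ (idx x)) ((FreeGroup.of (Fi23.Gen.c) * FreeGroup.of (Fi23.Gen.h)) ^ coxLabel Fi23.edges .c .h) = 1 := by
  rw [label_ch]
  simpa only [map_pow, map_mul, FreeGroup.lift_apply_of, idx] using
    (cox_case σ hσ hw 2 8 2 (List.Mem.tail _ (List.Mem.tail _ (List.Mem.tail _ (List.Mem.tail _ (List.Mem.tail _ (List.Mem.tail _ (List.Mem.tail _ (List.Mem.tail _ (List.Mem.tail _ (List.Mem.tail _ (List.Mem.tail _ (List.Mem.tail _ (List.Mem.tail _ (List.Mem.tail _ (List.Mem.tail _ (List.Mem.tail _ (List.Mem.tail _ (List.Mem.tail _ (List.Mem.tail _ (List.Mem.tail _ (List.Mem.tail _ (List.Mem.tail _ (List.Mem.head _)))))))))))))))))))))))).1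

theorem lift_cox_ci (σ : ℕ → K) (hσ : ∀ s, σ s * σ s = 1)
    (hw : ∀ w ∈ words, (w.map σ).prod = 1) :
    FreeGroup.lift (fun x => σ (idx x)) ((FreeGroup.of (Fi23.Gen.c) * FreeGroup.of (Fi23.Gen.i)) ^ coxLabel Fi23.edges .c .i) = 1 := by
  rw [label_ci]
  simpa only [map_pow, map_mul, FreeGroup.lift_apply_of, idx] using
    (cox_case σ hσ hw 2 9 2 (List.Mem.tail _ (List.Mem.tail _ (List.Mem.tail _ (List.Mem.tail _ (List.Mem.tail _ (List.Mem.tail _ (List.Mem.tail _ (List.Mem.tail _ (List.Mem.tail _ (List.Mem.tail _ (List.Mem.tail _ (List.Mem.tail _ (List.Mem.tail _ (List.Mem.tail _ (List.Mem.tail _ (List.Mem.tail _ (List.Mem.tail _ (List.Mem.tail _ (List.Mem.tail _ (List.Mem.tail _ (List.Mem.tail _ (List.Mem.tail _ (List.Mem.tail _ (List.Mem.head _))))))))))))))))))))))))).1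

theorem lift_cox_da (σ : ℕ → K) (hσ : ∀ s, σ s * σ s = 1)
    (hw : ∀ w ∈ words, (w.map σ).prod = 1) :
    FreeGroup.lift (fun x => σ (idx x)) ((FreeGroup.of (Fi23.Gen.d) * FreeGroup.of (Fi23.Gen.a)) ^ coxLabel Fi23.edges .d .a) = 1 := by
  rw [label_da]
  simpa only [map_pow, map_mul, FreeGroup.lift_apply_of, idx] using
    (cox_case σ hσ hw 0 3 2 (List.Mem.tail _ (List.Mem.tail _ (List.Mem.head _)))).2

theorem lift_cox_db (σ : ℕ → K) (hσ : ∀ s, σ s * σ s = 1)
    (hw : ∀ w ∈ words, (w.map σ).prod = 1) :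
    FreeGroup.lift (fun x => σ (idx x)) ((FreeGroup.of (Fi23.Gen.d) * FreeGroup.of (Fi23.Gen.b)) ^ coxLabel Fi23.edges .d .b) = 1 := by
  rw [label_db]
  simpa only [map_pow, map_mul, FreeGroup.lift_apply_of, idx] using
    (cox_case σ hσ hw 1 3 2 (List.Mem.tail _ (List.Mem.tail _ (List.Mem.tail _ (List.Mem.tail _ (List.Mem.tail _ (List.Mem.tail _ (List.Mem.tail _ (List.Mem.tail _ (List.Mem.tail _ (List.Mem.tail _ (List.Mem.head _)))))))))))).2

theorem lift_cox_dc (σ : ℕ → K) (hσ : ∀ s, σ s * σ s = 1)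
    (hw : ∀ w ∈ words, (w.map σ).prod = 1) :
    FreeGroup.lift (fun x => σ (idx x)) ((FreeGroup.of (Fi23.Gen.d) * FreeGroup.of (Fi23.Gen.c)) ^ coxLabel Fi23.edges .d .c) = 1 := by
  rw [label_dc]
  simpa only [map_pow, map_mul, FreeGroup.lift_apply_of, idx] using
    (cox_case σ hσ hw 2 3 3 (List.Mem.tail _ (List.Mem.tail _ (List.Mem.tail _ (List.Mem.tail _ (List.Mem.tail _ (List.Mem.tail _ (List.Mem.tail _ (List.Mem.tail _ (List.Mem.tail _ (List.Mem.tail _ (List.Mem.tail _ (List.Mem.tail _ (List.Mem.tail _ (List.Mem.tail _ (List.Mem.tail _ (List.Mem.tail _ (List.Mem.tail _ (List.Mem.head _))))))))))))))))))).2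

theorem lift_cox_dd (σ : ℕ → K) (hσ : ∀ s, σ s * σ s = 1)
    (hw : ∀ w ∈ words, (w.map σ).prod = 1) :
    FreeGroup.lift (fun x => σ (idx x)) ((FreeGroup.of (Fi23.Gen.d) * FreeGroup.of (Fi23.Gen.d)) ^ coxLabel Fi23.edges .d .d) = 1 := by
  simpa [coxLabel, idx] using hσ 3

theorem lift_cox_de (σ : ℕ → K) (hσ : ∀ s, σ s * σ s = 1)
    (hw : ∀ w ∈ words, (w.map σ).prod = 1) :
    FreeGroup.lift (fun x => σ (idx x)) ((FreeGroup.of (Fi23.Gen.d) * FreeGroup.of (Fi23.Gen.e)) ^ coxLabel Fi23.edges .d .e) = 1 := by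
  rw [label_de]
  simpa only [map_pow, map_mul, FreeGroup.lift_apply_of, idx] using
    (cox_case σ hσ hw 3 4 3 (List.Mem.tail _ (List.Mem.tail _ (List.Mem.tail _ (List.Mem.tail _ (List.Mem.tail _ (List.Mem.tail _ (List.Mem.tail _ (List.Mem.tail _ (List.Mem.tail _ (List.Mem.tail _ (List.Mem.tail _ (List.Mem.tail _ (List.Mem.tail _ (List.Mem.tail _ (List.Mem.tail _ (List.Mem.tail _ (List.Mem.tail _ (List.Mem.tail _ (List.Mem.tail _ (List.Mem.tail _ (List.Mem.tail _ (List.Mem.tail _ (List.Mem.tail _ (List.Mem.tail _ (List.Mem.head _)))))))))))))))))))))))))).1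

theorem lift_cox_df (σ : ℕ → K) (hσ : ∀ s, σ s * σ s = 1)
    (hw : ∀ w ∈ words, (w.map σ).prod = 1) :
    FreeGroup.lift (fun x => σ (idx x)) ((FreeGroup.of (Fi23.Gen.d) * FreeGroup.of (Fi23.Gen.f)) ^ coxLabel Fi23.edges .d .f) = 1 := by
  rw [label_df]
  simpa only [map_pow, map_mul, FreeGroup.lift_apply_of, idx] using
    (cox_case σ hσ hw 3 5 2 (List.Mem.tail _ (List.Mem.tail _ (List.Mem.tail _ (List.Mem.tail _ (List.Mem.tail _ (List.Mem.tail _ (List.Mem.tail _ (List.Mem.tail _ (List.Mem.tail _ (List.Mem.tail _ (List.Mem.tail _ (List.Mem.tail _ (List.Mem.tail _ (List.Mem.tail _ (List.Mem.tail _ (List.Mem.tail _ (List.Mem.tail _ (List.Mem.tail _ (List.Mem.tail _ (List.Mem.tail _ (List.Mem.tail _ (List.Mem.tail _ (List.Mem.tail _ (List.Mem.tail _ (List.Mem.tail _ (List.Mem.head _))))))))))))))))))))))))))).1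

theorem lift_cox_dg (σ : ℕ → K) (hσ : ∀ s, σ s * σ s = 1)
    (hw : ∀ w ∈ words, (w.map σ).prod = 1) :
    FreeGroup.lift (fun x => σ (idx x)) ((FreeGroup.of (Fi23.Gen.d) * FreeGroup.of (Fi23.Gen.g)) ^ coxLabel Fi23.edges .d .g) = 1 := by
  rw [label_dg]
  simpa only [map_pow, map_mul, FreeGroup.lift_apply_of, idx] using
    (cox_case σ hσ hw 3 6 2 (List.Mem.tail _ (List.Mem.tail _ (List.Mem.tail _ (List.Mem.tail _ (List.Mem.tail _ (List.Mem.tail _ (List.Mem.tail _ (List.Mem.tail _ (List.Mem.tail _ (List.Mem.tail _ (List.Mem.tail _ (List.Mem.tail _ (List.Mem.tail _ (List.Mem.tail _ (List.Mem.tail _ (List.Mem.tail _ (List.Mem.tail _ (List.Mem.tail _ (List.Mem.tail _ (List.Mem.tail _ (List.Mem.tail _ (List.Mem.tail _ (List.Mem.tail _ (List.Mem.tail _ (List.Mem.tail _ (List.Mem.tail _ (List.Mem.head _)))))))))))))))))))))))))))).1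

theorem lift_cox_dj (σ : ℕ → K) (hσ : ∀ s, σ s * σ s = 1)
    (hw : ∀ w ∈ words, (w.map σ).prod = 1) :
    FreeGroup.lift (fun x => σ (idx x)) ((FreeGroup.of (Fi23.Gen.d) * FreeGroup.of (Fi23.Gen.j)) ^ coxLabel Fi23.edges .d .j) = 1 := by
  rw [label_dj]
  simpa only [map_pow, map_mul, FreeGroup.lift_apply_of, idx] using
    (cox_case σ hσ hw 3 7 2 (List.Mem.tail _ (List.Mem.tail _ (List.Mem.tail _ (List.Mem.tail _ (List.Mem.tail _ (List.Mem.tail _ (List.Mem.tail _ (List.Mem.tail _ (List.Mem.tail _ (List.Mem.tail _ (List.Mem.tail _ (List.Mem.tail _ (List.Mem.tail _ (List.Mem.tail _ (List.Mem.tail _ (List.Mem.tail _ (List.Mem.tail _ (List.Mem.tail _ (List.Mem.tail _ (List.Mem.tail _ (List.Mem.tail _ (List.Mem.tail _ (List.Mem.tail _ (List.Mem.tail _ (List.Mem.tail _ (List.Mem.tail _ (List.Mem.tail _ (List.Mem.head _))))))))))))))))))))))))))))).1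

theorem lift_cox_dh (σ : ℕ → K) (hσ : ∀ s, σ s * σ s = 1)
    (hw : ∀ w ∈ words, (w.map σ).prod = 1) :
    FreeGroup.lift (fun x => σ (idx x)) ((FreeGroup.of (Fi23.Gen.d) * FreeGroup.of (Fi23.Gen.h)) ^ coxLabel Fi23.edges .d .h) = 1 := by
  rw [label_dh]
  simpa only [map_pow, map_mul, FreeGroup.lift_apply_of, idx] using
    (cox_case σ hσ hw 3 8 3 (List.Mem.tail _ (List.Mem.tail _ (List.Mem.tail _ (List.Mem.tail _ (List.Mem.tail _ (List.Mem.tail _ (List.Mem.tail _ (List.Mem.tail _ (List.Mem.tail _ (List.Mem.tail _ (List.Mem.tail _ (List.Mem.tail _ (List.Mem.tail _ (List.Mem.tail _ (List.Mem.tail _ (List.Mem.tail _ (List.Mem.tail _ (List.Mem.tail _ (List.Mem.tail _ (List.Mem.tail _ (List.Mem.tail _ (List.Mem.tail _ (List.Mem.tail _ (List.Mem.tail _ (List.Mem.tail _ (List.Mem.tail _ (List.Mem.tail _ (List.Mem.tail _ (List.Mem.head _)))))))))))))))))))))))))))))).1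

theorem lift_cox_di (σ : ℕ → K) (hσ : ∀ s, σ s * σ s = 1)
    (hw : ∀ w ∈ words, (w.map σ).prod = 1) :
    FreeGroup.lift (fun x => σ (idx x)) ((FreeGroup.of (Fi23.Gen.d) * FreeGroup.of (Fi23.Gen.i)) ^ coxLabel Fi23.edges .d .i) = 1 := by
  rw [label_di]
  simpa only [map_pow, map_mul, FreeGroup.lift_apply_of, idx] using
    (cox_case σ hσ hw 3 9 2 (List.Mem.tail _ (List.Mem.tail _ (List.Mem.tail _ (List.Mem.tail _ (List.Mem.tail _ (List.Mem.tail _ (List.Mem.tail _ (List.Mem.tail _ (List.Mem.tail _ (List.Mem.tail _ (List.Mem.tail _ (List.Mem.tail _ (List.Mem.tail _ (List.Mem.tail _ (List.Mem.tail _ (List.Mem.tail _ (List.Mem.tail _ (List.Mem.tail _ (List.Mem.tail _ (List.Mem.tail _ (List.Mem.tail _ (List.Mem.tail _ (List.Mem.tail _ (List.Mem.tail _ (List.Mem.tail _ (List.Mem.tail _ (List.Mem.tail _ (List.Mem.tail _ (List.Mem.tail _ (List.Mem.head _))))))))))))))))))))))))))))))).1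

theorem lift_cox_ea (σ : ℕ → K) (hσ : ∀ s, σ s * σ s = 1)
    (hw : ∀ w ∈ words, (w.map σ).prod = 1) :
    FreeGroup.lift (fun x => σ (idx x)) ((FreeGroup.of (Fi23.Gen.e) * FreeGroup.of (Fi23.Gen.a)) ^ coxLabel Fi23.edges .e .a) = 1 := by
  rw [label_ea]
  simpa only [map_pow, map_mul, FreeGroup.lift_apply_of, idx] using
    (cox_case σ hσ hw 0 4 2 (List.Mem.tail _ (List.Mem.tail _ (List.Mem.tail _ (List.Mem.head _))))).2

theorem lift_cox_eb (σ : ℕ → K) (hσ : ∀ s, σ s * σ s = 1)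
    (hw : ∀ w ∈ words, (w.map σ).prod = 1) :
    FreeGroup.lift (fun x => σ (idx x)) ((FreeGroup.of (Fi23.Gen.e) * FreeGroup.of (Fi23.Gen.b)) ^ coxLabel Fi23.edges .e .b) = 1 := by
  rw [label_eb]
  simpa only [map_pow, map_mul, FreeGroup.lift_apply_of, idx] using
    (cox_case σ hσ hw 1 4 2 (List.Mem.tail _ (List.Mem.tail _ (List.Mem.tail _ (List.Mem.tail _ (List.Mem.tail _ (List.Mem.tail _ (List.Mem.tail _ (List.Mem.tail _ (List.Mem.tail _ (List.Mem.tail _ (List.Mem.tail _ (List.Mem.head _))))))))))))).2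

theorem lift_cox_ec (σ : ℕ → K) (hσ : ∀ s, σ s * σ s = 1)
    (hw : ∀ w ∈ words, (w.map σ).prod = 1) :
    FreeGroup.lift (fun x => σ (idx x)) ((FreeGroup.of (Fi23.Gen.e) * FreeGroup.of (Fi23.Gen.c)) ^ coxLabel Fi23.edges .e .c) = 1 := by
  rw [label_ec]
  simpa only [map_pow, map_mul, FreeGroup.lift_apply_of, idx] using
    (cox_case σ hσ hw 2 4 2 (List.Mem.tail _ (List.Mem.tail _ (List.Mem.tail _ (List.Mem.tail _ (List.Mem.tail _ (List.Mem.tail _ (List.Mem.tail _ (List.Mem.tail _ (List.Mem.tail _ (List.Mem.tail _ (List.Mem.tail _ (List.Mem.tail _ (List.Mem.tail _ (List.Mem.tail _ (List.Mem.tail _ (List.Mem.tail _ (List.Mem.tail _ (List.Mem.tail _ (List.Mem.head _)))))))))))))))))))).2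

theorem lift_cox_ed (σ : ℕ → K) (hσ : ∀ s, σ s * σ s = 1)
    (hw : ∀ w ∈ words, (w.map σ).prod = 1) :
    FreeGroup.lift (fun x => σ (idx x)) ((FreeGroup.of (Fi23.Gen.e) * FreeGroup.of (Fi23.Gen.d)) ^ coxLabel Fi23.edges .e .d) = 1 := by
  rw [label_ed]
  simpa only [map_pow, map_mul, FreeGroup.lift_apply_of, idx] using
    (cox_case σ hσ hw 3 4 3 (List.Mem.tail _ (List.Mem.tail _ (List.Mem.tail _ (List.Mem.tail _ (List.Mem.tail _ (List.Mem.tail _ (List.Mem.tail _ (List.Mem.tail _ (List.Mem.tail _ (List.Mem.tail _ (List.Mem.tail _ (List.Mem.tail _ (List.Mem.tail _ (List.Mem.tail _ (List.Mem.tail _ (List.Mem.tail _ (List.Mem.tail _ (List.Mem.tail _ (List.Mem.tail _ (List.Mem.tail _ (List.Mem.tail _ (List.Mem.tail _ (List.Mem.tail _ (List.Mem.tail _ (List.Mem.head _)))))))))))))))))))))))))).2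

theorem lift_cox_ee (σ : ℕ → K) (hσ : ∀ s, σ s * σ s = 1)
    (hw : ∀ w ∈ words, (w.map σ).prod = 1) :
    FreeGroup.lift (fun x => σ (idx x)) ((FreeGroup.of (Fi23.Gen.e) * FreeGroup.of (Fi23.Gen.e)) ^ coxLabel Fi23.edges .e .e) = 1 := by
  simpa [coxLabel, idx] using hσ 4

theorem lift_cox_ef (σ : ℕ → K) (hσ : ∀ s, σ s * σ s = 1)
    (hw : ∀ w ∈ words, (w.map σ).prod = 1) :
    FreeGroup.lift (fun x => σ (idx x)) ((FreeGroup.of (Fi23.Gen.e) * FreeGroup.of (Fi23.Gen.f)) ^ coxLabel Fi23.edges .e .f) = 1 := by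
  rw [label_ef]
  simpa only [map_pow, map_mul, FreeGroup.lift_apply_of, idx] using
    (cox_case σ hσ hw 4 5 3 (List.Mem.tail _ (List.Mem.tail _ (List.Mem.tail _ (List.Mem.tail _ (List.Mem.tail _ (List.Mem.tail _ (List.Mem.tail _ (List.Mem.tail _ (List.Mem.tail _ (List.Mem.tail _ (List.Mem.tail _ (List.Mem.tail _ (List.Mem.tail _ (List.Mem.tail _ (List.Mem.tail _ (List.Mem.tail _ (List.Mem.tail _ (List.Mem.tail _ (List.Mem.tail _ (List.Mem.tail _ (List.Mem.tail _ (List.Mem.tail _ (List.Mem.tail _ (List.Mem.tail _ (List.Mem.tail _ (List.Mem.tail _ (List.Mem.tail _ (List.Mem.tail _ (List.Mem.tail _ (List.Mem.tail _ (List.Mem.head _)))))))))))))))))))))))))))))))).1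

theorem lift_cox_eg (σ : ℕ → K) (hσ : ∀ s, σ s * σ s = 1)
    (hw : ∀ w ∈ words, (w.map σ).prod = 1) :
    FreeGroup.lift (fun x => σ (idx x)) ((FreeGroup.of (Fi23.Gen.e) * FreeGroup.of (Fi23.Gen.g)) ^ coxLabel Fi23.edges .e .g) = 1 := by
  rw [label_eg]
  simpa only [map_pow, map_mul, FreeGroup.lift_apply_of, idx] using
    (cox_case σ hσ hw 4 6 2 (List.Mem.tail _ (List.Mem.tail _ (List.Mem.tail _ (List.Mem.tail _ (List.Mem.tail _ (List.Mem.tail _ (List.Mem.tail _ (List.Mem.tail _ (List.Mem.tail _ (List.Mem.tail _ (List.Mem.tail _ (List.Mem.tail _ (List.Mem.tail _ (List.Mem.tail _ (List.Mem.tail _ (List.Mem.tail _ (List.Mem.tail _ (List.Mem.tail _ (List.Mem.tail _ (List.Mem.tail _ (List.Mem.tail _ (List.Mem.tail _ (List.Mem.tail _ (List.Mem.tail _ (List.Mem.tail _ (List.Mem.tail _ (List.Mem.tail _ (List.Mem.tail _ (List.Mem.tail _ (List.Mem.tail _ (List.Mem.tail _ (List.Mem.head _))))))))))))))))))))))))))))))))).1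

theorem lift_cox_ej (σ : ℕ → K) (hσ : ∀ s, σ s * σ s = 1)
    (hw : ∀ w ∈ words, (w.map σ).prod = 1) :
    FreeGroup.lift (fun x => σ (idx x)) ((FreeGroup.of (Fi23.Gen.e) * FreeGroup.of (Fi23.Gen.j)) ^ coxLabel Fi23.edges .e .j) = 1 := by
  rw [label_ej]
  simpa only [map_pow, map_mul, FreeGroup.lift_apply_of, idx] using
    (cox_case σ hσ hw 4 7 2 (List.Mem.tail _ (List.Mem.tail _ (List.Mem.tail _ (List.Mem.tail _ (List.Mem.tail _ (List.Mem.tail _ (List.Mem.tail _ (List.Mem.tail _ (List.Mem.tail _ (List.Mem.tail _ (List.Mem.tail _ (List.Mem.tail _ (List.Mem.tail _ (List.Mem.tail _ (List.Mem.tail _ (List.Mem.tail _ (List.Mem.tail _ (List.Mem.tail _ (List.Mem.tail _ (List.Mem.tail _ (List.Mem.tail _ (List.Mem.tail _ (List.Mem.tail _ (List.Mem.tail _ (List.Mem.tail _ (List.Mem.tail _ (List.Mem.tail _ (List.Mem.tail _ (List.Mem.tail _ (List.Mem.tail _ (List.Mem.tail _ (List.Mem.tail _ (List.Mem.head _)))))))))))))))))))))))))))))))))).1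

theorem lift_cox_eh (σ : ℕ → K) (hσ : ∀ s, σ s * σ s = 1)
    (hw : ∀ w ∈ words, (w.map σ).prod = 1) :
    FreeGroup.lift (fun x => σ (idx x)) ((FreeGroup.of (Fi23.Gen.e) * FreeGroup.of (Fi23.Gen.h)) ^ coxLabel Fi23.edges .e .h) = 1 := by
  rw [label_eh]
  simpa only [map_pow, map_mul, FreeGroup.lift_apply_of, idx] using
    (cox_case σ hσ hw 4 8 2 (List.Mem.tail _ (List.Mem.tail _ (List.Mem.tail _ (List.Mem.tail _ (List.Mem.tail _ (List.Mem.tail _ (List.Mem.tail _ (List.Mem.tail _ (List.Mem.tail _ (List.Mem.tail _ (List.Mem.tail _ (List.Mem.tail _ (List.Mem.tail _ (List.Mem.tail _ (List.Mem.tail _ (List.Mem.tail _ (List.Mem.tail _ (List.Mem.tail _ (List.Mem.tail _ (List.Mem.tail _ (List.Mem.tail _ (List.Mem.tail _ (List.Mem.tail _ (List.Mem.tail _ (List.Mem.tail _ (List.Mem.tail _ (List.Mem.tail _ (List.Mem.tail _ (List.Mem.tail _ (List.Mem.tail _ (List.Mem.tail _ (List.Mem.tail _ (List.Mem.tail _ (List.Mem.head _))))))))))))))))))))))))))))))))))).1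

theorem lift_cox_ei (σ : ℕ → K) (hσ : ∀ s, σ s * σ s = 1)
    (hw : ∀ w ∈ words, (w.map σ).prod = 1) :
    FreeGroup.lift (fun x => σ (idx x)) ((FreeGroup.of (Fi23.Gen.e) * FreeGroup.of (Fi23.Gen.i)) ^ coxLabel Fi23.edges .e .i) = 1 := by
  rw [label_ei]
  simpa only [map_pow, map_mul, FreeGroup.lift_apply_of, idx] using
    (cox_case σ hσ hw 4 9 2 (List.Mem.tail _ (List.Mem.tail _ (List.Mem.tail _ (List.Mem.tail _ (List.Mem.tail _ (List.Mem.tail _ (List.Mem.tail _ (List.Mem.tail _ (List.Mem.tail _ (List.Mem.tail _ (List.Mem.tail _ (List.Mem.tail _ (List.Mem.tail _ (List.Mem.tail _ (List.Mem.tail _ (List.Mem.tail _ (List.Mem.tail _ (List.Mem.tail _ (List.Mem.tail _ (List.Mem.tail _ (List.Mem.tail _ (List.Mem.tail _ (List.Mem.tail _ (List.Mem.tail _ (List.Mem.tail _ (List.Mem.tail _ (List.Mem.tail _ (List.Mem.tail _ (List.Mem.tail _ (List.Mem.tail _ (List.Mem.tail _ (List.Mem.tail _ (List.Mem.tail _ (List.Mem.tail _ (List.Mem.head _)))))))))))))))))))))))))))))))))))).1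

theorem lift_cox_fa (σ : ℕ → K) (hσ : ∀ s, σ s * σ s = 1)
    (hw : ∀ w ∈ words, (w.map σ).prod = 1) :
    FreeGroup.lift (fun x => σ (idx x)) ((FreeGroup.of (Fi23.Gen.f) * FreeGroup.of (Fi23.Gen.a)) ^ coxLabel Fi23.edges .f .a) = 1 := by
  rw [label_fa]
  simpa only [map_pow, map_mul, FreeGroup.lift_apply_of, idx] using
    (cox_case σ hσ hw 0 5 2 (List.Mem.tail _ (List.Mem.tail _ (List.Mem.tail _ (List.Mem.tail _ (List.Mem.head _)))))).2

theorem lift_cox_fb (σ : ℕ → K) (hσ : ∀ s, σ s * σ s = 1)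
    (hw : ∀ w ∈ words, (w.map σ).prod = 1) :
    FreeGroup.lift (fun x => σ (idx x)) ((FreeGroup.of (Fi23.Gen.f) * FreeGroup.of (Fi23.Gen.b)) ^ coxLabel Fi23.edges .f .b) = 1 := by
  rw [label_fb]
  simpa only [map_pow, map_mul, FreeGroup.lift_apply_of, idx] using
    (cox_case σ hσ hw 1 5 2 (List.Mem.tail _ (List.Mem.tail _ (List.Mem.tail _ (List.Mem.tail _ (List.Mem.tail _ (List.Mem.tail _ (List.Mem.tail _ (List.Mem.tail _ (List.Mem.tail _ (List.Mem.tail _ (List.Mem.tail _ (List.Mem.tail _ (List.Mem.head _)))))))))))))).2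

theorem lift_cox_fc (σ : ℕ → K) (hσ : ∀ s, σ s * σ s = 1)
    (hw : ∀ w ∈ words, (w.map σ).prod = 1) :
    FreeGroup.lift (fun x => σ (idx x)) ((FreeGroup.of (Fi23.Gen.f) * FreeGroup.of (Fi23.Gen.c)) ^ coxLabel Fi23.edges .f .c) = 1 := by
  rw [label_fc]
  simpa only [map_pow, map_mul, FreeGroup.lift_apply_of, idx] using
    (cox_case σ hσ hw 2 5 2 (List.Mem.tail _ (List.Mem.tail _ (List.Mem.tail _ (List.Mem.tail _ (List.Mem.tail _ (List.Mem.tail _ (List.Mem.tail _ (List.Mem.tail _ (List.Mem.tail _ (List.Mem.tail _ (List.Mem.tail _ (List.Mem.tail _ (List.Mem.tail _ (List.Mem.tail _ (List.Mem.tail _ (List.Mem.tail _ (List.Mem.tail _ (List.Mem.tail _ (List.Mem.tail _ (List.Mem.head _))))))))))))))))))))).2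

theorem lift_cox_fd (σ : ℕ → K) (hσ : ∀ s, σ s * σ s = 1)
    (hw : ∀ w ∈ words, (w.map σ).prod = 1) :
    FreeGroup.lift (fun x => σ (idx x)) ((FreeGroup.of (Fi23.Gen.f) * FreeGroup.of (Fi23.Gen.d)) ^ coxLabel Fi23.edges .f .d) = 1 := by
  rw [label_fd]
  simpa only [map_pow, map_mul, FreeGroup.lift_apply_of, idx] using
    (cox_case σ hσ hw 3 5 2 (List.Mem.tail _ (List.Mem.tail _ (List.Mem.tail _ (List.Mem.tail _ (List.Mem.tail _ (List.Mem.tail _ (List.Mem.tail _ (List.Mem.tail _ (List.Mem.tail _ (List.Mem.tail _ (List.Mem.tail _ (List.Mem.tail _ (List.Mem.tail _ (List.Mem.tail _ (List.Mem.tail _ (List.Mem.tail _ (List.Mem.tail _ (List.Mem.tail _ (List.Mem.tail _ (List.Mem.tail _ (List.Mem.tail _ (List.Mem.tail _ (List.Mem.tail _ (List.Mem.tail _ (List.Mem.tail _ (List.Mem.head _))))))))))))))))))))))))))).2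

theorem lift_cox_fe (σ : ℕ → K) (hσ : ∀ s, σ s * σ s = 1)
    (hw : ∀ w ∈ words, (w.map σ).prod = 1) :
    FreeGroup.lift (fun x => σ (idx x)) ((FreeGroup.of (Fi23.Gen.f) * FreeGroup.of (Fi23.Gen.e)) ^ coxLabel Fi23.edges .f .e) = 1 := by
  rw [label_fe]
  simpa only [map_pow, map_mul, FreeGroup.lift_apply_of, idx] using
    (cox_case σ hσ hw 4 5 3 (List.Mem.tail _ (List.Mem.tail _ (List.Mem.tail _ (List.Mem.tail _ (List.Mem.tail _ (List.Mem.tail _ (List.Mem.tail _ (List.Mem.tail _ (List.Mem.tail _ (List.Mem.tail _ (List.Mem.tail _ (List.Mem.tail _ (List.Mem.tail _ (List.Mem.tail _ (List.Mem.tail _ (List.Mem.tail _ (List.Mem.tail _ (List.Mem.tail _ (List.Mem.tail _ (List.Mem.tail _ (List.Mem.tail _ (List.Mem.tail _ (List.Mem.tail _ (List.Mem.tail _ (List.Mem.tail _ (List.Mem.tail _ (List.Mem.tail _ (List.Mem.tail _ (List.Mem.tail _ (List.Mem.tail _ (List.Mem.head _)))))))))))))))))))))))))))))))).2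

theorem lift_cox_ff (σ : ℕ → K) (hσ : ∀ s, σ s * σ s = 1)
    (hw : ∀ w ∈ words, (w.map σ).prod = 1) :
    FreeGroup.lift (fun x => σ (idx x)) ((FreeGroup.of (Fi23.Gen.f) * FreeGroup.of (Fi23.Gen.f)) ^ coxLabel Fi23.edges .f .f) = 1 := by
  simpa [coxLabel, idx] using hσ 5

theorem lift_cox_fg (σ : ℕ → K) (hσ : ∀ s, σ s * σ s = 1)
    (hw : ∀ w ∈ words, (w.map σ).prod = 1) :
    FreeGroup.lift (fun x => σ (idx x)) ((FreeGroup.of (Fi23.Gen.f) * FreeGroup.of (Fi23.Gen.g)) ^ coxLabel Fi23.edges .f .g) = 1 := by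
  rw [label_fg]
  simpa only [map_pow, map_mul, FreeGroup.lift_apply_of, idx] using
    (cox_case σ hσ hw 5 6 3 (List.Mem.tail _ (List.Mem.tail _ (List.Mem.tail _ (List.Mem.tail _ (List.Mem.tail _ (List.Mem.tail _ (List.Mem.tail _ (List.Mem.tail _ (List.Mem.tail _ (List.Mem.tail _ (List.Mem.tail _ (List.Mem.tail _ (List.Mem.tail _ (List.Mem.tail _ (List.Mem.tail _ (List.Mem.tail _ (List.Mem.tail _ (List.Mem.tail _ (List.Mem.tail _ (List.Mem.tail _ (List.Mem.tail _ (List.Mem.tail _ (List.Mem.tail _ (List.Mem.tail _ (List.Mem.tail _ (List.Mem.tail _ (List.Mem.tail _ (List.Mem.tail _ (List.Mem.tail _ (List.Mem.tail _ (List.Mem.tail _ (List.Mem.tail _ (List.Mem.tail _ (List.Mem.tail _ (List.Mem.tail _ (List.Mem.head _))))))))))))))))))))))))))))))))))))).1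

theorem lift_cox_fj (σ : ℕ → K) (hσ : ∀ s, σ s * σ s = 1)
    (hw : ∀ w ∈ words, (w.map σ).prod = 1) :
    FreeGroup.lift (fun x => σ (idx x)) ((FreeGroup.of (Fi23.Gen.f) * FreeGroup.of (Fi23.Gen.j)) ^ coxLabel Fi23.edges .f .j) = 1 := by
  rw [label_fj]
  simpa only [map_pow, map_mul, FreeGroup.lift_apply_of, idx] using
    (cox_case σ hσ hw 5 7 2 (List.Mem.tail _ (List.Mem.tail _ (List.Mem.tail _ (List.Mem.tail _ (List.Mem.tail _ (List.Mem.tail _ (List.Mem.tail _ (List.Mem.tail _ (List.Mem.tail _ (List.Mem.tail _ (List.Mem.tail _ (List.Mem.tail _ (List.Mem.tail _ (List.Mem.tail _ (List.Mem.tail _ (List.Mem.tail _ (List.Mem.tail _ (List.Mem.tail _ (List.Mem.tail _ (List.Mem.tail _ (List.Mem.tail _ (List.Mem.tail _ (List.Mem.tail _ (List.Mem.tail _ (List.Mem.tail _ (List.Mem.tail _ (List.Mem.tail _ (List.Mem.tail _ (List.Mem.tail _ (List.Mem.tail _ (List.Mem.tail _ (List.Mem.tail _ (List.Mem.tail _ (List.Mem.tail _ (List.Mem.tail _ (List.Mem.tail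 _ (List.Mem.head _)))))))))))))))))))))))))))))))))))))).1

theorem lift_cox_fh (σ : ℕ → K) (hσ : ∀ s, σ s * σ s = 1)
    (hw : ∀ w ∈ words, (w.map σ).prod = 1) :
    FreeGroup.lift (fun x => σ (idx x)) ((FreeGroup.of (Fi23.Gen.f) * FreeGroup.of (Fi23.Gen.h)) ^ coxLabel Fi23.edges .f .h) = 1 := by
  rw [label_fh]
  simpa only [map_pow, map_mul, FreeGroup.lift_apply_of, idx] using
    (cox_case σ hσ hw 5 8 2 (List.Mem.tail _ (List.Mem.tail _ (List.Mem.tail _ (List.Mem.tail _ (List.Mem.tail _ (List.Mem.tail _ (List.Mem.tail _ (List.Mem.tail _ (List.Mem.tail _ (List.Mem.tail _ (List.Mem.tail _ (List.Mem.tail _ (List.Mem.tail _ (List.Mem.tail _ (List.Mem.tail _ (List.Mem.tail _ (List.Mem.tail _ (List.Mem.tail _ (List.Mem.tail _ (List.Mem.tail _ (List.Mem.tail _ (List.Mem.tail _ (List.Mem.tail _ (List.Mem.tail _ (List.Mem.tail _ (List.Mem.tail _ (List.Mem.tail _ (List.Mem.tail _ (List.Mem.tail _ (List.Mem.tail _ (List.Mem.tail _ (List.Mem.tail _ (List.Mem.tail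 _ (List.Mem.tail _ (List.Mem.tail _ (List.Mem.tail _ (List.Mem.tail _ (List.Mem.head _))))))))))))))))))))))))))))))))))))))).1

theorem lift_cox_fi (σ : ℕ → K) (hσ : ∀ s, σ s * σ s = 1)
    (hw : ∀ w ∈ words, (w.map σ).prod = 1) :
    FreeGroup.lift (fun x => σ (idx x)) ((FreeGroup.of (Fi23.Gen.f) * FreeGroup.of (Fi23.Gen.i)) ^ coxLabel Fi23.edges .f .i) = 1 := by
  rw [label_fi]
  simpa only [map_pow, map_mul, FreeGroup.lift_apply_of, idx] using
    (cox_case σ hσ hw 5 9 2 (List.Mem.tail _ (List.Mem.tail _ (List.Mem.tail _ (List.Mem.tail _ (List.Mem.tail _ (List.Mem.tail _ (List.Mem.tail _ (List.Mem.tail _ (List.Mem.tail _ (List.Mem.tail _ (List.Mem.tail _ (List.Mem.tail _ (List.Mem.tail _ (List.Mem.tail _ (List.Mem.tail _ (List.Mem.tail _ (List.Mem.tail _ (List.Mem.tail _ (List.Mem.tail _ (List.Mem.tail _ (List.Mem.tail _ (List.Mem.tail _ (List.Mem.tail _ (List.Mem.tail _ (List.Mem.tail _ (List.Mem.tail _ (List.Mem.tail _ (List.Mem.tail _ (List.Mem.tail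 _ (List.Mem.tail _ (List.Mem.tail _ (List.Mem.tail _ (List.Mem.tail _ (List.Mem.tail _ (List.Mem.tail _ (List.Mem.tail _ (List.Mem.tail _ (List.Mem.tail _ (List.Mem.head _)))))))))))))))))))))))))))))))))))))))).1

theorem lift_cox_ga (σ : ℕ → K) (hσ : ∀ s, σ s * σ s = 1)
    (hw : ∀ w ∈ words, (w.map σ).prod = 1) :
    FreeGroup.lift (fun x => σ (idx x)) ((FreeGroup.of (Fi23.Gen.g) * FreeGroup.of (Fi23.Gen.a)) ^ coxLabel Fi23.edges .g .a) = 1 := by
  rw [label_ga]
  simpa only [map_pow, map_mul, FreeGroup.lift_apply_of, idx] using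
    (cox_case σ hσ hw 0 6 2 (List.Mem.tail _ (List.Mem.tail _ (List.Mem.tail _ (List.Mem.tail _ (List.Mem.tail _ (List.Mem.head _))))))).2

theorem lift_cox_gb (σ : ℕ → K) (hσ : ∀ s, σ s * σ s = 1)
    (hw : ∀ w ∈ words, (w.map σ).prod = 1) :
    FreeGroup.lift (fun x => σ (idx x)) ((FreeGroup.of (Fi23.Gen.g) * FreeGroup.of (Fi23.Gen.b)) ^ coxLabel Fi23.edges .g .b) = 1 := by
  rw [label_gb]
  simpa only [map_pow, map_mul, FreeGroup.lift_apply_of, idx] using
    (cox_case σ hσ hw 1 6 2 (List.Mem.tail _ (List.Mem.tail _ (List.Mem.tail _ (List.Mem.tail _ (List.Mem.tail _ (List.Mem.tail _ (List.Mem.tail _ (List.Mem.tail _ (List.Mem.tail _ (List.Mem.tail _ (List.Mem.tail _ (List.Mem.tail _ (List.Mem.tail _ (List.Mem.head _))))))))))))))).2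

theorem lift_cox_gc (σ : ℕ → K) (hσ : ∀ s, σ s * σ s = 1)
    (hw : ∀ w ∈ words, (w.map σ).prod = 1) :
    FreeGroup.lift (fun x => σ (idx x)) ((FreeGroup.of (Fi23.Gen.g) * FreeGroup.of (Fi23.Gen.c)) ^ coxLabel Fi23.edges .g .c) = 1 := by
  rw [label_gc]
  simpa only [map_pow, map_mul, FreeGroup.lift_apply_of, idx] using
    (cox_case σ hσ hw 2 6 2 (List.Mem.tail _ (List.Mem.tail _ (List.Mem.tail _ (List.Mem.tail _ (List.Mem.tail _ (List.Mem.tail _ (List.Mem.tail _ (List.Mem.tail _ (List.Mem.tail _ (List.Mem.tail _ (List.Mem.tail _ (List.Mem.tail _ (List.Mem.tail _ (List.Mem.tail _ (List.Mem.tail _ (List.Mem.tail _ (List.Mem.tail _ (List.Mem.tail _ (List.Mem.tail _ (List.Mem.tail _ (List.Mem.head _)))))))))))))))))))))).2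

theorem lift_cox_gd (σ : ℕ → K) (hσ : ∀ s, σ s * σ s = 1)
    (hw : ∀ w ∈ words, (w.map σ).prod = 1) :
    FreeGroup.lift (fun x => σ (idx x)) ((FreeGroup.of (Fi23.Gen.g) * FreeGroup.of (Fi23.Gen.d)) ^ coxLabel Fi23.edges .g .d) = 1 := by
  rw [label_gd]
  simpa only [map_pow, map_mul, FreeGroup.lift_apply_of, idx] using
    (cox_case σ hσ hw 3 6 2 (List.Mem.tail _ (List.Mem.tail _ (List.Mem.tail _ (List.Mem.tail _ (List.Mem.tail _ (List.Mem.tail _ (List.Mem.tail _ (List.Mem.tail _ (List.Mem.tail _ (List.Mem.tail _ (List.Mem.tail _ (List.Mem.tail _ (List.Mem.tail _ (List.Mem.tail _ (List.Mem.tail _ (List.Mem.tail _ (List.Mem.tail _ (List.Mem.tail _ (List.Mem.tail _ (List.Mem.tail _ (List.Mem.tail _ (List.Mem.tail _ (List.Mem.tail _ (List.Mem.tail _ (List.Mem.tail _ (List.Mem.tail _ (List.Mem.head _)))))))))))))))))))))))))))).2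

theorem lift_cox_ge (σ : ℕ → K) (hσ : ∀ s, σ s * σ s = 1)
    (hw : ∀ w ∈ words, (w.map σ).prod = 1) :
    FreeGroup.lift (fun x => σ (idx x)) ((FreeGroup.of (Fi23.Gen.g) * FreeGroup.of (Fi23.Gen.e)) ^ coxLabel Fi23.edges .g .e) = 1 := by
  rw [label_ge]
  simpa only [map_pow, map_mul, FreeGroup.lift_apply_of, idx] using
    (cox_case σ hσ hw 4 6 2 (List.Mem.tail _ (List.Mem.tail _ (List.Mem.tail _ (List.Mem.tail _ (List.Mem.tail _ (List.Mem.tail _ (List.Mem.tail _ (List.Mem.tail _ (List.Mem.tail _ (List.Mem.tail _ (List.Mem.tail _ (List.Mem.tail _ (List.Mem.tail _ (List.Mem.tail _ (List.Mem.tail _ (List.Mem.tail _ (List.Mem.tail _ (List.Mem.tail _ (List.Mem.tail _ (List.Mem.tail _ (List.Mem.tail _ (List.Mem.tail _ (List.Mem.tail _ (List.Mem.tail _ (List.Mem.tail _ (List.Mem.tail _ (List.Mem.tail _ (List.Mem.tail _ (List.Mem.tail _ (List.Mem.tail _ (List.Mem.tail _ (List.Mem.head _))))))))))))))))))))))))))))))))).2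

theorem lift_cox_gf (σ : ℕ → K) (hσ : ∀ s, σ s * σ s = 1)
    (hw : ∀ w ∈ words, (w.map σ).prod = 1) :
    FreeGroup.lift (fun x => σ (idx x)) ((FreeGroup.of (Fi23.Gen.g) * FreeGroup.of (Fi23.Gen.f)) ^ coxLabel Fi23.edges .g .f) = 1 := by
  rw [label_gf]
  simpa only [map_pow, map_mul, FreeGroup.lift_apply_of, idx] using
    (cox_case σ hσ hw 5 6 3 (List.Mem.tail _ (List.Mem.tail _ (List.Mem.tail _ (List.Mem.tail _ (List.Mem.tail _ (List.Mem.tail _ (List.Mem.tail _ (List.Mem.tail _ (List.Mem.tail _ (List.Mem.tail _ (List.Mem.tail _ (List.Mem.tail _ (List.Mem.tail _ (List.Mem.tail _ (List.Mem.tail _ (List.Mem.tail _ (List.Mem.tail _ (List.Mem.tail _ (List.Mem.tail _ (List.Mem.tail _ (List.Mem.tail _ (List.Mem.tail _ (List.Mem.tail _ (List.Mem.tail _ (List.Mem.tail _ (List.Mem.tail _ (List.Mem.tail _ (List.Mem.tail _ (List.Mem.tail _ (List.Mem.tail _ (List.Mem.tail _ (List.Mem.tail _ (List.Mem.tail _ (List.Mem.tail _ (List.Mem.tail _ (List.Mem.head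 _))))))))))))))))))))))))))))))))))))).2

theorem lift_cox_gg (σ : ℕ → K) (hσ : ∀ s, σ s * σ s = 1)
    (hw : ∀ w ∈ words, (w.map σ).prod = 1) :
    FreeGroup.lift (fun x => σ (idx x)) ((FreeGroup.of (Fi23.Gen.g) * FreeGroup.of (Fi23.Gen.g)) ^ coxLabel Fi23.edges .g .g) = 1 := by
  simpa [coxLabel, idx] using hσ 6

theorem lift_cox_gj (σ : ℕ → K) (hσ : ∀ s, σ s * σ s = 1)
    (hw : ∀ w ∈ words, (w.map σ).prod = 1) :
    FreeGroup.lift (fun x => σ (idx x)) ((FreeGroup.of (Fi23.Gen.g) * FreeGroup.of (Fi23.Gen.j)) ^ coxLabel Fi23.edges .g .j) = 1 := by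
  rw [label_gj]
  simpa only [map_pow, map_mul, FreeGroup.lift_apply_of, idx] using
    (cox_case σ hσ hw 6 7 3 (List.Mem.tail _ (List.Mem.tail _ (List.Mem.tail _ (List.Mem.tail _ (List.Mem.tail _ (List.Mem.tail _ (List.Mem.tail _ (List.Mem.tail _ (List.Mem.tail _ (List.Mem.tail _ (List.Mem.tail _ (List.Mem.tail _ (List.Mem.tail _ (List.Mem.tail _ (List.Mem.tail _ (List.Mem.tail _ (List.Mem.tail _ (List.Mem.tail _ (List.Mem.tail _ (List.Mem.tail _ (List.Mem.tail _ (List.Mem.tail _ (List.Mem.tail _ (List.Mem.tail _ (List.Mem.tail _ (List.Mem.tail _ (List.Mem.tail _ (List.Mem.tail _ (List.Mem.tail _ (List.Mem.tail _ (List.Mem.tail _ (List.Mem.tail _ (List.Mem.tail _ (List.Mem.tail _ (List.Mem.tail _ (List.Mem.tail _ (List.Mem.tail _ (List.Mem.tail _ (List.Mem.tail _ (List.Mem.head _))))))))))))))))))))))))))))))))))))))))).1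

theorem lift_cox_gh (σ : ℕ → K) (hσ : ∀ s, σ s * σ s = 1)
    (hw : ∀ w ∈ words, (w.map σ).prod = 1) :
    FreeGroup.lift (fun x => σ (idx x)) ((FreeGroup.of (Fi23.Gen.g) * FreeGroup.of (Fi23.Gen.h)) ^ coxLabel Fi23.edges .g .h) = 1 := by
  rw [label_gh]
  simpa only [map_pow, map_mul, FreeGroup.lift_apply_of, idx] using
    (cox_case σ hσ hw 6 8 2 (List.Mem.tail _ (List.Mem.tail _ (List.Mem.tail _ (List.Mem.tail _ (List.Mem.tail _ (List.Mem.tail _ (List.Mem.tail _ (List.Mem.tail _ (List.Mem.tail _ (List.Mem.tail _ (List.Mem.tail _ (List.Mem.tail _ (List.Mem.tail _ (List.Mem.tail _ (List.Mem.tail _ (List.Mem.tail _ (List.Mem.tail _ (List.Mem.tail _ (List.Mem.tail _ (List.Mem.tail _ (List.Mem.tail _ (List.Mem.tail _ (List.Mem.tail _ (List.Mem.tail _ (List.Mem.tail _ (List.Mem.tail _ (List.Mem.tail _ (List.Mem.tail _ (List.Mem.tail _ (List.Mem.tail _ (List.Mem.tail _ (List.Mem.tail _ (List.Mem.tail _ (List.Mem.tail _ (List.Mem.tail _ (List.Mem.tail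 _ (List.Mem.tail _ (List.Mem.tail _ (List.Mem.tail _ (List.Mem.tail _ (List.Mem.head _)))))))))))))))))))))))))))))))))))))))))).1

theorem lift_cox_gi (σ : ℕ → K) (hσ : ∀ s, σ s * σ s = 1)
    (hw : ∀ w ∈ words, (w.map σ).prod = 1) :
    FreeGroup.lift (fun x => σ (idx x)) ((FreeGroup.of (Fi23.Gen.g) * FreeGroup.of (Fi23.Gen.i)) ^ coxLabel Fi23.edges .g .i) = 1 := by
  rw [label_gi]
  simpa only [map_pow, map_mul, FreeGroup.lift_apply_of, idx] using
    (cox_case σ hσ hw 6 9 2 (List.Mem.tail _ (List.Mem.tail _ (List.Mem.tail _ (List.Mem.tail _ (List.Mem.tail _ (List.Mem.tail _ (List.Mem.tail _ (List.Mem.tail _ (List.Mem.tail _ (List.Mem.tail _ (List.Mem.tail _ (List.Mem.tail _ (List.Mem.tail _ (List.Mem.tail _ (List.Mem.tail _ (List.Mem.tail _ (List.Mem.tail _ (List.Mem.tail _ (List.Mem.tail _ (List.Mem.tail _ (List.Mem.tail _ (List.Mem.tail _ (List.Mem.tail _ (List.Mem.tail _ (List.Mem.tail _ (List.Mem.tail _ (List.Mem.tail _ (List.Mem.tail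 _ (List.Mem.tail _ (List.Mem.tail _ (List.Mem.tail _ (List.Mem.tail _ (List.Mem.tail _ (List.Mem.tail _ (List.Mem.tail _ (List.Mem.tail _ (List.Mem.tail _ (List.Mem.tail _ (List.Mem.tail _ (List.Mem.tail _ (List.Mem.tail _ (List.Mem.head _))))))))))))))))))))))))))))))))))))))))))).1

theorem lift_cox_ja (σ : ℕ → K) (hσ : ∀ s, σ s * σ s = 1)
    (hw : ∀ w ∈ words, (w.map σ).prod = 1) :
    FreeGroup.lift (fun x => σ (idx x)) ((FreeGroup.of (Fi23.Gen.j) * FreeGroup.of (Fi23.Gen.a)) ^ coxLabel Fi23.edges .j .a) = 1 := by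
  rw [label_ja]
  simpa only [map_pow, map_mul, FreeGroup.lift_apply_of, idx] using
    (cox_case σ hσ hw 0 7 2 (List.Mem.tail _ (List.Mem.tail _ (List.Mem.tail _ (List.Mem.tail _ (List.Mem.tail _ (List.Mem.tail _ (List.Mem.head _)))))))).2

theorem lift_cox_jb (σ : ℕ → K) (hσ : ∀ s, σ s * σ s = 1)
    (hw : ∀ w ∈ words, (w.map σ).prod = 1) :
    FreeGroup.lift (fun x => σ (idx x)) ((FreeGroup.of (Fi23.Gen.j) * FreeGroup.of (Fi23.Gen.b)) ^ coxLabel Fi23.edges .j .b) = 1 := by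
  rw [label_jb]
  simpa only [map_pow, map_mul, FreeGroup.lift_apply_of, idx] using
    (cox_case σ hσ hw 1 7 2 (List.Mem.tail _ (List.Mem.tail _ (List.Mem.tail _ (List.Mem.tail _ (List.Mem.tail _ (List.Mem.tail _ (List.Mem.tail _ (List.Mem.tail _ (List.Mem.tail _ (List.Mem.tail _ (List.Mem.tail _ (List.Mem.tail _ (List.Mem.tail _ (List.Mem.tail _ (List.Mem.head _)))))))))))))))).2

theorem lift_cox_jc (σ : ℕ → K) (hσ : ∀ s, σ s * σ s = 1)
    (hw : ∀ w ∈ words, (w.map σ).prod = 1) :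
    FreeGroup.lift (fun x => σ (idx x)) ((FreeGroup.of (Fi23.Gen.j) * FreeGroup.of (Fi23.Gen.c)) ^ coxLabel Fi23.edges .j .c) = 1 := by
  rw [label_jc]
  simpa only [map_pow, map_mul, FreeGroup.lift_apply_of, idx] using
    (cox_case σ hσ hw 2 7 2 (List.Mem.tail _ (List.Mem.tail _ (List.Mem.tail _ (List.Mem.tail _ (List.Mem.tail _ (List.Mem.tail _ (List.Mem.tail _ (List.Mem.tail _ (List.Mem.tail _ (List.Mem.tail _ (List.Mem.tail _ (List.Mem.tail _ (List.Mem.tail _ (List.Mem.tail _ (List.Mem.tail _ (List.Mem.tail _ (List.Mem.tail _ (List.Mem.tail _ (List.Mem.tail _ (List.Mem.tail _ (List.Mem.tail _ (List.Mem.head _))))))))))))))))))))))).2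

theorem lift_cox_jd (σ : ℕ → K) (hσ : ∀ s, σ s * σ s = 1)
    (hw : ∀ w ∈ words, (w.map σ).prod = 1) :
    FreeGroup.lift (fun x => σ (idx x)) ((FreeGroup.of (Fi23.Gen.j) * FreeGroup.of (Fi23.Gen.d)) ^ coxLabel Fi23.edges .j .d) = 1 := by
  rw [label_jd]
  simpa only [map_pow, map_mul, FreeGroup.lift_apply_of, idx] using
    (cox_case σ hσ hw 3 7 2 (List.Mem.tail _ (List.Mem.tail _ (List.Mem.tail _ (List.Mem.tail _ (List.Mem.tail _ (List.Mem.tail _ (List.Mem.tail _ (List.Mem.tail _ (List.Mem.tail _ (List.Mem.tail _ (List.Mem.tail _ (List.Mem.tail _ (List.Mem.tail _ (List.Mem.tail _ (List.Mem.tail _ (List.Mem.tail _ (List.Mem.tail _ (List.Mem.tail _ (List.Mem.tail _ (List.Mem.tail _ (List.Mem.tail _ (List.Mem.tail _ (List.Mem.tail _ (List.Mem.tail _ (List.Mem.tail _ (List.Mem.tail _ (List.Mem.tail _ (List.Mem.head _))))))))))))))))))))))))))))).2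

theorem lift_cox_je (σ : ℕ → K) (hσ : ∀ s, σ s * σ s = 1)
    (hw : ∀ w ∈ words, (w.map σ).prod = 1) :
    FreeGroup.lift (fun x => σ (idx x)) ((FreeGroup.of (Fi23.Gen.j) * FreeGroup.of (Fi23.Gen.e)) ^ coxLabel Fi23.edges .j .e) = 1 := by
  rw [label_je]
  simpa only [map_pow, map_mul, FreeGroup.lift_apply_of, idx] using
    (cox_case σ hσ hw 4 7 2 (List.Mem.tail _ (List.Mem.tail _ (List.Mem.tail _ (List.Mem.tail _ (List.Mem.tail _ (List.Mem.tail _ (List.Mem.tail _ (List.Mem.tail _ (List.Mem.tail _ (List.Mem.tail _ (List.Mem.tail _ (List.Mem.tail _ (List.Mem.tail _ (List.Mem.tail _ (List.Mem.tail _ (List.Mem.tail _ (List.Mem.tail _ (List.Mem.tail _ (List.Mem.tail _ (List.Mem.tail _ (List.Mem.tail _ (List.Mem.tail _ (List.Mem.tail _ (List.Mem.tail _ (List.Mem.tail _ (List.Mem.tail _ (List.Mem.tail _ (List.Mem.tail _ (List.Mem.tail _ (List.Mem.tail _ (List.Mem.tail _ (List.Mem.tail _ (List.Mem.head _)))))))))))))))))))))))))))))))))).2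

theorem lift_cox_jf (σ : ℕ → K) (hσ : ∀ s, σ s * σ s = 1)
    (hw : ∀ w ∈ words, (w.map σ).prod = 1) :
    FreeGroup.lift (fun x => σ (idx x)) ((FreeGroup.of (Fi23.Gen.j) * FreeGroup.of (Fi23.Gen.f)) ^ coxLabel Fi23.edges .j .f) = 1 := by
  rw [label_jf]
  simpa only [map_pow, map_mul, FreeGroup.lift_apply_of, idx] using
    (cox_case σ hσ hw 5 7 2 (List.Mem.tail _ (List.Mem.tail _ (List.Mem.tail _ (List.Mem.tail _ (List.Mem.tail _ (List.Mem.tail _ (List.Mem.tail _ (List.Mem.tail _ (List.Mem.tail _ (List.Mem.tail _ (List.Mem.tail _ (List.Mem.tail _ (List.Mem.tail _ (List.Mem.tail _ (List.Mem.tail _ (List.Mem.tail _ (List.Mem.tail _ (List.Mem.tail _ (List.Mem.tail _ (List.Mem.tail _ (List.Mem.tail _ (List.Mem.tail _ (List.Mem.tail _ (List.Mem.tail _ (List.Mem.tail _ (List.Mem.tail _ (List.Mem.tail _ (List.Mem.tail _ (List.Mem.tail _ (List.Mem.tail _ (List.Mem.tail _ (List.Mem.tail _ (List.Mem.tail _ (List.Mem.tail _ (List.Mem.tail _ (List.Mem.tail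 _ (List.Mem.head _)))))))))))))))))))))))))))))))))))))).2

theorem lift_cox_jg (σ : ℕ → K) (hσ : ∀ s, σ s * σ s = 1)
    (hw : ∀ w ∈ words, (w.map σ).prod = 1) :
    FreeGroup.lift (fun x => σ (idx x)) ((FreeGroup.of (Fi23.Gen.j) * FreeGroup.of (Fi23.Gen.g)) ^ coxLabel Fi23.edges .j .g) = 1 := by
  rw [label_jg]
  simpa only [map_pow, map_mul, FreeGroup.lift_apply_of, idx] using
    (cox_case σ hσ hw 6 7 3 (List.Mem.tail _ (List.Mem.tail _ (List.Mem.tail _ (List.Mem.tail _ (List.Mem.tail _ (List.Mem.tail _ (List.Mem.tail _ (List.Mem.tail _ (List.Mem.tail _ (List.Mem.tail _ (List.Mem.tail _ (List.Mem.tail _ (List.Mem.tail _ (List.Mem.tail _ (List.Mem.tail _ (List.Mem.tail _ (List.Mem.tail _ (List.Mem.tail _ (List.Mem.tail _ (List.Mem.tail _ (List.Mem.tail _ (List.Mem.tail _ (List.Mem.tail _ (List.Mem.tail _ (List.Mem.tail _ (List.Mem.tail _ (List.Mem.tail _ (List.Mem.tail _ (List.Mem.tail _ (List.Mem.tail _ (List.Mem.tail _ (List.Mem.tail _ (List.Mem.tail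 _ (List.Mem.tail _ (List.Mem.tail _ (List.Mem.tail _ (List.Mem.tail _ (List.Mem.tail _ (List.Mem.tail _ (List.Mem.head _))))))))))))))))))))))))))))))))))))))))).2

theorem lift_cox_jj (σ : ℕ → K) (hσ : ∀ s, σ s * σ s = 1)
    (hw : ∀ w ∈ words, (w.map σ).prod = 1) :
    FreeGroup.lift (fun x => σ (idx x)) ((FreeGroup.of (Fi23.Gen.j) * FreeGroup.of (Fi23.Gen.j)) ^ coxLabel Fi23.edges .j .j) = 1 := by
  simpa [coxLabel, idx] using hσ 7

theorem lift_cox_jh (σ : ℕ → K) (hσ : ∀ s, σ s * σ s = 1)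
    (hw : ∀ w ∈ words, (w.map σ).prod = 1) :
    FreeGroup.lift (fun x => σ (idx x)) ((FreeGroup.of (Fi23.Gen.j) * FreeGroup.of (Fi23.Gen.h)) ^ coxLabel Fi23.edges .j .h) = 1 := by
  rw [label_jh]
  simpa only [map_pow, map_mul, FreeGroup.lift_apply_of, idx] using
    (cox_case σ hσ hw 7 8 2 (List.Mem.tail _ (List.Mem.tail _ (List.Mem.tail _ (List.Mem.tail _ (List.Mem.tail _ (List.Mem.tail _ (List.Mem.tail _ (List.Mem.tail _ (List.Mem.tail _ (List.Mem.tail _ (List.Mem.tail _ (List.Mem.tail _ (List.Mem.tail _ (List.Mem.tail _ (List.Mem.tail _ (List.Mem.tail _ (List.Mem.tail _ (List.Mem.tail _ (List.Mem.tail _ (List.Mem.tail _ (List.Mem.tail _ (List.Mem.tail _ (List.Mem.tail _ (List.Mem.tail _ (List.Mem.tail _ (List.Mem.tail _ (List.Mem.tail _ (List.Mem.tail _ (List.Mem.tail _ (List.Mem.tail _ (List.Mem.tail _ (List.Mem.tail _ (List.Mem.tail _ (List.Mem.tail _ (List.Mem.tail _ (List.Mem.tail _ (List.Mem.tail _ (List.Mem.tail _ (List.Mem.tail _ (List.Mem.tail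 _ (List.Mem.tail _ (List.Mem.tail _ (List.Mem.head _)))))))))))))))))))))))))))))))))))))))))))).1

theorem lift_cox_ji (σ : ℕ → K) (hσ : ∀ s, σ s * σ s = 1)
    (hw : ∀ w ∈ words, (w.map σ).prod = 1) :
    FreeGroup.lift (fun x => σ (idx x)) ((FreeGroup.of (Fi23.Gen.j) * FreeGroup.of (Fi23.Gen.i)) ^ coxLabel Fi23.edges .j .i) = 1 := by
  rw [label_ji]
  simpa only [map_pow, map_mul, FreeGroup.lift_apply_of, idx] using
    (cox_case σ hσ hw 7 9 2 (List.Mem.tail _ (List.Mem.tail _ (List.Mem.tail _ (List.Mem.tail _ (List.Mem.tail _ (List.Mem.tail _ (List.Mem.tail _ (List.Mem.tail _ (List.Mem.tail _ (List.Mem.tail _ (List.Mem.tail _ (List.Mem.tail _ (List.Mem.tail _ (List.Mem.tail _ (List.Mem.tail _ (List.Mem.tail _ (List.Mem.tail _ (List.Mem.tail _ (List.Mem.tail _ (List.Mem.tail _ (List.Mem.tail _ (List.Mem.tail _ (List.Mem.tail _ (List.Mem.tail _ (List.Mem.tail _ (List.Mem.tail _ (List.Mem.tail _ (List.Mem.tail _ (List.Mem.tail _ (List.Mem.tail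 _ (List.Mem.tail _ (List.Mem.tail _ (List.Mem.tail _ (List.Mem.tail _ (List.Mem.tail _ (List.Mem.tail _ (List.Mem.tail _ (List.Mem.tail _ (List.Mem.tail _ (List.Mem.tail _ (List.Mem.tail _ (List.Mem.tail _ (List.Mem.tail _ (List.Mem.head _))))))))))))))))))))))))))))))))))))))))))))).1

theorem lift_cox_ha (σ : ℕ → K) (hσ : ∀ s, σ s * σ s = 1)
    (hw : ∀ w ∈ words, (w.map σ).prod = 1) :
    FreeGroup.lift (fun x => σ (idx x)) ((FreeGroup.of (Fi23.Gen.h) * FreeGroup.of (Fi23.Gen.a)) ^ coxLabel Fi23.edges .h .a) = 1 := by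
  rw [label_ha]
  simpa only [map_pow, map_mul, FreeGroup.lift_apply_of, idx] using
    (cox_case σ hσ hw 0 8 2 (List.Mem.tail _ (List.Mem.tail _ (List.Mem.tail _ (List.Mem.tail _ (List.Mem.tail _ (List.Mem.tail _ (List.Mem.tail _ (List.Mem.head _))))))))).2

theorem lift_cox_hb (σ : ℕ → K) (hσ : ∀ s, σ s * σ s = 1)
    (hw : ∀ w ∈ words, (w.map σ).prod = 1) :
    FreeGroup.lift (fun x => σ (idx x)) ((FreeGroup.of (Fi23.Gen.h) * FreeGroup.of (Fi23.Gen.b)) ^ coxLabel Fi23.edges .h .b) = 1 := by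
  rw [label_hb]
  simpa only [map_pow, map_mul, FreeGroup.lift_apply_of, idx] using
    (cox_case σ hσ hw 1 8 2 (List.Mem.tail _ (List.Mem.tail _ (List.Mem.tail _ (List.Mem.tail _ (List.Mem.tail _ (List.Mem.tail _ (List.Mem.tail _ (List.Mem.tail _ (List.Mem.tail _ (List.Mem.tail _ (List.Mem.tail _ (List.Mem.tail _ (List.Mem.tail _ (List.Mem.tail _ (List.Mem.tail _ (List.Mem.head _))))))))))))))))).2

theorem lift_cox_hc (σ : ℕ → K) (hσ : ∀ s, σ s * σ s = 1)
    (hw : ∀ w ∈ words, (w.map σ).prod = 1) :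
    FreeGroup.lift (fun x => σ (idx x)) ((FreeGroup.of (Fi23.Gen.h) * FreeGroup.of (Fi23.Gen.c)) ^ coxLabel Fi23.edges .h .c) = 1 := by
  rw [label_hc]
  simpa only [map_pow, map_mul, FreeGroup.lift_apply_of, idx] using
    (cox_case σ hσ hw 2 8 2 (List.Mem.tail _ (List.Mem.tail _ (List.Mem.tail _ (List.Mem.tail _ (List.Mem.tail _ (List.Mem.tail _ (List.Mem.tail _ (List.Mem.tail _ (List.Mem.tail _ (List.Mem.tail _ (List.Mem.tail _ (List.Mem.tail _ (List.Mem.tail _ (List.Mem.tail _ (List.Mem.tail _ (List.Mem.tail _ (List.Mem.tail _ (List.Mem.tail _ (List.Mem.tail _ (List.Mem.tail _ (List.Mem.tail _ (List.Mem.tail _ (List.Mem.head _)))))))))))))))))))))))).2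

theorem lift_cox_hd (σ : ℕ → K) (hσ : ∀ s, σ s * σ s = 1)
    (hw : ∀ w ∈ words, (w.map σ).prod = 1) :
    FreeGroup.lift (fun x => σ (idx x)) ((FreeGroup.of (Fi23.Gen.h) * FreeGroup.of (Fi23.Gen.d)) ^ coxLabel Fi23.edges .h .d) = 1 := by
  rw [label_hd]
  simpa only [map_pow, map_mul, FreeGroup.lift_apply_of, idx] using
    (cox_case σ hσ hw 3 8 3 (List.Mem.tail _ (List.Mem.tail _ (List.Mem.tail _ (List.Mem.tail _ (List.Mem.tail _ (List.Mem.tail _ (List.Mem.tail _ (List.Mem.tail _ (List.Mem.tail _ (List.Mem.tail _ (List.Mem.tail _ (List.Mem.tail _ (List.Mem.tail _ (List.Mem.tail _ (List.Mem.tail _ (List.Mem.tail _ (List.Mem.tail _ (List.Mem.tail _ (List.Mem.tail _ (List.Mem.tail _ (List.Mem.tail _ (List.Mem.tail _ (List.Mem.tail _ (List.Mem.tail _ (List.Mem.tail _ (List.Mem.tail _ (List.Mem.tail _ (List.Mem.tail _ (List.Mem.head _)))))))))))))))))))))))))))))).2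

theorem lift_cox_he (σ : ℕ → K) (hσ : ∀ s, σ s * σ s = 1)
    (hw : ∀ w ∈ words, (w.map σ).prod = 1) :
    FreeGroup.lift (fun x => σ (idx x)) ((FreeGroup.of (Fi23.Gen.h) * FreeGroup.of (Fi23.Gen.e)) ^ coxLabel Fi23.edges .h .e) = 1 := by
  rw [label_he]
  simpa only [map_pow, map_mul, FreeGroup.lift_apply_of, idx] using
    (cox_case σ hσ hw 4 8 2 (List.Mem.tail _ (List.Mem.tail _ (List.Mem.tail _ (List.Mem.tail _ (List.Mem.tail _ (List.Mem.tail _ (List.Mem.tail _ (List.Mem.tail _ (List.Mem.tail _ (List.Mem.tail _ (List.Mem.tail _ (List.Mem.tail _ (List.Mem.tail _ (List.Mem.tail _ (List.Mem.tail _ (List.Mem.tail _ (List.Mem.tail _ (List.Mem.tail _ (List.Mem.tail _ (List.Mem.tail _ (List.Mem.tail _ (List.Mem.tail _ (List.Mem.tail _ (List.Mem.tail _ (List.Mem.tail _ (List.Mem.tail _ (List.Mem.tail _ (List.Mem.tail _ (List.Mem.tail _ (List.Mem.tail _ (List.Mem.tail _ (List.Mem.tail _ (List.Mem.tail _ (List.Mem.head _))))))))))))))))))))))))))))))))))).2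

theorem lift_cox_hf (σ : ℕ → K) (hσ : ∀ s, σ s * σ s = 1)
    (hw : ∀ w ∈ words, (w.map σ).prod = 1) :
    FreeGroup.lift (fun x => σ (idx x)) ((FreeGroup.of (Fi23.Gen.h) * FreeGroup.of (Fi23.Gen.f)) ^ coxLabel Fi23.edges .h .f) = 1 := by
  rw [label_hf]
  simpa only [map_pow, map_mul, FreeGroup.lift_apply_of, idx] using
    (cox_case σ hσ hw 5 8 2 (List.Mem.tail _ (List.Mem.tail _ (List.Mem.tail _ (List.Mem.tail _ (List.Mem.tail _ (List.Mem.tail _ (List.Mem.tail _ (List.Mem.tail _ (List.Mem.tail _ (List.Mem.tail _ (List.Mem.tail _ (List.Mem.tail _ (List.Mem.tail _ (List.Mem.tail _ (List.Mem.tail _ (List.Mem.tail _ (List.Mem.tail _ (List.Mem.tail _ (List.Mem.tail _ (List.Mem.tail _ (List.Mem.tail _ (List.Mem.tail _ (List.Mem.tail _ (List.Mem.tail _ (List.Mem.tail _ (List.Mem.tail _ (List.Mem.tail _ (List.Mem.tail _ (List.Mem.tail _ (List.Mem.tail _ (List.Mem.tail _ (List.Mem.tail _ (List.Mem.tail _ (List.Mem.tail _ (List.Mem.tail _ (List.Mem.tail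 _ (List.Mem.tail _ (List.Mem.head _))))))))))))))))))))))))))))))))))))))).2

theorem lift_cox_hg (σ : ℕ → K) (hσ : ∀ s, σ s * σ s = 1)
    (hw : ∀ w ∈ words, (w.map σ).prod = 1) :
    FreeGroup.lift (fun x => σ (idx x)) ((FreeGroup.of (Fi23.Gen.h) * FreeGroup.of (Fi23.Gen.g)) ^ coxLabel Fi23.edges .h .g) = 1 := by
  rw [label_hg]
  simpa only [map_pow, map_mul, FreeGroup.lift_apply_of, idx] using
    (cox_case σ hσ hw 6 8 2 (List.Mem.tail _ (List.Mem.tail _ (List.Mem.tail _ (List.Mem.tail _ (List.Mem.tail _ (List.Mem.tail _ (List.Mem.tail _ (List.Mem.tail _ (List.Mem.tail _ (List.Mem.tail _ (List.Mem.tail _ (List.Mem.tail _ (List.Mem.tail _ (List.Mem.tail _ (List.Mem.tail _ (List.Mem.tail _ (List.Mem.tail _ (List.Mem.tail _ (List.Mem.tail _ (List.Mem.tail _ (List.Mem.tail _ (List.Mem.tail _ (List.Mem.tail _ (List.Mem.tail _ (List.Mem.tail _ (List.Mem.tail _ (List.Mem.tail _ (List.Mem.tail _ (List.Mem.tail _ (List.Mem.tail _ (List.Mem.tail _ (List.Mem.tail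 _ (List.Mem.tail _ (List.Mem.tail _ (List.Mem.tail _ (List.Mem.tail _ (List.Mem.tail _ (List.Mem.tail _ (List.Mem.tail _ (List.Mem.tail _ (List.Mem.head _)))))))))))))))))))))))))))))))))))))))))).2

theorem lift_cox_hj (σ : ℕ → K) (hσ : ∀ s, σ s * σ s = 1)
    (hw : ∀ w ∈ words, (w.map σ).prod = 1) :
    FreeGroup.lift (fun x => σ (idx x)) ((FreeGroup.of (Fi23.Gen.h) * FreeGroup.of (Fi23.Gen.j)) ^ coxLabel Fi23.edges .h .j) = 1 := by
  rw [label_hj]
  simpa only [map_pow, map_mul, FreeGroup.lift_apply_of, idx] using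
    (cox_case σ hσ hw 7 8 2 (List.Mem.tail _ (List.Mem.tail _ (List.Mem.tail _ (List.Mem.tail _ (List.Mem.tail _ (List.Mem.tail _ (List.Mem.tail _ (List.Mem.tail _ (List.Mem.tail _ (List.Mem.tail _ (List.Mem.tail _ (List.Mem.tail _ (List.Mem.tail _ (List.Mem.tail _ (List.Mem.tail _ (List.Mem.tail _ (List.Mem.tail _ (List.Mem.tail _ (List.Mem.tail _ (List.Mem.tail _ (List.Mem.tail _ (List.Mem.tail _ (List.Mem.tail _ (List.Mem.tail _ (List.Mem.tail _ (List.Mem.tail _ (List.Mem.tail _ (List.Mem.tail _ (List.Mem.tail _ (List.Mem.tail _ (List.Mem.tail _ (List.Mem.tail _ (List.Mem.tail _ (List.Mem.tail _ (List.Mem.tail _ (List.Mem.tail _ (List.Mem.tail _ (List.Mem.tail _ (List.Mem.tail _ (List.Mem.tail _ (List.Mem.tail _ (List.Mem.tail _ (List.Mem.head _)))))))))))))))))))))))))))))))))))))))))))).2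

theorem lift_cox_hh (σ : ℕ → K) (hσ : ∀ s, σ s * σ s = 1)
    (hw : ∀ w ∈ words, (w.map σ).prod = 1) :
    FreeGroup.lift (fun x => σ (idx x)) ((FreeGroup.of (Fi23.Gen.h) * FreeGroup.of (Fi23.Gen.h)) ^ coxLabel Fi23.edges .h .h) = 1 := by
  simpa [coxLabel, idx] using hσ 8

theorem lift_cox_hi (σ : ℕ → K) (hσ : ∀ s, σ s * σ s = 1)
    (hw : ∀ w ∈ words, (w.map σ).prod = 1) :
    FreeGroup.lift (fun x => σ (idx x)) ((FreeGroup.of (Fi23.Gen.h) * FreeGroup.of (Fi23.Gen.i)) ^ coxLabel Fi23.edges .h .i) = 1 := by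
  rw [label_hi]
  simpa only [map_pow, map_mul, FreeGroup.lift_apply_of, idx] using
    (cox_case σ hσ hw 8 9 3 (List.Mem.tail _ (List.Mem.tail _ (List.Mem.tail _ (List.Mem.tail _ (List.Mem.tail _ (List.Mem.tail _ (List.Mem.tail _ (List.Mem.tail _ (List.Mem.tail _ (List.Mem.tail _ (List.Mem.tail _ (List.Mem.tail _ (List.Mem.tail _ (List.Mem.tail _ (List.Mem.tail _ (List.Mem.tail _ (List.Mem.tail _ (List.Mem.tail _ (List.Mem.tail _ (List.Mem.tail _ (List.Mem.tail _ (List.Mem.tail _ (List.Mem.tail _ (List.Mem.tail _ (List.Mem.tail _ (List.Mem.tail _ (List.Mem.tail _ (List.Mem.tail _ (List.Mem.tail _ (List.Mem.tail _ (List.Mem.tail _ (List.Mem.tail _ (List.Mem.tail _ (List.Mem.tail _ (List.Mem.tail _ (List.Mem.tail _ (List.Mem.tail _ (List.Mem.tail _ (List.Mem.tail _ (List.Mem.tail _ (List.Mem.tail _ (List.Mem.tail _ (List.Mem.tail _ (List.Mem.tail _ (List.Mem.head _)))))))))))))))))))))))))))))))))))))))))))))).1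

theorem lift_cox_ia (σ : ℕ → K) (hσ : ∀ s, σ s * σ s = 1)
    (hw : ∀ w ∈ words, (w.map σ).prod = 1) :
    FreeGroup.lift (fun x => σ (idx x)) ((FreeGroup.of (Fi23.Gen.i) * FreeGroup.of (Fi23.Gen.a)) ^ coxLabel Fi23.edges .i .a) = 1 := by
  rw [label_ia]
  simpa only [map_pow, map_mul, FreeGroup.lift_apply_of, idx] using
    (cox_case σ hσ hw 0 9 2 (List.Mem.tail _ (List.Mem.tail _ (List.Mem.tail _ (List.Mem.tail _ (List.Mem.tail _ (List.Mem.tail _ (List.Mem.tail _ (List.Mem.tail _ (List.Mem.head _)))))))))).2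

theorem lift_cox_ib (σ : ℕ → K) (hσ : ∀ s, σ s * σ s = 1)
    (hw : ∀ w ∈ words, (w.map σ).prod = 1) :
    FreeGroup.lift (fun x => σ (idx x)) ((FreeGroup.of (Fi23.Gen.i) * FreeGroup.of (Fi23.Gen.b)) ^ coxLabel Fi23.edges .i .b) = 1 := by
  rw [label_ib]
  simpa only [map_pow, map_mul, FreeGroup.lift_apply_of, idx] using
    (cox_case σ hσ hw 1 9 2 (List.Mem.tail _ (List.Mem.tail _ (List.Mem.tail _ (List.Mem.tail _ (List.Mem.tail _ (List.Mem.tail _ (List.Mem.tail _ (List.Mem.tail _ (List.Mem.tail _ (List.Mem.tail _ (List.Mem.tail _ (List.Mem.tail _ (List.Mem.tail _ (List.Mem.tail _ (List.Mem.tail _ (List.Mem.tail _ (List.Mem.head _)))))))))))))))))).2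

theorem lift_cox_ic (σ : ℕ → K) (hσ : ∀ s, σ s * σ s = 1)
    (hw : ∀ w ∈ words, (w.map σ).prod = 1) :
    FreeGroup.lift (fun x => σ (idx x)) ((FreeGroup.of (Fi23.Gen.i) * FreeGroup.of (Fi23.Gen.c)) ^ coxLabel Fi23.edges .i .c) = 1 := by
  rw [label_ic]
  simpa only [map_pow, map_mul, FreeGroup.lift_apply_of, idx] using
    (cox_case σ hσ hw 2 9 2 (List.Mem.tail _ (List.Mem.tail _ (List.Mem.tail _ (List.Mem.tail _ (List.Mem.tail _ (List.Mem.tail _ (List.Mem.tail _ (List.Mem.tail _ (List.Mem.tail _ (List.Mem.tail _ (List.Mem.tail _ (List.Mem.tail _ (List.Mem.tail _ (List.Mem.tail _ (List.Mem.tail _ (List.Mem.tail _ (List.Mem.tail _ (List.Mem.tail _ (List.Mem.tail _ (List.Mem.tail _ (List.Mem.tail _ (List.Mem.tail _ (List.Mem.tail _ (List.Mem.head _))))))))))))))))))))))))).2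

theorem lift_cox_id (σ : ℕ → K) (hσ : ∀ s, σ s * σ s = 1)
    (hw : ∀ w ∈ words, (w.map σ).prod = 1) :
    FreeGroup.lift (fun x => σ (idx x)) ((FreeGroup.of (Fi23.Gen.i) * FreeGroup.of (Fi23.Gen.d)) ^ coxLabel Fi23.edges .i .d) = 1 := by
  rw [label_id]
  simpa only [map_pow, map_mul, FreeGroup.lift_apply_of, idx] using
    (cox_case σ hσ hw 3 9 2 (List.Mem.tail _ (List.Mem.tail _ (List.Mem.tail _ (List.Mem.tail _ (List.Mem.tail _ (List.Mem.tail _ (List.Mem.tail _ (List.Mem.tail _ (List.Mem.tail _ (List.Mem.tail _ (List.Mem.tail _ (List.Mem.tail _ (List.Mem.tail _ (List.Mem.tail _ (List.Mem.tail _ (List.Mem.tail _ (List.Mem.tail _ (List.Mem.tail _ (List.Mem.tail _ (List.Mem.tail _ (List.Mem.tail _ (List.Mem.tail _ (List.Mem.tail _ (List.Mem.tail _ (List.Mem.tail _ (List.Mem.tail _ (List.Mem.tail _ (List.Mem.tail _ (List.Mem.tail _ (List.Mem.head _))))))))))))))))))))))))))))))).2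

theorem lift_cox_ie (σ : ℕ → K) (hσ : ∀ s, σ s * σ s = 1)
    (hw : ∀ w ∈ words, (w.map σ).prod = 1) :
    FreeGroup.lift (fun x => σ (idx x)) ((FreeGroup.of (Fi23.Gen.i) * FreeGroup.of (Fi23.Gen.e)) ^ coxLabel Fi23.edges .i .e) = 1 := by
  rw [label_ie]
  simpa only [map_pow, map_mul, FreeGroup.lift_apply_of, idx] using
    (cox_case σ hσ hw 4 9 2 (List.Mem.tail _ (List.Mem.tail _ (List.Mem.tail _ (List.Mem.tail _ (List.Mem.tail _ (List.Mem.tail _ (List.Mem.tail _ (List.Mem.tail _ (List.Mem.tail _ (List.Mem.tail _ (List.Mem.tail _ (List.Mem.tail _ (List.Mem.tail _ (List.Mem.tail _ (List.Mem.tail _ (List.Mem.tail _ (List.Mem.tail _ (List.Mem.tail _ (List.Mem.tail _ (List.Mem.tail _ (List.Mem.tail _ (List.Mem.tail _ (List.Mem.tail _ (List.Mem.tail _ (List.Mem.tail _ (List.Mem.tail _ (List.Mem.tail _ (List.Mem.tail _ (List.Mem.tail _ (List.Mem.tail _ (List.Mem.tail _ (List.Mem.tail _ (List.Mem.tail _ (List.Mem.tail _ (List.Mem.head _)))))))))))))))))))))))))))))))))))).2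

theorem lift_cox_if (σ : ℕ → K) (hσ : ∀ s, σ s * σ s = 1)
    (hw : ∀ w ∈ words, (w.map σ).prod = 1) :
    FreeGroup.lift (fun x => σ (idx x)) ((FreeGroup.of (Fi23.Gen.i) * FreeGroup.of (Fi23.Gen.f)) ^ coxLabel Fi23.edges .i .f) = 1 := by
  rw [label_if]
  simpa only [map_pow, map_mul, FreeGroup.lift_apply_of, idx] using
    (cox_case σ hσ hw 5 9 2 (List.Mem.tail _ (List.Mem.tail _ (List.Mem.tail _ (List.Mem.tail _ (List.Mem.tail _ (List.Mem.tail _ (List.Mem.tail _ (List.Mem.tail _ (List.Mem.tail _ (List.Mem.tail _ (List.Mem.tail _ (List.Mem.tail _ (List.Mem.tail _ (List.Mem.tail _ (List.Mem.tail _ (List.Mem.tail _ (List.Mem.tail _ (List.Mem.tail _ (List.Mem.tail _ (List.Mem.tail _ (List.Mem.tail _ (List.Mem.tail _ (List.Mem.tail _ (List.Mem.tail _ (List.Mem.tail _ (List.Mem.tail _ (List.Mem.tail _ (List.Mem.tail _ (List.Mem.tail _ (List.Mem.tail _ (List.Mem.tail _ (List.Mem.tail _ (List.Mem.tail _ (List.Mem.tail _ (List.Mem.tail _ (List.Mem.tail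 _ (List.Mem.tail _ (List.Mem.tail _ (List.Mem.head _)))))))))))))))))))))))))))))))))))))))).2

theorem lift_cox_ig (σ : ℕ → K) (hσ : ∀ s, σ s * σ s = 1)
    (hw : ∀ w ∈ words, (w.map σ).prod = 1) :
    FreeGroup.lift (fun x => σ (idx x)) ((FreeGroup.of (Fi23.Gen.i) * FreeGroup.of (Fi23.Gen.g)) ^ coxLabel Fi23.edges .i .g) = 1 := by
  rw [label_ig]
  simpa only [map_pow, map_mul, FreeGroup.lift_apply_of, idx] using
    (cox_case σ hσ hw 6 9 2 (List.Mem.tail _ (List.Mem.tail _ (List.Mem.tail _ (List.Mem.tail _ (List.Mem.tail _ (List.Mem.tail _ (List.Mem.tail _ (List.Mem.tail _ (List.Mem.tail _ (List.Mem.tail _ (List.Mem.tail _ (List.Mem.tail _ (List.Mem.tail _ (List.Mem.tail _ (List.Mem.tail _ (List.Mem.tail _ (List.Mem.tail _ (List.Mem.tail _ (List.Mem.tail _ (List.Mem.tail _ (List.Mem.tail _ (List.Mem.tail _ (List.Mem.tail _ (List.Mem.tail _ (List.Mem.tail _ (List.Mem.tail _ (List.Mem.tail _ (List.Mem.tail _ (List.Mem.tail _ (List.Mem.tail _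 (List.Mem.tail _ (List.Mem.tail _ (List.Mem.tail _ (List.Mem.tail _ (List.Mem.tail _ (List.Mem.tail _ (List.Mem.tail _ (List.Mem.tail _ (List.Mem.tail _ (List.Mem.tail _ (List.Mem.tail _ (List.Mem.head _))))))))))))))))))))))))))))))))))))))))))).2

theorem lift_cox_ij (σ : ℕ → K) (hσ : ∀ s, σ s * σ s = 1)
    (hw : ∀ w ∈ words, (w.map σ).prod = 1) :
    FreeGroup.lift (fun x => σ (idx x)) ((FreeGroup.of (Fi23.Gen.i) * FreeGroup.of (Fi23.Gen.j)) ^ coxLabel Fi23.edges .i .j) = 1 := by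
  rw [label_ij]
  simpa only [map_pow, map_mul, FreeGroup.lift_apply_of, idx] using
    (cox_case σ hσ hw 7 9 2 (List.Mem.tail _ (List.Mem.tail _ (List.Mem.tail _ (List.Mem.tail _ (List.Mem.tail _ (List.Mem.tail _ (List.Mem.tail _ (List.Mem.tail _ (List.Mem.tail _ (List.Mem.tail _ (List.Mem.tail _ (List.Mem.tail _ (List.Mem.tail _ (List.Mem.tail _ (List.Mem.tail _ (List.Mem.tail _ (List.Mem.tail _ (List.Mem.tail _ (List.Mem.tail _ (List.Mem.tail _ (List.Mem.tail _ (List.Mem.tail _ (List.Mem.tail _ (List.Mem.tail _ (List.Mem.tail _ (List.Mem.tail _ (List.Mem.tail _ (List.Mem.tail _ (List.Mem.tail _ (List.Mem.tail _ (List.Mem.tail _ (List.Mem.tail _ (List.Mem.tail _ (List.Mem.tail _ (List.Mem.tail _ (List.Mem.tail _ (List.Mem.tail _ (List.Mem.tail _ (List.Mem.tail _ (List.Mem.tail _ (List.Mem.tail _ (List.Mem.tail _ (List.Mem.tail _ (List.Mem.head _))))))))))))))))))))))))))))))))))))))))))))).2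

theorem lift_cox_ih (σ : ℕ → K) (hσ : ∀ s, σ s * σ s = 1)
    (hw : ∀ w ∈ words, (w.map σ).prod = 1) :
    FreeGroup.lift (fun x => σ (idx x)) ((FreeGroup.of (Fi23.Gen.i) * FreeGroup.of (Fi23.Gen.h)) ^ coxLabel Fi23.edges .i .h) = 1 := by
  rw [label_ih]
  simpa only [map_pow, map_mul, FreeGroup.lift_apply_of, idx] using
    (cox_case σ hσ hw 8 9 3 (List.Mem.tail _ (List.Mem.tail _ (List.Mem.tail _ (List.Mem.tail _ (List.Mem.tail _ (List.Mem.tail _ (List.Mem.tail _ (List.Mem.tail _ (List.Mem.tail _ (List.Mem.tail _ (List.Mem.tail _ (List.Mem.tail _ (List.Mem.tail _ (List.Mem.tail _ (List.Mem.tail _ (List.Mem.tail _ (List.Mem.tail _ (List.Mem.tail _ (List.Mem.tail _ (List.Mem.tail _ (List.Mem.tail _ (List.Mem.tail _ (List.Mem.tail _ (List.Mem.tail _ (List.Mem.tail _ (List.Mem.tail _ (List.Mem.tail _ (List.Mem.tail _ (List.Mem.tail _ (List.Mem.tail _ (List.Mem.tail _ (List.Mem.tail _ (List.Mem.tail _ (List.Mem.tail _ (List.Mem.tail _ (List.Mem.tail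 _ (List.Mem.tail _ (List.Mem.tail _ (List.Mem.tail _ (List.Mem.tail _ (List.Mem.tail _ (List.Mem.tail _ (List.Mem.tail _ (List.Mem.tail _ (List.Mem.head _)))))))))))))))))))))))))))))))))))))))))))))).2

theorem lift_cox_ii (σ : ℕ → K) (hσ : ∀ s, σ s * σ s = 1)
    (hw : ∀ w ∈ words, (w.map σ).prod = 1) :
    FreeGroup.lift (fun x => σ (idx x)) ((FreeGroup.of (Fi23.Gen.i) * FreeGroup.of (Fi23.Gen.i)) ^ coxLabel Fi23.edges .i .i) = 1 := by
  simpa [coxLabel, idx] using hσ 9

theorem lift_one (σ : ℕ → K) (hσ : ∀ s, σ s * σ s = 1)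
    (hw : ∀ w ∈ words, (w.map σ).prod = 1) :
    ∀ r ∈ rels, FreeGroup.lift (fun x => σ (idx x)) r = 1 := by
  rintro r (⟨x, -, y, -, rfl⟩ | hr)
  · cases x <;> cases y
    · exact lift_cox_aa σ hσ hw
    · exact lift_cox_ab σ hσ hw
    · exact lift_cox_ac σ hσ hw
    · exact lift_cox_ad σ hσ hw
    · exact lift_cox_ae σ hσ hw
    · exact lift_cox_af σ hσ hw
    · exact lift_cox_ag σ hσ hw
    · exact lift_cox_aj σ hσ hw
    · exact lift_cox_ah σ hσ hw
    · exact lift_cox_ai σ hσ hw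
    · exact lift_cox_ba σ hσ hw
    · exact lift_cox_bb σ hσ hw
    · exact lift_cox_bc σ hσ hw
    · exact lift_cox_bd σ hσ hw
    · exact lift_cox_be σ hσ hw
    · exact lift_cox_bf σ hσ hw
    · exact lift_cox_bg σ hσ hw
    · exact lift_cox_bj σ hσ hw
    · exact lift_cox_bh σ hσ hw
    · exact lift_cox_bi σ hσ hw
    · exact lift_cox_ca σ hσ hw
    · exact lift_cox_cb σ hσ hw
    · exact lift_cox_cc σ hσ hw
    · exact lift_cox_cd σ hσ hw
    · exact lift_cox_ce σ hσ hw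
    · exact lift_cox_cf σ hσ hw
    · exact lift_cox_cg σ hσ hw
    · exact lift_cox_cj σ hσ hw
    · exact lift_cox_ch σ hσ hw
    · exact lift_cox_ci σ hσ hw
    · exact lift_cox_da σ hσ hw
    · exact lift_cox_db σ hσ hw
    · exact lift_cox_dc σ hσ hw
    · exact lift_cox_dd σ hσ hw
    · exact lift_cox_de σ hσ hw
    · exact lift_cox_df σ hσ hw
    · exact lift_cox_dg σ hσ hw
    · exact lift_cox_dj σ hσ hw
    · exact lift_cox_dh σ hσ hw
    · exact lift_cox_di σ hσ hw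
    · exact lift_cox_ea σ hσ hw
    · exact lift_cox_eb σ hσ hw
    · exact lift_cox_ec σ hσ hw
    · exact lift_cox_ed σ hσ hw
    · exact lift_cox_ee σ hσ hw
    · exact lift_cox_ef σ hσ hw
    · exact lift_cox_eg σ hσ hw
    · exact lift_cox_ej σ hσ hw
    · exact lift_cox_eh σ hσ hw
    · exact lift_cox_ei σ hσ hw
    · exact lift_cox_fa σ hσ hw
    · exact lift_cox_fb σ hσ hw
    · exact lift_cox_fc σ hσ hw
    · exact lift_cox_fd σ hσ hw
    · exact lift_cox_fe σ hσ hw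
    · exact lift_cox_ff σ hσ hw
    · exact lift_cox_fg σ hσ hw
    · exact lift_cox_fj σ hσ hw
    · exact lift_cox_fh σ hσ hw
    · exact lift_cox_fi σ hσ hw
    · exact lift_cox_ga σ hσ hw
    · exact lift_cox_gb σ hσ hw
    · exact lift_cox_gc σ hσ hw
    · exact lift_cox_gd σ hσ hw
    · exact lift_cox_ge σ hσ hw
    · exact lift_cox_gf σ hσ hw
    · exact lift_cox_gg σ hσ hw
    · exact lift_cox_gj σ hσ hw
    · exact lift_cox_gh σ hσ hw
    · exact lift_cox_gi σ hσ hw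
    · exact lift_cox_ja σ hσ hw
    · exact lift_cox_jb σ hσ hw
    · exact lift_cox_jc σ hσ hw
    · exact lift_cox_jd σ hσ hw
    · exact lift_cox_je σ hσ hw
    · exact lift_cox_jf σ hσ hw
    · exact lift_cox_jg σ hσ hw
    · exact lift_cox_jj σ hσ hw
    · exact lift_cox_jh σ hσ hw
    · exact lift_cox_ji σ hσ hw
    · exact lift_cox_ha σ hσ hw
    · exact lift_cox_hb σ hσ hw
    · exact lift_cox_hc σ hσ hw
    · exact lift_cox_hd σ hσ hw
    · exact lift_cox_he σ hσ hw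
    · exact lift_cox_hf σ hσ hw
    · exact lift_cox_hg σ hσ hw
    · exact lift_cox_hj σ hσ hw
    · exact lift_cox_hh σ hσ hw
    · exact lift_cox_hi σ hσ hw
    · exact lift_cox_ia σ hσ hw
    · exact lift_cox_ib σ hσ hw
    · exact lift_cox_ic σ hσ hw
    · exact lift_cox_id σ hσ hw
    · exact lift_cox_ie σ hσ hw
    · exact lift_cox_if σ hσ hw
    · exact lift_cox_ig σ hσ hw
    · exact lift_cox_ij σ hσ hw
    · exact lift_cox_ih σ hσ hw
    · exact lift_cox_ii σ hσ hw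
  · rw [Set.mem_setOf_eq] at hr
    simp only [Fi23.extra, List.mem_cons, List.not_mem_nil, or_false] at hr
    rcases hr with rfl | rfl
    · have h := hw _ (show (List.replicate 10 [3, 2, 1, 3, 4, 5, 3, 8, 9]).flatten ∈ words from List.Mem.tail _ (List.Mem.tail _ (List.Mem.tail _ (List.Mem.tail _ (List.Mem.tail _ (List.Mem.tail _ (List.Mem.tail _ (List.Mem.tail _ (List.Mem.tail _ (List.Mem.tail _ (List.Mem.tail _ (List.Mem.tail _ (List.Mem.tail _ (List.Mem.tail _ (List.Mem.tail _ (List.Mem.tail _ (List.Mem.tail _ (List.Mem.tail _ (List.Mem.tail _ (List.Mem.tail _ (List.Mem.tail _ (List.Mem.tail _ (List.Mem.tail _ (List.Mem.tail _ (List.Mem.tail _ (List.Mem.tail _ (List.Mem.tail _ (List.Mem.tail _ (List.Mem.tail _ (List.Mem.tail _ (List.Mem.tail _ (List.Mem.tail _ (List.Mem.tail _ (List.Mem.tail _ (List.Mem.tail _ (List.Mem.tail _ (List.Mem.tail _ (List.Mem.tail _ (List.Mem.tail _ (List.Mem.tail _ (List.Mem.tail _ (List.Mem.tail _ (List.Mem.tail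 _ (List.Mem.tail _ (List.Mem.tail _ (List.Mem.head _))))))))))))))))))))))))))))))))))))))))))))))
      rw [rep_word] at h
      simp only [List.map_cons, List.map_nil, List.prod_cons, List.prod_nil, mul_one] at h
      simp only [map_mul, map_pow, FreeGroup.lift_apply_of, idx, mul_assoc] at h ⊢
      exact h
    · have h := hw _ (show (List.replicate 9 [0, 1, 2, 3, 4, 5, 8]).flatten ∈ words from List.Mem.tail _ (List.Mem.tail _ (List.Mem.tail _ (List.Mem.tail _ (List.Mem.tail _ (List.Mem.tail _ (List.Mem.tail _ (List.Mem.tail _ (List.Mem.tail _ (List.Mem.tail _ (List.Mem.tail _ (List.Mem.tail _ (List.Mem.tail _ (List.Mem.tail _ (List.Mem.tail _ (List.Mem.tail _ (List.Mem.tail _ (List.Mem.tail _ (List.Mem.tail _ (List.Mem.tail _ (List.Mem.tail _ (List.Mem.tail _ (List.Mem.tail _ (List.Mem.tail _ (List.Mem.tail _ (List.Mem.tail _ (List.Mem.tail _ (List.Mem.tail _ (List.Mem.tail _ (List.Mem.tail _ (List.Mem.tail _ (List.Mem.tail _ (List.Mem.tail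 _ (List.Mem.tail _ (List.Mem.tail _ (List.Mem.tail _ (List.Mem.tail _ (List.Mem.tail _ (List.Mem.tail _ (List.Mem.tail _ (List.Mem.tail _ (List.Mem.tail _ (List.Mem.tail _ (List.Mem.tail _ (List.Mem.tail _ (List.Mem.tail _ (List.Mem.head _)))))))))))))))))))))))))))))))))))))))))))))))
      rw [rep_word] at h
      simp only [List.map_cons, List.map_nil, List.prod_cons, List.prod_nil, mul_one] at h
      simp only [map_mul, map_pow, FreeGroup.lift_apply_of, idx, mul_assoc] at h ⊢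
      exact h

end

/-- the generators of the presented group are involutions -/
theorem of_invol (x : Fi23.Gen) :
    (PresentedGroup.of x : PresentedGroup rels) * PresentedGroup.of x = 1 :=
  invol (fun x => (PresentedGroup.of x : PresentedGroup rels))
    (fun r hr => by rw [lift_of_eq_mk]; exact PresentedGroup.one_of_mem hr) x

/-- the relator words hold in the presented group -/
theorem of_words : ∀ w ∈ words,
    (w.map (fun s => (PresentedGroup.of (gen s) : PresentedGroup rels))).prod = 1 :=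
  words_one (fun x => (PresentedGroup.of x : PresentedGroup rels))
    (fun r hr => by rw [lift_of_eq_mk]; exact PresentedGroup.one_of_mem hr)

end Cfsg.Agent.Lib.Helper39.Fi23P
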