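import Cfsg.Agent.Lib.Helper39.H1Core

set_option autoImplicit false

/-!
# Certificate data for S5405, dimension 4 (generated)
-/

namespace Cfsg.Agent.Lib.Helper39.H1

/-- The table of the linear forms `B(u, ·)` in dimension 4. -/
def ST4 : ℕ := 18297128461571469600

/-- The fast reflection in dimension 4. -/
def Tm4 (u x : ℕ) : ℕ := Tg ST4 4 15 u x

set_option maxRecDepth 1000000 in
theorem hT4 : chkT qf4 Tm4 4 = true := by decide +kernel

/-- The steps of the certificate in dimension 4. -/
def S4 : List (List (ℕ × ℕ) × List (List (List (ℕ × ℕ) × Bool × Bool))) :=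
  [([(3, 4), (5, 8)], []),
   ([(3, 4)], [[([(3, 4)], true, true), ([(3, 4), (5, 8)], true, false), ([(3, 4)], false, true), ([(3, 4)], false, true), ([(3, 4)], true, true), ([(3, 4), (5, 8)], true, false), ([(3, 4)], false, true), ([(3, 4)], false, true), ([(3, 4)], true, true), ([(3, 4), (5, 8)], true, false), ([(3, 4)], false, true), ([(3, 4)], false, true)], [([(3, 4)], true, true), ([(3, 4)], false, true), ([(3, 4)], true, true), ([(3, 4), (5, 8)], false, false), ([(3, 4)], false, true), ([(3, 4)], false, true), ([(3, 4)], true, true), ([(3, 4)], false, true), ([(3, 4)], true, true), ([(3, 4), (5, 8)], false, false), ([(3, 4)], false, true), ([(3, 4)], false, true), ([(3, 4)], true, true), ([(3, 4)], false, true), ([(3, 4)], true, true), ([(3, 4), (5, 8)], false, false), ([(3, 4)], false, true), ([(3, 4)], false, true)]]),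
   ([(3, 5)], [[([(3, 4), (5, 8)], true, false), ([(3, 5)], true, true), ([(3, 4), (5, 8)], false, false), ([(3, 5)], true, true), ([(3, 4), (5, 8)], true, false), ([(3, 4), (5, 8)], true, false), ([(3, 4), (5, 8)], true, false), ([(3, 5)], true, true), ([(3, 4), (5, 8)], false, false), ([(3, 5)], true, true), ([(3, 4), (5, 8)], true, false), ([(3, 4), (5, 8)], true, false), ([(3, 4), (5, 8)], true, false), ([(3, 5)], true, true), ([(3, 4), (5, 8)], false, false), ([(3, 5)], true, true), ([(3, 4), (5, 8)], true, false), ([(3, 4), (5, 8)], true, false)], [([(3, 4), (5, 8)], false, false), ([(3, 4), (5, 8)], true, false), ([(3, 4), (5, 8)], true, false), ([(3, 5)], false, true), ([(3, 4), (5, 8)], false, false), ([(3, 4), (5, 8)], true, false), ([(3, 4), (5, 8)], true, false), ([(3, 5)], false, true), ([(3, 4), (5, 8)], false, false), ([(3, 4), (5, 8)], true, false), ([(3, 4), (5, 8)], true, false), ([(3, 5)], false, true)]]),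
   ([(3, 6)], [[([(3, 4), (5, 8)], false, false), ([(3, 6)], true, true), ([(3, 6)], true, true), ([(3, 4), (5, 8)], false, false), ([(3, 6)], true, true), ([(3, 6)], true, true), ([(3, 4), (5, 8)], false, false), ([(3, 6)], true, true), ([(3, 6)], true, true)], [([(3, 4), (5, 8)], false, false), ([(3, 6)], true, true), ([(3, 4), (5, 8)], true, false), ([(3, 4), (5, 8)], false, false), ([(3, 4), (5, 8)], true, false), ([(3, 4), (5, 8)], false, false), ([(3, 6)], true, true), ([(3, 4), (5, 8)], true, false), ([(3, 4), (5, 8)], false, false), ([(3, 4), (5, 8)], true, false), ([(3, 4), (5, 8)], false, false), ([(3, 6)], true, true), ([(3, 4), (5, 8)], true, false), ([(3, 4), (5, 8)], false, false), ([(3, 4), (5, 8)], true, false)]]),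
   ([(3, 8)], [[([(3, 4), (5, 8)], true, false), ([(3, 8)], true, true), ([(3, 8)], true, true), ([(3, 8)], false, true), ([(3, 4), (5, 8)], true, false), ([(3, 8)], true, true), ([(3, 8)], true, true), ([(3, 8)], false, true)], [([(3, 8)], true, true), ([(3, 8)], true, true), ([(3, 8)], true, true), ([(3, 8)], true, true), ([(3, 8)], true, true), ([(3, 8)], true, true)]]),
   ([(3, 9)], [[([(3, 4), (5, 8)], false, false), ([(3, 9)], true, true), ([(3, 9)], false, true), ([(3, 4), (5, 8)], false, false), ([(3, 9)], false, true), ([(3, 4), (5, 8)], false, false), ([(3, 4), (5, 8)], false, false), ([(3, 9)], true, true), ([(3, 9)], false, true), ([(3, 4), (5, 8)], false, false), ([(3, 9)], false, true), ([(3, 4), (5, 8)], false, false), ([(3, 4), (5, 8)], false, false), ([(3, 9)], true, true), ([(3, 9)], false, true), ([(3, 4), (5, 8)], false, false), ([(3, 9)], false, true), ([(3, 4), (5, 8)], false, false)], [([(3, 4), (5, 8)], false, false), ([(3, 9)], true, true), ([(3, 4), (5, 8)], false, false), ([(3, 9)], true, true), ([(3, 4), (5, 8)], false, false), ([(3, 9)], true,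 true), ([(3, 4), (5, 8)], false, false), ([(3, 9)], true, true), ([(3, 4), (5, 8)], false, false), ([(3, 9)], true, true), ([(3, 4), (5, 8)], false, false), ([(3, 9)], true, true)]]),
   ([(3, 10)], [[([(3, 10)], true, true), ([(3, 4), (5, 8)], false, false), ([(3, 10)], true, true), ([(3, 4), (5, 8)], true, false), ([(3, 10)], false, true), ([(3, 10)], true, true), ([(3, 4), (5, 8)], false, false), ([(3, 10)], true, true), ([(3, 4), (5, 8)], true, false), ([(3, 10)], false, true), ([(3, 10)], true, true), ([(3, 4), (5, 8)], false, false), ([(3, 10)], true, true), ([(3, 4), (5, 8)], true, false), ([(3, 10)], false, true)], [([(3, 10)], true, true), ([(3, 4), (5, 8)], true, false), ([(3, 10)], true, true), ([(3, 4), (5, 8)], true, false)]]),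
   ([(3, 12)], [[([(3, 4), (5, 8)], true, false), ([(3, 4), (5, 8)], false, false), ([(3, 12)], true, true), ([(3, 4), (5, 8)], true, false), ([(3, 4), (5, 8)], false, false), ([(3, 12)], true, true)], [([(3, 12)], true, true), ([(3, 12)], false, true), ([(3, 12)], false, true), ([(3, 12)], false, true), ([(3, 12)], true, true), ([(3, 4), (5, 8)], true, false), ([(3, 12)], true, true), ([(3, 12)], false, true), ([(3, 12)], false, true), ([(3, 12)], false, true), ([(3, 12)], true, true), ([(3, 4), (5, 8)], true, false), ([(3, 12)], true, true), ([(3, 12)], false, true), ([(3, 12)], false, true), ([(3, 12)], false, true), ([(3, 12)], true, true), ([(3, 4), (5, 8)], true, false)]]),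
   ([(3, 13)], [[([(3, 4), (5, 8)], true, false), ([(3, 13)], true, true), ([(3, 13)], true, true), ([(3, 13)], false, true), ([(3, 4), (5, 8)], true, false), ([(3, 4), (5, 8)], true, false), ([(3, 13)], true, true), ([(3, 13)], true, true), ([(3, 13)], false, true), ([(3, 4), (5, 8)], true, false)], [([(3, 13)], false, true), ([(3, 13)], true, true), ([(3, 13)], true, true), ([(3, 13)], false, true), ([(3, 13)], true, true), ([(3, 13)], true, true), ([(3, 13)], false, true), ([(3, 13)], true, true), ([(3, 13)], true, true)]]),
   ([(3, 14)], [[([(3, 4), (5, 8)], true, false), ([(3, 4), (5, 8)], true, false), ([(3, 14)], true, true), ([(3, 4), (5, 8)], false, false), ([(3, 4), (5, 8)], true, false), ([(3, 4), (5, 8)], true, false), ([(3, 14)], true, true), ([(3, 4), (5, 8)], false, false), ([(3, 4), (5, 8)], true, false), ([(3, 4), (5, 8)], true, false), ([(3, 14)], true, true), ([(3, 4), (5, 8)], false, false)], [([(3, 4), (5, 8)], false, false), ([(3, 14)], false, true), ([(3, 14)], true, true), ([(3, 4), (5, 8)], true, false), ([(3, 14)], false, true), ([(3, 4), (5,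 8)], false, false), ([(3, 14)], false, true), ([(3, 14)], true, true), ([(3, 4), (5, 8)], true, false), ([(3, 14)], false, true), ([(3, 4), (5, 8)], false, false), ([(3, 14)], false, true), ([(3, 14)], true, true), ([(3, 4), (5, 8)], true, false), ([(3, 14)], false, true)]])]

set_option maxRecDepth 1000000 in
theorem chk4 : chk qf4 Tm4 4 3 S4 = true := by decide +kernel

end Cfsg.Agent.Lib.Helper39.H1
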