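import Cfsg.Agent.Lib.Helper39.H1Core

set_option autoImplicit false

/-!
# Certificate data for S5405, dimension 6 (generated)
-/

namespace Cfsg.Agent.Lib.Helper39.H1

/-- The table of the linear forms `B(u, ·)` in dimension 6. -/
def ST6 : ℕ := 39362296998759632925898340646177069405738473869309038280685485614802294660748316366016817545564171460525694253039872

/-- The fast reflection in dimension 6. -/
def Tm6 (u x : ℕ) : ℕ := Tg ST6 6 63 u x

set_option maxRecDepth 1000000 in
theorem hT6 : chkT qf6 Tm6 6 = true := by decide +kernel

/-- The steps of the certificate in dimension 6. -/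
def S6 : List (List (ℕ × ℕ) × List (List (List (ℕ × ℕ) × Bool × Bool))) :=
  [([(5, 11), (7, 10), (16, 32)], []),
   ([(5, 11)], [[([(5, 11)], false, true), ([(5, 11), (7, 10), (16, 32)], false, false), ([(5, 11)], true, true), ([(5, 11), (7, 10), (16, 32)], true, false)]]),
   ([(7, 10)], [[([(7, 10)], false, true), ([(5, 11), (7, 10), (16, 32)], false, false), ([(7, 10)], true, true), ([(5, 11), (7, 10), (16, 32)], true, false)]]),
   ([(16, 32)], [[([(16, 32)], false, true), ([(5, 11), (7, 10), (16, 32)], false, false), ([(16, 32)], true, true), ([(5, 11), (7, 10), (16, 32)], true, false)]]),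
   ([(17, 35)], [[([(17, 35)], false, true), ([(5, 11), (7, 10), (16, 32)], false, false), ([(17, 35)], true, true), ([(5, 11), (7, 10), (16, 32)], true, false)]]),
   ([(18, 33)], [[([(18, 33)], false, true), ([(5, 11), (7, 10), (16, 32)], false, false), ([(18, 33)], true, true), ([(5, 11), (7, 10), (16, 32)], true, false)]]),
   ([(19, 34)], [[([(19, 34)], false, true), ([(5, 11), (7, 10), (16, 32)], false, false), ([(19, 34)], true, true), ([(5, 11), (7, 10), (16, 32)], true, false)]]),
   ([(20, 40)], [[([(20, 40)], false, true), ([(5, 11), (7, 10), (16, 32)], false, false), ([(20, 40)], true, true), ([(5, 11), (7, 10), (16, 32)], true, false)]]),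
   ([(22, 41)], [[([(22, 41)], false, true), ([(5, 11), (7, 10), (16, 32)], false, false), ([(22, 41)], true, true), ([(5, 11), (7, 10), (16, 32)], true, false)]]),
   ([(24, 44)], [[([(24, 44)], false, true), ([(5, 11), (7, 10), (16, 32)], false, false), ([(24, 44)], true, true), ([(5, 11), (7, 10), (16, 32)], true, false)]]),
   ([(25, 47)], [[([(25, 47)], false, true), ([(5, 11), (7, 10), (16, 32)], false, false), ([(25, 47)], true, true), ([(5, 11), (7, 10), (16, 32)], true, false)]]),
   ([(28, 36)], [[([(28, 36)], false, true), ([(5, 11), (7, 10), (16, 32)], false, false), ([(28, 36)], true, true), ([(5, 11), (7, 10), (16, 32)], true, false)]]),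
   ([(31, 38)], [[([(31, 38)], false, true), ([(5, 11), (7, 10), (16, 32)], false, false), ([(31, 38)], true, true), ([(5, 11), (7, 10), (16, 32)], true, false)]]),
   ([(5, 14)], [[([(5, 14)], false, true), ([(5, 11), (7, 10), (16, 32)], false, false), ([(5, 14)], true, true), ([(5, 11), (7, 10), (16, 32)], true, false)]]),
   ([(5, 17)], [[([(5, 17)], false, true), ([(5, 11), (7, 10), (16, 32)], false, false), ([(31, 38)], false, false), ([(5, 17)], true, true), ([(31, 38)], true, false), ([(5, 11), (7, 10), (16, 32)], true, false)]]),
   ([(5, 19)], [[([(5, 19)], false, true), ([(5, 11), (7, 10), (16, 32)], false, false), ([(24, 44)], false, false), ([(5, 19)], true, true), ([(24, 44)], true, false), ([(5, 11), (7, 10), (16, 32)], true, false)]]),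
   ([(5, 20)], [[([(5, 20)], false, true), ([(5, 11), (7, 10), (16, 32)], false, false), ([(31, 38)], false, false), ([(5, 20)], true, true), ([(31, 38)], true, false), ([(5, 11), (7, 10), (16, 32)], true, false)]]),
   ([(5, 22)], [[([(5, 22)], false, true), ([(5, 11), (7, 10), (16, 32)], false, false), ([(24, 44)], false, false), ([(5, 22)], true, true), ([(24, 44)], true, false), ([(5, 11), (7, 10), (16, 32)], true, false)]]),
   ([(5, 25)], [[([(5, 25)], false, true), ([(5, 11), (7, 10), (16, 32)], false, false), ([(18, 33)], false, false), ([(5, 25)], true, true), ([(18, 33)], true, false), ([(5, 11), (7, 10), (16, 32)], true, false)]]),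
   ([(5, 28)], [[([(5, 28)], false, true), ([(5, 11), (7, 10), (16, 32)], false, false), ([(18, 33)], false, false), ([(5, 28)], true, true), ([(18, 33)], true, false), ([(5, 11), (7, 10), (16, 32)], true, false)]]),
   ([(5, 33)], [[([(5, 33)], false, true), ([(5, 11), (7, 10), (16, 32)], false, false), ([(25, 47)], false, false), ([(5, 33)], true, true), ([(25, 47)], true, false), ([(5, 11), (7, 10), (16, 32)], true, false)]]),
   ([(5, 35)], [[([(5, 35)], false, true), ([(5, 11), (7, 10), (16, 32)], false, false), ([(20, 40)], false, false), ([(5, 35)], true, true), ([(20, 40)], true, false), ([(5, 11), (7, 10), (16, 32)], true, false)]]),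
   ([(5, 36)], [[([(5, 36)], false, true), ([(5, 11), (7, 10), (16, 32)], false, false), ([(25, 47)], false, false), ([(5, 36)], true, true), ([(25, 47)], true, false), ([(5, 11), (7, 10), (16, 32)], true, false)]]),
   ([(5, 38)], [[([(5, 38)], false, true), ([(5, 11), (7, 10), (16, 32)], false, false), ([(20, 40)], false, false), ([(5, 38)], true, true), ([(20, 40)], true, false), ([(5, 11), (7, 10), (16, 32)], true, false)]]),
   ([(5, 41)], [[([(5, 41)], false, true), ([(5, 11), (7, 10), (16, 32)], false, false), ([(19, 34)], false, false), ([(5, 41)], true, true), ([(19, 34)], true, false), ([(5, 11), (7, 10), (16, 32)], true, false)]]),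
   ([(5, 44)], [[([(5, 44)], false, true), ([(5, 11), (7, 10), (16, 32)], false, false), ([(19, 34)], false, false), ([(5, 44)], true, true), ([(19, 34)], true, false), ([(5, 11), (7, 10), (16, 32)], true, false)]]),
   ([(5, 49)], [[([(5, 49)], false, true), ([(5, 11), (7, 10), (16, 32)], false, false), ([(22, 41)], false, false), ([(5, 49)], true, true), ([(22, 41)], true, false), ([(5, 11), (7, 10), (16, 32)], true, false)]]),
   ([(5, 51)], [[([(5, 51)], false, true), ([(5, 11), (7, 10), (16, 32)], false, false), ([(28, 36)], false, false), ([(5, 51)], true, true), ([(28, 36)], true, false), ([(5, 11), (7, 10), (16, 32)], true, false)]]),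
   ([(5, 52)], [[([(5, 52)], false, true), ([(5, 11), (7, 10), (16, 32)], false, false), ([(22, 41)], false, false), ([(5, 52)], true, true), ([(22, 41)], true, false), ([(5, 11), (7, 10), (16, 32)], true, false)]]),
   ([(5, 54)], [[([(5, 54)], false, true), ([(5, 11), (7, 10), (16, 32)], false, false), ([(28, 36)], false, false), ([(5, 54)], true, true), ([(28, 36)], true, false), ([(5, 11), (7, 10), (16, 32)], true, false)]]),
   ([(5, 57)], [[([(5, 57)], false, true), ([(5, 11), (7, 10), (16, 32)], false, false), ([(17, 35)], false, false), ([(5, 57)], true, true), ([(17, 35)], true, false), ([(5, 11), (7, 10), (16, 32)], true, false)]]),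
   ([(5, 60)], [[([(5, 60)], false, true), ([(5, 11), (7, 10), (16, 32)], false, false), ([(17, 35)], false, false), ([(5, 60)], true, true), ([(17, 35)], true, false), ([(5, 11), (7, 10), (16, 32)], true, false)]]),
   ([(17, 7)], [[([(17, 7)], false, true), ([(5, 11), (7, 10), (16, 32)], false, false), ([(28, 36)], false, false), ([(17, 7)], true, true), ([(28, 36)], true, false), ([(5, 11), (7, 10), (16, 32)], true, false)]]),
   ([(5, 7)], [[([(5, 7)], false, true), ([(17, 7)], true, false), ([(5, 17)], true, false)]]),
   ([(19, 10)], [[([(19, 10)], false, true), ([(5, 11), (7, 10), (16, 32)], false, false), ([(20, 40)], false, false), ([(19, 10)], true, true), ([(20, 40)], true, false), ([(5, 11), (7, 10), (16, 32)], true, false)]]),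
   ([(5, 10)], [[([(5, 10)], false, true), ([(19, 10)], true, false), ([(5, 19)], true, false)]]),
   ([(17, 13)], [[([(17, 13)], false, true), ([(5, 11), (7, 10), (16, 32)], false, false), ([(22, 41)], false, false), ([(17, 13)], true, true), ([(22, 41)], true, false), ([(5, 11), (7, 10), (16, 32)], true, false)]]),
   ([(5, 13)], [[([(5, 13)], false, true), ([(17, 13)], true, false), ([(5, 17)], true, false)]]),
   ([(33, 16)], [[([(33, 16)], false, true), ([(5, 11), (7, 10), (16, 32)], false, false), ([(17, 35)], false, false), ([(33, 16)], true, true), ([(17, 35)], true, false), ([(5, 11), (7, 10), (16, 32)], true, false)]]),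
   ([(5, 16)], [[([(5, 16)], false, true), ([(33, 16)], true, false), ([(5, 33)], true, false)]]),
   ([(11, 18)], [[([(11, 18)], false, true), ([(5, 11), (7, 10), (16, 32)], false, false), ([(28, 36)], false, false), ([(11, 18)], true, true), ([(28, 36)], true, false), ([(5, 11), (7, 10), (16, 32)], true, false)]]),
   ([(5, 18)], [[([(5, 18)], false, true), ([(11, 18)], true, false), ([(5, 11)], true, false)]]),
   ([(11, 24)], [[([(11, 24)], false, true), ([(5, 11), (7, 10), (16, 32)], false, false), ([(22, 41)], false, false), ([(11, 24)], true, true), ([(22, 41)], true, false), ([(5, 11), (7, 10), (16, 32)], true, false)]]),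
   ([(5, 24)], [[([(5, 24)], false, true), ([(11, 24)], true, false), ([(5, 11)], true, false)]]),
   ([(11, 31)], [[([(11, 31)], false, true), ([(5, 11), (7, 10), (16, 32)], false, false), ([(17, 35)], false, false), ([(11, 31)], true, true), ([(17, 35)], true, false), ([(5, 11), (7, 10), (16, 32)], true, false)]]),
   ([(5, 31)], [[([(5, 31)], false, true), ([(11, 31)], true, false), ([(5, 11)], true, false)]]),
   ([(17, 32)], [[([(17, 32)], false, true), ([(5, 11), (7, 10), (16, 32)], false, false), ([(18, 33)], false, false), ([(17, 32)], true, true), ([(18, 33)], true, false), ([(5, 11), (7, 10), (16, 32)], true, false)]]),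
   ([(5, 32)], [[([(5, 32)], false, true), ([(17, 32)], true, false), ([(5, 17)], true, false)]]),
   ([(11, 34)], [[([(11, 34)], false, true), ([(5, 11), (7, 10), (16, 32)], false, false), ([(24, 44)], false, false), ([(11, 34)], true, true), ([(24, 44)], true, false), ([(5, 11), (7, 10), (16, 32)], true, false)]]),
   ([(5, 34)], [[([(5, 34)], false, true), ([(11, 34)], true, false), ([(5, 11)], true, false)]]),
   ([(11, 40)], [[([(11, 40)], false, true), ([(5, 11), (7, 10), (16, 32)], false, false), ([(31, 38)], false, false), ([(11, 40)], true, true), ([(31, 38)], true, false), ([(5, 11), (7, 10), (16, 32)], true, false)]]),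
   ([(5, 40)], [[([(5, 40)], false, true), ([(11, 40)], true, false), ([(5, 11)], true, false)]]),
   ([(11, 47)], [[([(11, 47)], false, true), ([(5, 11), (7, 10), (16, 32)], false, false), ([(18, 33)], false, false), ([(11, 47)], true, true), ([(18, 33)], true, false), ([(5, 11), (7, 10), (16, 32)], true, false)]]),
   ([(5, 47)], [[([(5, 47)], false, true), ([(11, 47)], true, false), ([(5, 11)], true, false)]]),
   ([(17, 48)], [[([(17, 48)], false, true), ([(5, 11), (7, 10), (16, 32)], false, false), ([(19, 34)], false, false), ([(17, 48)], true, true), ([(19, 34)], true, false), ([(5, 11), (7, 10), (16, 32)], true, false)]]),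
   ([(5, 48)], [[([(5, 48)], false, true), ([(17, 48)], true, false), ([(5, 17)], true, false)]]),
   ([(11, 50)], [[([(11, 50)], false, true), ([(5, 11), (7, 10), (16, 32)], false, false), ([(20, 40)], false, false), ([(11, 50)], true, true), ([(20, 40)], true, false), ([(5, 11), (7, 10), (16, 32)], true, false)]]),
   ([(5, 50)], [[([(5, 50)], false, true), ([(11, 50)], true, false), ([(5, 11)], true, false)]]),
   ([(11, 56)], [[([(11, 56)], false, true), ([(5, 11), (7, 10), (16, 32)], false, false), ([(25, 47)], false, false), ([(11, 56)], true, true), ([(25, 47)], true, false), ([(5, 11), (7, 10), (16, 32)], true, false)]]),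
   ([(5, 56)], [[([(5, 56)], false, true), ([(11, 56)], true, false), ([(5, 11)], true, false)]]),
   ([(11, 63)], [[([(11, 63)], false, true), ([(5, 11), (7, 10), (16, 32)], false, false), ([(19, 34)], false, false), ([(11, 63)], true, true), ([(19, 34)], true, false), ([(5, 11), (7, 10), (16, 32)], true, false)]]),
   ([(5, 63)], [[([(5, 63)], false, true), ([(11, 63)], true, false), ([(5, 11)], true, false)]])]

set_option maxRecDepth 1000000 in
theorem chk6 : chk qf6 Tm6 6 5 S6 = true := by decide +kernel

end Cfsg.Agent.Lib.Helper39.H1
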