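import Cfsg.Agent.Lib.Helper39.H1Core

set_option autoImplicit false

/-!
# Certificate data for S5405, dimension 8 (generated)
-/

namespace Cfsg.Agent.Lib.Helper39.H1

/-- The table of the linear forms `B(u, ·)` in dimension 8. -/
def ST8 : ℕ := 32309054174392268721448264800518952818188176380944478513873930085117650535891205615355799575219832867600272026770162808883746891240128979251848980007892572910460721193787830836033874988121941596716435745040966290074634774812389161242752045616913020797997475408211516565888277586735939799036668475887946830122608722202123020594473124985373049707942766742962061413352306426180182110513085539022308272815897558082322286406776378340244864537877125445570563696219713445809152516022291206107940695329425750582209132860940853277236931602601047879198946907621112458820564384779053199254854040553421195702783624601817992663040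

/-- The fast reflection in dimension 8. -/
def Tm8 (u x : ℕ) : ℕ := Tg ST8 8 255 u x

set_option maxRecDepth 1000000 in
theorem hT8 : chkT qf8 Tm8 8 = true := by decide +kernel

/-- The steps of the certificate in dimension 8. -/
def S8 : List (List (ℕ × ℕ) × List (List (List (ℕ × ℕ) × Bool × Bool))) :=
  [([(17, 35), (19, 34), (68, 140), (76, 136)], []),
   ([(17, 35)], [[([(17, 35)], false, true), ([(17, 35), (19, 34), (68, 140), (76, 136)], false, false), ([(17, 35)], true, true), ([(17, 35), (19, 34), (68, 140), (76, 136)], true, false)]]),
   ([(19, 34)], [[([(19, 34)], false, true), ([(17, 35), (19, 34), (68, 140), (76, 136)], false, false), ([(19, 34)], true, true), ([(17, 35), (19, 34), (68, 140), (76, 136)], true, false)]]),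
   ([(21, 47)], [[([(21, 47)], false, true), ([(17, 35), (19, 34), (68, 140), (76, 136)], false, false), ([(21, 47)], true, true), ([(17, 35), (19, 34), (68, 140), (76, 136)], true, false)]]),
   ([(23, 46)], [[([(23, 46)], false, true), ([(17, 35), (19, 34), (68, 140), (76, 136)], false, false), ([(23, 46)], true, true), ([(17, 35), (19, 34), (68, 140), (76, 136)], true, false)]]),
   ([(25, 39)], [[([(25, 39)], false, true), ([(17, 35), (19, 34), (68, 140), (76, 136)], false, false), ([(25, 39)], true, true), ([(17, 35), (19, 34), (68, 140), (76, 136)], true, false)]]),
   ([(27, 38)], [[([(27, 38)], false, true), ([(17, 35), (19, 34), (68, 140), (76, 136)], false, false), ([(27, 38)], true, true), ([(17, 35), (19, 34), (68, 140), (76, 136)], true, false)]]),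
   ([(29, 43)], [[([(29, 43)], false, true), ([(17, 35), (19, 34), (68, 140), (76, 136)], false, false), ([(29, 43)], true, true), ([(17, 35), (19, 34), (68, 140), (76, 136)], true, false)]]),
   ([(31, 42)], [[([(31, 42)], false, true), ([(17, 35), (19, 34), (68, 140), (76, 136)], false, false), ([(31, 42)], true, true), ([(17, 35), (19, 34), (68, 140), (76, 136)], true, false)]]),
   ([(68, 140)], [[([(68, 140)], false, true), ([(17, 35), (19, 34), (68, 140), (76, 136)], false, false), ([(68, 140)], true, true), ([(17, 35), (19, 34), (68, 140), (76, 136)], true, false)]]),
   ([(69, 143)], [[([(69, 143)], false, true), ([(17, 35), (19, 34), (68, 140), (76, 136)], false, false), ([(69, 143)], true, true), ([(17, 35), (19, 34), (68, 140), (76, 136)], true, false)]]),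
   ([(70, 141)], [[([(70, 141)], false, true), ([(17, 35), (19, 34), (68, 140), (76, 136)], false, false), ([(70, 141)], true, true), ([(17, 35), (19, 34), (68, 140), (76, 136)], true, false)]]),
   ([(71, 142)], [[([(71, 142)], false, true), ([(17, 35), (19, 34), (68, 140), (76, 136)], false, false), ([(71, 142)], true, true), ([(17, 35), (19, 34), (68, 140), (76, 136)], true, false)]]),
   ([(76, 136)], [[([(76, 136)], false, true), ([(17, 35), (19, 34), (68, 140), (76, 136)], false, false), ([(76, 136)], true, true), ([(17, 35), (19, 34), (68, 140), (76, 136)], true, false)]]),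
   ([(77, 139)], [[([(77, 139)], false, true), ([(17, 35), (19, 34), (68, 140), (76, 136)], false, false), ([(77, 139)], true, true), ([(17, 35), (19, 34), (68, 140), (76, 136)], true, false)]]),
   ([(78, 137)], [[([(78, 137)], false, true), ([(17, 35), (19, 34), (68, 140), (76, 136)], false, false), ([(78, 137)], true, true), ([(17, 35), (19, 34), (68, 140), (76, 136)], true, false)]]),
   ([(79, 138)], [[([(79, 138)], false, true), ([(17, 35), (19, 34), (68, 140), (76, 136)], false, false), ([(79, 138)], true, true), ([(17, 35), (19, 34), (68, 140), (76, 136)], true, false)]]),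
   ([(81, 163)], [[([(81, 163)], false, true), ([(17, 35), (19, 34), (68, 140), (76, 136)], false, false), ([(81, 163)], true, true), ([(17, 35), (19, 34), (68, 140), (76, 136)], true, false)]]),
   ([(83, 162)], [[([(83, 162)], false, true), ([(17, 35), (19, 34), (68, 140), (76, 136)], false, false), ([(83, 162)], true, true), ([(17, 35), (19, 34), (68, 140), (76, 136)], true, false)]]),
   ([(84, 172)], [[([(84, 172)], false, true), ([(17, 35), (19, 34), (68, 140), (76, 136)], false, false), ([(84, 172)], true, true), ([(17, 35), (19, 34), (68, 140), (76, 136)], true, false)]]),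
   ([(86, 173)], [[([(86, 173)], false, true), ([(17, 35), (19, 34), (68, 140), (76, 136)], false, false), ([(86, 173)], true, true), ([(17, 35), (19, 34), (68, 140), (76, 136)], true, false)]]),
   ([(89, 167)], [[([(89, 167)], false, true), ([(17, 35), (19, 34), (68, 140), (76, 136)], false, false), ([(89, 167)], true, true), ([(17, 35), (19, 34), (68, 140), (76, 136)], true, false)]]),
   ([(91, 166)], [[([(91, 166)], false, true), ([(17, 35), (19, 34), (68, 140), (76, 136)], false, false), ([(91, 166)], true, true), ([(17, 35), (19, 34), (68, 140), (76, 136)], true, false)]]),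
   ([(92, 168)], [[([(92, 168)], false, true), ([(17, 35), (19, 34), (68, 140), (76, 136)], false, false), ([(92, 168)], true, true), ([(17, 35), (19, 34), (68, 140), (76, 136)], true, false)]]),
   ([(94, 169)], [[([(94, 169)], false, true), ([(17, 35), (19, 34), (68, 140), (76, 136)], false, false), ([(94, 169)], true, true), ([(17, 35), (19, 34), (68, 140), (76, 136)], true, false)]]),
   ([(98, 177)], [[([(98, 177)], false, true), ([(17, 35), (19, 34), (68, 140), (76, 136)], false, false), ([(98, 177)], true, true), ([(17, 35), (19, 34), (68, 140), (76, 136)], true, false)]]),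
   ([(99, 178)], [[([(99, 178)], false, true), ([(17, 35), (19, 34), (68, 140), (76, 136)], false, false), ([(99, 178)], true, true), ([(17, 35), (19, 34), (68, 140), (76, 136)], true, false)]]),
   ([(100, 188)], [[([(100, 188)], false, true), ([(17, 35), (19, 34), (68, 140), (76, 136)], false, false), ([(100, 188)], true, true), ([(17, 35), (19, 34), (68, 140), (76, 136)], true, false)]]),
   ([(101, 191)], [[([(101, 191)], false, true), ([(17, 35), (19, 34), (68, 140), (76, 136)], false, false), ([(101, 191)], true, true), ([(17, 35), (19, 34), (68, 140), (76, 136)], true, false)]]),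
   ([(106, 181)], [[([(106, 181)], false, true), ([(17, 35), (19, 34), (68, 140), (76, 136)], false, false), ([(106, 181)], true, true), ([(17, 35), (19, 34), (68, 140), (76, 136)], true, false)]]),
   ([(107, 182)], [[([(107, 182)], false, true), ([(17, 35), (19, 34), (68, 140), (76, 136)], false, false), ([(107, 182)], true, true), ([(17, 35), (19, 34), (68, 140), (76, 136)], true, false)]]),
   ([(108, 184)], [[([(108, 184)], false, true), ([(17, 35), (19, 34), (68, 140), (76, 136)], false, false), ([(108, 184)], true, true), ([(17, 35), (19, 34), (68, 140), (76, 136)], true, false)]]),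
   ([(109, 187)], [[([(109, 187)], false, true), ([(17, 35), (19, 34), (68, 140), (76, 136)], false, false), ([(109, 187)], true, true), ([(17, 35), (19, 34), (68, 140), (76, 136)], true, false)]]),
   ([(113, 147)], [[([(113, 147)], false, true), ([(17, 35), (19, 34), (68, 140), (76, 136)], false, false), ([(113, 147)], true, true), ([(17, 35), (19, 34), (68, 140), (76, 136)], true, false)]]),
   ([(114, 145)], [[([(114, 145)], false, true), ([(17, 35), (19, 34), (68, 140), (76, 136)], false, false), ([(114, 145)], true, true), ([(17, 35), (19, 34), (68, 140), (76, 136)], true, false)]]),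
   ([(116, 156)], [[([(116, 156)], false, true), ([(17, 35), (19, 34), (68, 140), (76, 136)], false, false), ([(116, 156)], true, true), ([(17, 35), (19, 34), (68, 140), (76, 136)], true, false)]]),
   ([(119, 158)], [[([(119, 158)], false, true), ([(17, 35), (19, 34), (68, 140), (76, 136)], false, false), ([(119, 158)], true, true), ([(17, 35), (19, 34), (68, 140), (76, 136)], true, false)]]),
   ([(121, 151)], [[([(121, 151)], false, true), ([(17, 35), (19, 34), (68, 140), (76, 136)], false, false), ([(121, 151)], true, true), ([(17, 35), (19, 34), (68, 140), (76, 136)], true, false)]]),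
   ([(122, 149)], [[([(122, 149)], false, true), ([(17, 35), (19, 34), (68, 140), (76, 136)], false, false), ([(122, 149)], true, true), ([(17, 35), (19, 34), (68, 140), (76, 136)], true, false)]]),
   ([(124, 152)], [[([(124, 152)], false, true), ([(17, 35), (19, 34), (68, 140), (76, 136)], false, false), ([(124, 152)], true, true), ([(17, 35), (19, 34), (68, 140), (76, 136)], true, false)]]),
   ([(127, 154)], [[([(127, 154)], false, true), ([(17, 35), (19, 34), (68, 140), (76, 136)], false, false), ([(127, 154)], true, true), ([(17, 35), (19, 34), (68, 140), (76, 136)], true, false)]]),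
   ([(17, 39)], [[([(17, 39)], false, true), ([(17, 35), (19, 34), (68, 140), (76, 136)], false, false), ([(21, 47)], false, false), ([(17, 39)], true, true), ([(21, 47)], true, false), ([(17, 35), (19, 34), (68, 140), (76, 136)], true, false)]]),
   ([(17, 43)], [[([(17, 43)], false, true), ([(17, 35), (19, 34), (68, 140), (76, 136)], false, false), ([(25, 39)], false, false), ([(17, 43)], true, true), ([(25, 39)], true, false), ([(17, 35), (19, 34), (68, 140), (76, 136)], true, false)]]),
   ([(17, 47)], [[([(17, 47)], false, true), ([(17, 35), (19, 34), (68, 140), (76, 136)], false, false), ([(29, 43)], false, false), ([(17, 47)], true, true), ([(29, 43)], true, false), ([(17, 35), (19, 34), (68, 140), (76, 136)], true, false)]]),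
   ([(17, 50)], [[([(17, 50)], false, true), ([(17, 35), (19, 34), (68, 140), (76, 136)], false, false), ([(17, 50)], true, true), ([(17, 35), (19, 34), (68, 140), (76, 136)], true, false)]]),
   ([(17, 54)], [[([(17, 54)], false, true), ([(17, 35), (19, 34), (68, 140), (76, 136)], false, false), ([(21, 47)], false, false), ([(17, 54)], true, true), ([(21, 47)], true, false), ([(17, 35), (19, 34), (68, 140), (76, 136)], true, false)]]),
   ([(17, 58)], [[([(17, 58)], false, true), ([(17, 35), (19, 34), (68, 140), (76, 136)], false, false), ([(25, 39)], false, false), ([(17, 58)], true, true), ([(25, 39)], true, false), ([(17, 35), (19, 34), (68, 140), (76, 136)], true, false)]]),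
   ([(17, 62)], [[([(17, 62)], false, true), ([(17, 35), (19, 34), (68, 140), (76, 136)], false, false), ([(29, 43)], false, false), ([(17, 62)], true, true), ([(29, 43)], true, false), ([(17, 35), (19, 34), (68, 140), (76, 136)], true, false)]]),
   ([(17, 69)], [[([(17, 69)], false, true), ([(17, 35), (19, 34), (68, 140), (76, 136)], false, false), ([(119, 158)], false, false), ([(17, 69)], true, true), ([(119, 158)], true, false), ([(17, 35), (19, 34), (68, 140), (76, 136)], true, false)]]),
   ([(17, 71)], [[([(17, 71)], false, true), ([(17, 35), (19, 34), (68, 140), (76, 136)], false, false), ([(100, 188)], false, false), ([(17, 71)], true, true), ([(100, 188)], true, false), ([(17, 35), (19, 34), (68, 140), (76, 136)], true, false)]]),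
   ([(17, 77)], [[([(17, 77)], false, true), ([(17, 35), (19, 34), (68, 140), (76, 136)], false, false), ([(127, 154)], false, false), ([(17, 77)], true, true), ([(127, 154)], true, false), ([(17, 35), (19, 34), (68, 140), (76, 136)], true, false)]]),
   ([(17, 79)], [[([(17, 79)], false, true), ([(17, 35), (19, 34), (68, 140), (76, 136)], false, false), ([(108, 184)], false, false), ([(17, 79)], true, true), ([(108, 184)], true, false), ([(17, 35), (19, 34), (68, 140), (76, 136)], true, false)]]),
   ([(17, 84)], [[([(17, 84)], false, true), ([(17, 35), (19, 34), (68, 140), (76, 136)], false, false), ([(119, 158)], false, false), ([(17, 84)], true, true), ([(119, 158)], true, false), ([(17, 35), (19, 34), (68, 140), (76, 136)], true, false)]]),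
   ([(17, 86)], [[([(17, 86)], false, true), ([(17, 35), (19, 34), (68, 140), (76, 136)], false, false), ([(100, 188)], false, false), ([(17, 86)], true, true), ([(100, 188)], true, false), ([(17, 35), (19, 34), (68, 140), (76, 136)], true, false)]]),
   ([(17, 92)], [[([(17, 92)], false, true), ([(17, 35), (19, 34), (68, 140), (76, 136)], false, false), ([(127, 154)], false, false), ([(17, 92)], true, true), ([(127, 154)], true, false), ([(17, 35), (19, 34), (68, 140), (76, 136)], true, false)]]),
   ([(17, 94)], [[([(17, 94)], false, true), ([(17, 35), (19, 34), (68, 140), (76, 136)], false, false), ([(108, 184)], false, false), ([(17, 94)], true, true), ([(108, 184)], true, false), ([(17, 35), (19, 34), (68, 140), (76, 136)], true, false)]]),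
   ([(17, 99)], [[([(17, 99)], false, true), ([(17, 35), (19, 34), (68, 140), (76, 136)], false, false), ([(81, 163)], false, false), ([(17, 99)], true, true), ([(81, 163)], true, false), ([(17, 35), (19, 34), (68, 140), (76, 136)], true, false)]]),
   ([(17, 101)], [[([(17, 101)], false, true), ([(17, 35), (19, 34), (68, 140), (76, 136)], false, false), ([(70, 141)], false, false), ([(17, 101)], true, true), ([(70, 141)], true, false), ([(17, 35), (19, 34), (68, 140), (76, 136)], true, false)]]),
   ([(17, 107)], [[([(17, 107)], false, true), ([(17, 35), (19, 34), (68, 140), (76, 136)], false, false), ([(89, 167)], false, false), ([(17, 107)], true, true), ([(89, 167)], true, false), ([(17, 35), (19, 34), (68, 140), (76, 136)], true, false)]]),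
   ([(17, 109)], [[([(17, 109)], false, true), ([(17, 35), (19, 34), (68, 140), (76, 136)], false, false), ([(78, 137)], false, false), ([(17, 109)], true, true), ([(78, 137)], true, false), ([(17, 35), (19, 34), (68, 140), (76, 136)], true, false)]]),
   ([(17, 114)], [[([(17, 114)], false, true), ([(17, 35), (19, 34), (68, 140), (76, 136)], false, false), ([(81, 163)], false, false), ([(17, 114)], true, true), ([(81, 163)], true, false), ([(17, 35), (19, 34), (68, 140), (76, 136)], true, false)]]),
   ([(17, 116)], [[([(17, 116)], false, true), ([(17, 35), (19, 34), (68, 140), (76, 136)], false, false), ([(70, 141)], false, false), ([(17, 116)], true, true), ([(70, 141)], true, false), ([(17, 35), (19, 34), (68, 140), (76, 136)], true, false)]]),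
   ([(17, 122)], [[([(17, 122)], false, true), ([(17, 35), (19, 34), (68, 140), (76, 136)], false, false), ([(89, 167)], false, false), ([(17, 122)], true, true), ([(89, 167)], true, false), ([(17, 35), (19, 34), (68, 140), (76, 136)], true, false)]]),
   ([(17, 124)], [[([(17, 124)], false, true), ([(17, 35), (19, 34), (68, 140), (76, 136)], false, false), ([(78, 137)], false, false), ([(17, 124)], true, true), ([(78, 137)], true, false), ([(17, 35), (19, 34), (68, 140), (76, 136)], true, false)]]),
   ([(17, 137)], [[([(17, 137)], false, true), ([(17, 35), (19, 34), (68, 140), (76, 136)], false, false), ([(109, 187)], false, false), ([(17, 137)], true, true), ([(109, 187)], true, false), ([(17, 35), (19, 34), (68, 140), (76, 136)], true, false)]]),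
   ([(17, 139)], [[([(17, 139)], false, true), ([(17, 35), (19, 34), (68, 140), (76, 136)], false, false), ([(92, 168)], false, false), ([(17, 139)], true, true), ([(92, 168)], true, false), ([(17, 35), (19, 34), (68, 140), (76, 136)], true, false)]]),
   ([(17, 141)], [[([(17, 141)], false, true), ([(17, 35), (19, 34), (68, 140), (76, 136)], false, false), ([(101, 191)], false, false), ([(17, 141)], true, true), ([(101, 191)], true, false), ([(17, 35), (19, 34), (68, 140), (76, 136)], true, false)]]),
   ([(17, 143)], [[([(17, 143)], false, true), ([(17, 35), (19, 34), (68, 140), (76, 136)], false, false), ([(84, 172)], false, false), ([(17, 143)], true, true), ([(84, 172)], true, false), ([(17, 35), (19, 34), (68, 140), (76, 136)], true, false)]]),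
   ([(17, 152)], [[([(17, 152)], false, true), ([(17, 35), (19, 34), (68, 140), (76, 136)], false, false), ([(109, 187)], false, false), ([(17, 152)], true, true), ([(109, 187)], true, false), ([(17, 35), (19, 34), (68, 140), (76, 136)], true, false)]]),
   ([(17, 154)], [[([(17, 154)], false, true), ([(17, 35), (19, 34), (68, 140), (76, 136)], false, false), ([(92, 168)], false, false), ([(17, 154)], true, true), ([(92, 168)], true, false), ([(17, 35), (19, 34), (68, 140), (76, 136)], true, false)]]),
   ([(17, 156)], [[([(17, 156)], false, true), ([(17, 35), (19, 34), (68, 140), (76, 136)], false, false), ([(101, 191)], false, false), ([(17, 156)], true, true), ([(101, 191)], true, false), ([(17, 35), (19, 34), (68, 140), (76, 136)], true, false)]]),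
   ([(17, 158)], [[([(17, 158)], false, true), ([(17, 35), (19, 34), (68, 140), (76, 136)], false, false), ([(84, 172)], false, false), ([(17, 158)], true, true), ([(84, 172)], true, false), ([(17, 35), (19, 34), (68, 140), (76, 136)], true, false)]]),
   ([(17, 163)], [[([(17, 163)], false, true), ([(17, 35), (19, 34), (68, 140), (76, 136)], false, false), ([(114, 145)], false, false), ([(17, 163)], true, true), ([(114, 145)], true, false), ([(17, 35), (19, 34), (68, 140), (76, 136)], true, false)]]),
   ([(17, 167)], [[([(17, 167)], false, true), ([(17, 35), (19, 34), (68, 140), (76, 136)], false, false), ([(122, 149)], false, false), ([(17, 167)], true, true), ([(122, 149)], true, false), ([(17, 35), (19, 34), (68, 140), (76, 136)], true, false)]]),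
   ([(17, 169)], [[([(17, 169)], false, true), ([(17, 35), (19, 34), (68, 140), (76, 136)], false, false), ([(79, 138)], false, false), ([(17, 169)], true, true), ([(79, 138)], true, false), ([(17, 35), (19, 34), (68, 140), (76, 136)], true, false)]]),
   ([(17, 173)], [[([(17, 173)], false, true), ([(17, 35), (19, 34), (68, 140), (76, 136)], false, false), ([(71, 142)], false, false), ([(17, 173)], true, true), ([(71, 142)], true, false), ([(17, 35), (19, 34), (68, 140), (76, 136)], true, false)]]),
   ([(17, 178)], [[([(17, 178)], false, true), ([(17, 35), (19, 34), (68, 140), (76, 136)], false, false), ([(114, 145)], false, false), ([(17, 178)], true, true), ([(114, 145)], true, false), ([(17, 35), (19, 34), (68, 140), (76, 136)], true, false)]]),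
   ([(17, 182)], [[([(17, 182)], false, true), ([(17, 35), (19, 34), (68, 140), (76, 136)], false, false), ([(122, 149)], false, false), ([(17, 182)], true, true), ([(122, 149)], true, false), ([(17, 35), (19, 34), (68, 140), (76, 136)], true, false)]]),
   ([(17, 184)], [[([(17, 184)], false, true), ([(17, 35), (19, 34), (68, 140), (76, 136)], false, false), ([(79, 138)], false, false), ([(17, 184)], true, true), ([(79, 138)], true, false), ([(17, 35), (19, 34), (68, 140), (76, 136)], true, false)]]),
   ([(17, 188)], [[([(17, 188)], false, true), ([(17, 35), (19, 34), (68, 140), (76, 136)], false, false), ([(71, 142)], false, false), ([(17, 188)], true, true), ([(71, 142)], true, false), ([(17, 35), (19, 34), (68, 140), (76, 136)], true, false)]]),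
   ([(17, 197)], [[([(17, 197)], false, true), ([(17, 35), (19, 34), (68, 140), (76, 136)], false, false), ([(94, 169)], false, false), ([(17, 197)], true, true), ([(94, 169)], true, false), ([(17, 35), (19, 34), (68, 140), (76, 136)], true, false)]]),
   ([(17, 199)], [[([(17, 199)], false, true), ([(17, 35), (19, 34), (68, 140), (76, 136)], false, false), ([(124, 152)], false, false), ([(17, 199)], true, true), ([(124, 152)], true, false), ([(17, 35), (19, 34), (68, 140), (76, 136)], true, false)]]),
   ([(17, 201)], [[([(17, 201)], false, true), ([(17, 35), (19, 34), (68, 140), (76, 136)], false, false), ([(86, 173)], false, false), ([(17, 201)], true, true), ([(86, 173)], true, false), ([(17, 35), (19, 34), (68, 140), (76, 136)], true, false)]]),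
   ([(17, 203)], [[([(17, 203)], false, true), ([(17, 35), (19, 34), (68, 140), (76, 136)], false, false), ([(116, 156)], false, false), ([(17, 203)], true, true), ([(116, 156)], true, false), ([(17, 35), (19, 34), (68, 140), (76, 136)], true, false)]]),
   ([(17, 212)], [[([(17, 212)], false, true), ([(17, 35), (19, 34), (68, 140), (76, 136)], false, false), ([(94, 169)], false, false), ([(17, 212)], true, true), ([(94, 169)], true, false), ([(17, 35), (19, 34), (68, 140), (76, 136)], true, false)]]),
   ([(17, 214)], [[([(17, 214)], false, true), ([(17, 35), (19, 34), (68, 140), (76, 136)], false, false), ([(124, 152)], false, false), ([(17, 214)], true, true), ([(124, 152)], true, false), ([(17, 35), (19, 34), (68, 140), (76, 136)], true, false)]]),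
   ([(17, 216)], [[([(17, 216)], false, true), ([(17, 35), (19, 34), (68, 140), (76, 136)], false, false), ([(86, 173)], false, false), ([(17, 216)], true, true), ([(86, 173)], true, false), ([(17, 35), (19, 34), (68, 140), (76, 136)], true, false)]]),
   ([(17, 218)], [[([(17, 218)], false, true), ([(17, 35), (19, 34), (68, 140), (76, 136)], false, false), ([(116, 156)], false, false), ([(17, 218)], true, true), ([(116, 156)], true, false), ([(17, 35), (19, 34), (68, 140), (76, 136)], true, false)]]),
   ([(17, 227)], [[([(17, 227)], false, true), ([(17, 35), (19, 34), (68, 140), (76, 136)], false, false), ([(99, 178)], false, false), ([(17, 227)], true, true), ([(99, 178)], true, false), ([(17, 35), (19, 34), (68, 140), (76, 136)], true, false)]]),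
   ([(17, 229)], [[([(17, 229)], false, true), ([(17, 35), (19, 34), (68, 140), (76, 136)], false, false), ([(77, 139)], false, false), ([(17, 229)], true, true), ([(77, 139)], true, false), ([(17, 35), (19, 34), (68, 140), (76, 136)], true, false)]]),
   ([(17, 233)], [[([(17, 233)], false, true), ([(17, 35), (19, 34), (68, 140), (76, 136)], false, false), ([(69, 143)], false, false), ([(17, 233)], true, true), ([(69, 143)], true, false), ([(17, 35), (19, 34), (68, 140), (76, 136)], true, false)]]),
   ([(17, 239)], [[([(17, 239)], false, true), ([(17, 35), (19, 34), (68, 140), (76, 136)], false, false), ([(107, 182)], false, false), ([(17, 239)], true, true), ([(107, 182)], true, false), ([(17, 35), (19, 34), (68, 140), (76, 136)], true, false)]]),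
   ([(17, 242)], [[([(17, 242)], false, true), ([(17, 35), (19, 34), (68, 140), (76, 136)], false, false), ([(99, 178)], false, false), ([(17, 242)], true, true), ([(99, 178)], true, false), ([(17, 35), (19, 34), (68, 140), (76, 136)], true, false)]]),
   ([(17, 244)], [[([(17, 244)], false, true), ([(17, 35), (19, 34), (68, 140), (76, 136)], false, false), ([(77, 139)], false, false), ([(17, 244)], true, true), ([(77, 139)], true, false), ([(17, 35), (19, 34), (68, 140), (76, 136)], true, false)]]),
   ([(17, 248)], [[([(17, 248)], false, true), ([(17, 35), (19, 34), (68, 140), (76, 136)], false, false), ([(69, 143)], false, false), ([(17, 248)], true, true), ([(69, 143)], true, false), ([(17, 35), (19, 34), (68, 140), (76, 136)], true, false)]]),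
   ([(17, 254)], [[([(17, 254)], false, true), ([(17, 35), (19, 34), (68, 140), (76, 136)], false, false), ([(107, 182)], false, false), ([(17, 254)], true, true), ([(107, 182)], true, false), ([(17, 35), (19, 34), (68, 140), (76, 136)], true, false)]]),
   ([(69, 19)], [[([(69, 19)], false, true), ([(17, 35), (19, 34), (68, 140), (76, 136)], false, false), ([(116, 156)], false, false), ([(69, 19)], true, true), ([(116, 156)], true, false), ([(17, 35), (19, 34), (68, 140), (76, 136)], true, false)]]),
   ([(17, 19)], [[([(17, 19)], false, true), ([(69, 19)], true, false), ([(17, 69)], true, false)]]),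
   ([(35, 21)], [[([(35, 21)], false, true), ([(17, 35), (19, 34), (68, 140), (76, 136)], false, false), ([(25, 39)], false, false), ([(35, 21)], true, true), ([(25, 39)], true, false), ([(17, 35), (19, 34), (68, 140), (76, 136)], true, false)]]),
   ([(17, 21)], [[([(17, 21)], false, true), ([(35, 21)], true, false), ([(17, 35)], true, false)]]),
   ([(99, 23)], [[([(99, 23)], false, true), ([(17, 35), (19, 34), (68, 140), (76, 136)], false, false), ([(77, 139)], false, false), ([(99, 23)], true, true), ([(77, 139)], true, false), ([(17, 35), (19, 34), (68, 140), (76, 136)], true, false)]]),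
   ([(17, 23)], [[([(17, 23)], false, true), ([(99, 23)], true, false), ([(17, 99)], true, false)]]),
   ([(35, 25)], [[([(35, 25)], false, true), ([(17, 35), (19, 34), (68, 140), (76, 136)], false, false), ([(29, 43)], false, false), ([(35, 25)], true, true), ([(29, 43)], true, false), ([(17, 35), (19, 34), (68, 140), (76, 136)], true, false)]]),
   ([(17, 25)], [[([(17, 25)], false, true), ([(35, 25)], true, false), ([(17, 35)], true, false)]]),
   ([(69, 27)], [[([(69, 27)], false, true), ([(17, 35), (19, 34), (68, 140), (76, 136)], false, false), ([(99, 178)], false, false), ([(69, 27)], true, true), ([(99, 178)], true, false), ([(17, 35), (19, 34), (68, 140), (76, 136)], true, false)]]),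
   ([(17, 27)], [[([(17, 27)], false, true), ([(69, 27)], true, false), ([(17, 69)], true, false)]]),
   ([(35, 29)], [[([(35, 29)], false, true), ([(17, 35), (19, 34), (68, 140), (76, 136)], false, false), ([(21, 47)], false, false), ([(35, 29)], true, true), ([(21, 47)], true, false), ([(17, 35), (19, 34), (68, 140), (76, 136)], true, false)]]),
   ([(17, 29)], [[([(17, 29)], false, true), ([(35, 29)], true, false), ([(17, 35)], true, false)]]),
   ([(99, 31)], [[([(99, 31)], false, true), ([(17, 35), (19, 34), (68, 140), (76, 136)], false, false), ([(86, 173)], false, false), ([(99, 31)], true, true), ([(86, 173)], true, false), ([(17, 35), (19, 34), (68, 140), (76, 136)], true, false)]]),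
   ([(17, 31)], [[([(17, 31)], false, true), ([(99, 31)], true, false), ([(17, 99)], true, false)]]),
   ([(71, 34)], [[([(71, 34)], false, true), ([(17, 35), (19, 34), (68, 140), (76, 136)], false, false), ([(84, 172)], false, false), ([(71, 34)], true, true), ([(84, 172)], true, false), ([(17, 35), (19, 34), (68, 140), (76, 136)], true, false)]]),
   ([(17, 34)], [[([(17, 34)], false, true), ([(71, 34)], true, false), ([(17, 71)], true, false)]]),
   ([(69, 38)], [[([(69, 38)], false, true), ([(17, 35), (19, 34), (68, 140), (76, 136)], false, false), ([(94, 169)], false, false), ([(69, 38)], true, true), ([(94, 169)], true, false), ([(17, 35), (19, 34), (68, 140), (76, 136)], true, false)]]),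
   ([(17, 38)], [[([(17, 38)], false, true), ([(69, 38)], true, false), ([(17, 69)], true, false)]]),
   ([(71, 42)], [[([(71, 42)], false, true), ([(17, 35), (19, 34), (68, 140), (76, 136)], false, false), ([(114, 145)], false, false), ([(71, 42)], true, true), ([(114, 145)], true, false), ([(17, 35), (19, 34), (68, 140), (76, 136)], true, false)]]),
   ([(17, 42)], [[([(17, 42)], false, true), ([(71, 42)], true, false), ([(17, 71)], true, false)]]),
   ([(69, 46)], [[([(69, 46)], false, true), ([(17, 35), (19, 34), (68, 140), (76, 136)], false, false), ([(124, 152)], false, false), ([(69, 46)], true, true), ([(124, 152)], true, false), ([(17, 35), (19, 34), (68, 140), (76, 136)], true, false)]]),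
   ([(17, 46)], [[([(17, 46)], false, true), ([(69, 46)], true, false), ([(17, 69)], true, false)]]),
   ([(69, 49)], [[([(69, 49)], false, true), ([(17, 35), (19, 34), (68, 140), (76, 136)], false, false), ([(86, 173)], false, false), ([(69, 49)], true, true), ([(86, 173)], true, false), ([(17, 35), (19, 34), (68, 140), (76, 136)], true, false)]]),
   ([(17, 49)], [[([(17, 49)], false, true), ([(69, 49)], true, false), ([(17, 69)], true, false)]]),
   ([(71, 53)], [[([(71, 53)], false, true), ([(17, 35), (19, 34), (68, 140), (76, 136)], false, false), ([(109, 187)], false, false), ([(71, 53)], true, true), ([(109, 187)], true, false), ([(17, 35), (19, 34), (68, 140), (76, 136)], true, false)]]),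
   ([(17, 53)], [[([(17, 53)], false, true), ([(71, 53)], true, false), ([(17, 71)], true, false)]]),
   ([(69, 57)], [[([(69, 57)], false, true), ([(17, 35), (19, 34), (68, 140), (76, 136)], false, false), ([(107, 182)], false, false), ([(69, 57)], true, true), ([(107, 182)], true, false), ([(17, 35), (19, 34), (68, 140), (76, 136)], true, false)]]),
   ([(17, 57)], [[([(17, 57)], false, true), ([(69, 57)], true, false), ([(17, 69)], true, false)]]),
   ([(71, 61)], [[([(71, 61)], false, true), ([(17, 35), (19, 34), (68, 140), (76, 136)], false, false), ([(92, 168)], false, false), ([(71, 61)], true, true), ([(92, 168)], true, false), ([(17, 35), (19, 34), (68, 140), (76, 136)], true, false)]]),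
   ([(17, 61)], [[([(17, 61)], false, true), ([(71, 61)], true, false), ([(17, 71)], true, false)]]),
   ([(39, 68)], [[([(39, 68)], false, true), ([(17, 35), (19, 34), (68, 140), (76, 136)], false, false), ([(122, 149)], false, false), ([(39, 68)], true, true), ([(122, 149)], true, false), ([(17, 35), (19, 34), (68, 140), (76, 136)], true, false)]]),
   ([(17, 68)], [[([(17, 68)], false, true), ([(39, 68)], true, false), ([(17, 39)], true, false)]]),
   ([(35, 70)], [[([(35, 70)], false, true), ([(17, 35), (19, 34), (68, 140), (76, 136)], false, false), ([(116, 156)], false, false), ([(35, 70)], true, true), ([(116, 156)], true, false), ([(17, 35), (19, 34), (68, 140), (76, 136)], true, false)]]),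
   ([(17, 70)], [[([(17, 70)], false, true), ([(35, 70)], true, false), ([(17, 35)], true, false)]]),
   ([(39, 76)], [[([(39, 76)], false, true), ([(17, 35), (19, 34), (68, 140), (76, 136)], false, false), ([(114, 145)], false, false), ([(39, 76)], true, true), ([(114, 145)], true, false), ([(17, 35), (19, 34), (68, 140), (76, 136)], true, false)]]),
   ([(17, 76)], [[([(17, 76)], false, true), ([(39, 76)], true, false), ([(17, 39)], true, false)]]),
   ([(35, 78)], [[([(35, 78)], false, true), ([(17, 35), (19, 34), (68, 140), (76, 136)], false, false), ([(124, 152)], false, false), ([(35, 78)], true, true), ([(124, 152)], true, false), ([(17, 35), (19, 34), (68, 140), (76, 136)], true, false)]]),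
   ([(17, 78)], [[([(17, 78)], false, true), ([(35, 78)], true, false), ([(17, 35)], true, false)]]),
   ([(35, 81)], [[([(35, 81)], false, true), ([(17, 35), (19, 34), (68, 140), (76, 136)], false, false), ([(99, 178)], false, false), ([(35, 81)], true, true), ([(99, 178)], true, false), ([(17, 35), (19, 34), (68, 140), (76, 136)], true, false)]]),
   ([(17, 81)], [[([(17, 81)], false, true), ([(35, 81)], true, false), ([(17, 35)], true, false)]]),
   ([(39, 83)], [[([(39, 83)], false, true), ([(17, 35), (19, 34), (68, 140), (76, 136)], false, false), ([(109, 187)], false, false), ([(39, 83)], true, true), ([(109, 187)], true, false), ([(17, 35), (19, 34), (68, 140), (76, 136)], true, false)]]),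
   ([(17, 83)], [[([(17, 83)], false, true), ([(39, 83)], true, false), ([(17, 39)], true, false)]]),
   ([(35, 89)], [[([(35, 89)], false, true), ([(17, 35), (19, 34), (68, 140), (76, 136)], false, false), ([(107, 182)], false, false), ([(35, 89)], true, true), ([(107, 182)], true, false), ([(17, 35), (19, 34), (68, 140), (76, 136)], true, false)]]),
   ([(17, 89)], [[([(17, 89)], false, true), ([(35, 89)], true, false), ([(17, 35)], true, false)]]),
   ([(39, 91)], [[([(39, 91)], false, true), ([(17, 35), (19, 34), (68, 140), (76, 136)], false, false), ([(101, 191)], false, false), ([(39, 91)], true, true), ([(101, 191)], true, false), ([(17, 35), (19, 34), (68, 140), (76, 136)], true, false)]]),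
   ([(17, 91)], [[([(17, 91)], false, true), ([(39, 91)], true, false), ([(17, 39)], true, false)]]),
   ([(39, 98)], [[([(39, 98)], false, true), ([(17, 35), (19, 34), (68, 140), (76, 136)], false, false), ([(92, 168)], false, false), ([(39, 98)], true, true), ([(92, 168)], true, false), ([(17, 35), (19, 34), (68, 140), (76, 136)], true, false)]]),
   ([(17, 98)], [[([(17, 98)], false, true), ([(39, 98)], true, false), ([(17, 39)], true, false)]]),
   ([(35, 100)], [[([(35, 100)], false, true), ([(17, 35), (19, 34), (68, 140), (76, 136)], false, false), ([(86, 173)], false, false), ([(35, 100)], true, true), ([(86, 173)], true, false), ([(17, 35), (19, 34), (68, 140), (76, 136)], true, false)]]),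
   ([(17, 100)], [[([(17, 100)], false, true), ([(35, 100)], true, false), ([(17, 35)], true, false)]]),
   ([(39, 106)], [[([(39, 106)], false, true), ([(17, 35), (19, 34), (68, 140), (76, 136)], false, false), ([(84, 172)], false, false), ([(39, 106)], true, true), ([(84, 172)], true, false), ([(17, 35), (19, 34), (68, 140), (76, 136)], true, false)]]),
   ([(17, 106)], [[([(17, 106)], false, true), ([(39, 106)], true, false), ([(17, 39)], true, false)]]),
   ([(35, 108)], [[([(35, 108)], false, true), ([(17, 35), (19, 34), (68, 140), (76, 136)], false, false), ([(94, 169)], false, false), ([(35, 108)], true, true), ([(94, 169)], true, false), ([(17, 35), (19, 34), (68, 140), (76, 136)], true, false)]]),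
   ([(17, 108)], [[([(17, 108)], false, true), ([(35, 108)], true, false), ([(17, 35)], true, false)]]),
   ([(39, 113)], [[([(39, 113)], false, true), ([(17, 35), (19, 34), (68, 140), (76, 136)], false, false), ([(79, 138)], false, false), ([(39, 113)], true, true), ([(79, 138)], true, false), ([(17, 35), (19, 34), (68, 140), (76, 136)], true, false)]]),
   ([(17, 113)], [[([(17, 113)], false, true), ([(39, 113)], true, false), ([(17, 39)], true, false)]]),
   ([(35, 119)], [[([(35, 119)], false, true), ([(17, 35), (19, 34), (68, 140), (76, 136)], false, false), ([(69, 143)], false, false), ([(35, 119)], true, true), ([(69, 143)], true, false), ([(17, 35), (19, 34), (68, 140), (76, 136)], true, false)]]),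
   ([(17, 119)], [[([(17, 119)], false, true), ([(35, 119)], true, false), ([(17, 35)], true, false)]]),
   ([(39, 121)], [[([(39, 121)], false, true), ([(17, 35), (19, 34), (68, 140), (76, 136)], false, false), ([(71, 142)], false, false), ([(39, 121)], true, true), ([(71, 142)], true, false), ([(17, 35), (19, 34), (68, 140), (76, 136)], true, false)]]),
   ([(17, 121)], [[([(17, 121)], false, true), ([(39, 121)], true, false), ([(17, 39)], true, false)]]),
   ([(35, 127)], [[([(35, 127)], false, true), ([(17, 35), (19, 34), (68, 140), (76, 136)], false, false), ([(77, 139)], false, false), ([(35, 127)], true, true), ([(77, 139)], true, false), ([(17, 35), (19, 34), (68, 140), (76, 136)], true, false)]]),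
   ([(17, 127)], [[([(17, 127)], false, true), ([(35, 127)], true, false), ([(17, 35)], true, false)]]),
   ([(43, 136)], [[([(43, 136)], false, true), ([(17, 35), (19, 34), (68, 140), (76, 136)], false, false), ([(122, 149)], false, false), ([(43, 136)], true, true), ([(122, 149)], true, false), ([(17, 35), (19, 34), (68, 140), (76, 136)], true, false)]]),
   ([(17, 136)], [[([(17, 136)], false, true), ([(43, 136)], true, false), ([(17, 43)], true, false)]]),
   ([(35, 138)], [[([(35, 138)], false, true), ([(17, 35), (19, 34), (68, 140), (76, 136)], false, false), ([(108, 184)], false, false), ([(35, 138)], true, true), ([(108, 184)], true, false), ([(17, 35), (19, 34), (68, 140), (76, 136)], true, false)]]),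
   ([(17, 138)], [[([(17, 138)], false, true), ([(35, 138)], true, false), ([(17, 35)], true, false)]]),
   ([(43, 140)], [[([(43, 140)], false, true), ([(17, 35), (19, 34), (68, 140), (76, 136)], false, false), ([(114, 145)], false, false), ([(43, 140)], true, true), ([(114, 145)], true, false), ([(17, 35), (19, 34), (68, 140), (76, 136)], true, false)]]),
   ([(17, 140)], [[([(17, 140)], false, true), ([(43, 140)], true, false), ([(17, 43)], true, false)]]),
   ([(35, 142)], [[([(35, 142)], false, true), ([(17, 35), (19, 34), (68, 140), (76, 136)], false, false), ([(100, 188)], false, false), ([(35, 142)], true, true), ([(100, 188)], true, false), ([(17, 35), (19, 34), (68, 140), (76, 136)], true, false)]]),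
   ([(17, 142)], [[([(17, 142)], false, true), ([(35, 142)], true, false), ([(17, 35)], true, false)]]),
   ([(35, 145)], [[([(35, 145)], false, true), ([(17, 35), (19, 34), (68, 140), (76, 136)], false, false), ([(81, 163)], false, false), ([(35, 145)], true, true), ([(81, 163)], true, false), ([(17, 35), (19, 34), (68, 140), (76, 136)], true, false)]]),
   ([(17, 145)], [[([(17, 145)], false, true), ([(35, 145)], true, false), ([(17, 35)], true, false)]]),
   ([(43, 147)], [[([(43, 147)], false, true), ([(17, 35), (19, 34), (68, 140), (76, 136)], false, false), ([(71, 142)], false, false), ([(43, 147)], true, true), ([(71, 142)], true, false), ([(17, 35), (19, 34), (68, 140), (76, 136)], true, false)]]),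
   ([(17, 147)], [[([(17, 147)], false, true), ([(43, 147)], true, false), ([(17, 43)], true, false)]]),
   ([(35, 149)], [[([(35, 149)], false, true), ([(17, 35), (19, 34), (68, 140), (76, 136)], false, false), ([(89, 167)], false, false), ([(35, 149)], true, true), ([(89, 167)], true, false), ([(17, 35), (19, 34), (68, 140), (76, 136)], true, false)]]),
   ([(17, 149)], [[([(17, 149)], false, true), ([(35, 149)], true, false), ([(17, 35)], true, false)]]),
   ([(43, 151)], [[([(43, 151)], false, true), ([(17, 35), (19, 34), (68, 140), (76, 136)], false, false), ([(79, 138)], false, false), ([(43, 151)], true, true), ([(79, 138)], true, false), ([(17, 35), (19, 34), (68, 140), (76, 136)], true, false)]]),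
   ([(17, 151)], [[([(17, 151)], false, true), ([(43, 151)], true, false), ([(17, 43)], true, false)]]),
   ([(43, 162)], [[([(43, 162)], false, true), ([(17, 35), (19, 34), (68, 140), (76, 136)], false, false), ([(101, 191)], false, false), ([(43, 162)], true, true), ([(101, 191)], true, false), ([(17, 35), (19, 34), (68, 140), (76, 136)], true, false)]]),
   ([(17, 162)], [[([(17, 162)], false, true), ([(43, 162)], true, false), ([(17, 43)], true, false)]]),
   ([(43, 166)], [[([(43, 166)], false, true), ([(17, 35), (19, 34), (68, 140), (76, 136)], false, false), ([(109, 187)], false, false), ([(43, 166)], true, true), ([(109, 187)], true, false), ([(17, 35), (19, 34), (68, 140), (76, 136)], true, false)]]),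
   ([(17, 166)], [[([(17, 166)], false, true), ([(43, 166)], true, false), ([(17, 43)], true, false)]]),
   ([(35, 168)], [[([(35, 168)], false, true), ([(17, 35), (19, 34), (68, 140), (76, 136)], false, false), ([(127, 154)], false, false), ([(35, 168)], true, true), ([(127, 154)], true, false), ([(17, 35), (19, 34), (68, 140), (76, 136)], true, false)]]),
   ([(17, 168)], [[([(17, 168)], false, true), ([(35, 168)], true, false), ([(17, 35)], true, false)]]),
   ([(35, 172)], [[([(35, 172)], false, true), ([(17, 35), (19, 34), (68, 140), (76, 136)], false, false), ([(119, 158)], false, false), ([(35, 172)], true, true), ([(119, 158)], true, false), ([(17, 35), (19, 34), (68, 140), (76, 136)], true, false)]]),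
   ([(17, 172)], [[([(17, 172)], false, true), ([(35, 172)], true, false), ([(17, 35)], true, false)]]),
   ([(43, 177)], [[([(43, 177)], false, true), ([(17, 35), (19, 34), (68, 140), (76, 136)], false, false), ([(84, 172)], false, false), ([(43, 177)], true, true), ([(84, 172)], true, false), ([(17, 35), (19, 34), (68, 140), (76, 136)], true, false)]]),
   ([(17, 177)], [[([(17, 177)], false, true), ([(43, 177)], true, false), ([(17, 43)], true, false)]]),
   ([(43, 181)], [[([(43, 181)], false, true), ([(17, 35), (19, 34), (68, 140), (76, 136)], false, false), ([(92, 168)], false, false), ([(43, 181)], true, true), ([(92, 168)], true, false), ([(17, 35), (19, 34), (68, 140), (76, 136)], true, false)]]),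
   ([(17, 181)], [[([(17, 181)], false, true), ([(43, 181)], true, false), ([(17, 43)], true, false)]]),
   ([(35, 187)], [[([(35, 187)], false, true), ([(17, 35), (19, 34), (68, 140), (76, 136)], false, false), ([(78, 137)], false, false), ([(35, 187)], true, true), ([(78, 137)], true, false), ([(17, 35), (19, 34), (68, 140), (76, 136)], true, false)]]),
   ([(17, 187)], [[([(17, 187)], false, true), ([(35, 187)], true, false), ([(17, 35)], true, false)]]),
   ([(35, 191)], [[([(35, 191)], false, true), ([(17, 35), (19, 34), (68, 140), (76, 136)], false, false), ([(70, 141)], false, false), ([(35, 191)], true, true), ([(70, 141)], true, false), ([(17, 35), (19, 34), (68, 140), (76, 136)], true, false)]]),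
   ([(17, 191)], [[([(17, 191)], false, true), ([(35, 191)], true, false), ([(17, 35)], true, false)]]),
   ([(39, 196)], [[([(39, 196)], false, true), ([(17, 35), (19, 34), (68, 140), (76, 136)], false, false), ([(107, 182)], false, false), ([(39, 196)], true, true), ([(107, 182)], true, false), ([(17, 35), (19, 34), (68, 140), (76, 136)], true, false)]]),
   ([(17, 196)], [[([(17, 196)], false, true), ([(39, 196)], true, false), ([(17, 39)], true, false)]]),
   ([(35, 198)], [[([(35, 198)], false, true), ([(17, 35), (19, 34), (68, 140), (76, 136)], false, false), ([(92, 168)], false, false), ([(35, 198)], true, true), ([(92, 168)], true, false), ([(17, 35), (19, 34), (68, 140), (76, 136)], true, false)]]),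
   ([(17, 198)], [[([(17, 198)], false, true), ([(35, 198)], true, false), ([(17, 35)], true, false)]]),
   ([(39, 200)], [[([(39, 200)], false, true), ([(17, 35), (19, 34), (68, 140), (76, 136)], false, false), ([(99, 178)], false, false), ([(39, 200)], true, true), ([(99, 178)], true, false), ([(17, 35), (19, 34), (68, 140), (76, 136)], true, false)]]),
   ([(17, 200)], [[([(17, 200)], false, true), ([(39, 200)], true, false), ([(17, 39)], true, false)]]),
   ([(35, 202)], [[([(35, 202)], false, true), ([(17, 35), (19, 34), (68, 140), (76, 136)], false, false), ([(84, 172)], false, false), ([(35, 202)], true, true), ([(84, 172)], true, false), ([(17, 35), (19, 34), (68, 140), (76, 136)], true, false)]]),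
   ([(17, 202)], [[([(17, 202)], false, true), ([(35, 202)], true, false), ([(17, 35)], true, false)]]),
   ([(35, 209)], [[([(35, 209)], false, true), ([(17, 35), (19, 34), (68, 140), (76, 136)], false, false), ([(114, 145)], false, false), ([(35, 209)], true, true), ([(114, 145)], true, false), ([(17, 35), (19, 34), (68, 140), (76, 136)], true, false)]]),
   ([(17, 209)], [[([(17, 209)], false, true), ([(35, 209)], true, false), ([(17, 35)], true, false)]]),
   ([(39, 211)], [[([(39, 211)], false, true), ([(17, 35), (19, 34), (68, 140), (76, 136)], false, false), ([(69, 143)], false, false), ([(39, 211)], true, true), ([(69, 143)], true, false), ([(17, 35), (19, 34), (68, 140), (76, 136)], true, false)]]),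
   ([(17, 211)], [[([(17, 211)], false, true), ([(39, 211)], true, false), ([(17, 39)], true, false)]]),
   ([(35, 221)], [[([(35, 221)], false, true), ([(17, 35), (19, 34), (68, 140), (76, 136)], false, false), ([(122, 149)], false, false), ([(35, 221)], true, true), ([(122, 149)], true, false), ([(17, 35), (19, 34), (68, 140), (76, 136)], true, false)]]),
   ([(17, 221)], [[([(17, 221)], false, true), ([(35, 221)], true, false), ([(17, 35)], true, false)]]),
   ([(39, 223)], [[([(39, 223)], false, true), ([(17, 35), (19, 34), (68, 140), (76, 136)], false, false), ([(77, 139)], false, false), ([(39, 223)], true, true), ([(77, 139)], true, false), ([(17, 35), (19, 34), (68, 140), (76, 136)], true, false)]]),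
   ([(17, 223)], [[([(17, 223)], false, true), ([(39, 223)], true, false), ([(17, 39)], true, false)]]),
   ([(39, 226)], [[([(39, 226)], false, true), ([(17, 35), (19, 34), (68, 140), (76, 136)], false, false), ([(86, 173)], false, false), ([(39, 226)], true, true), ([(86, 173)], true, false), ([(17, 35), (19, 34), (68, 140), (76, 136)], true, false)]]),
   ([(17, 226)], [[([(17, 226)], false, true), ([(39, 226)], true, false), ([(17, 39)], true, false)]]),
   ([(35, 228)], [[([(35, 228)], false, true), ([(17, 35), (19, 34), (68, 140), (76, 136)], false, false), ([(109, 187)], false, false), ([(35, 228)], true, true), ([(109, 187)], true, false), ([(17, 35), (19, 34), (68, 140), (76, 136)], true, false)]]),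
   ([(17, 228)], [[([(17, 228)], false, true), ([(35, 228)], true, false), ([(17, 35)], true, false)]]),
   ([(35, 232)], [[([(35, 232)], false, true), ([(17, 35), (19, 34), (68, 140), (76, 136)], false, false), ([(101, 191)], false, false), ([(35, 232)], true, true), ([(101, 191)], true, false), ([(17, 35), (19, 34), (68, 140), (76, 136)], true, false)]]),
   ([(17, 232)], [[([(17, 232)], false, true), ([(35, 232)], true, false), ([(17, 35)], true, false)]]),
   ([(39, 238)], [[([(39, 238)], false, true), ([(17, 35), (19, 34), (68, 140), (76, 136)], false, false), ([(94, 169)], false, false), ([(39, 238)], true, true), ([(94, 169)], true, false), ([(17, 35), (19, 34), (68, 140), (76, 136)], true, false)]]),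
   ([(17, 238)], [[([(17, 238)], false, true), ([(39, 238)], true, false), ([(17, 39)], true, false)]]),
   ([(39, 241)], [[([(39, 241)], false, true), ([(17, 35), (19, 34), (68, 140), (76, 136)], false, false), ([(116, 156)], false, false), ([(39, 241)], true, true), ([(116, 156)], true, false), ([(17, 35), (19, 34), (68, 140), (76, 136)], true, false)]]),
   ([(17, 241)], [[([(17, 241)], false, true), ([(39, 241)], true, false), ([(17, 39)], true, false)]]),
   ([(35, 247)], [[([(35, 247)], false, true), ([(17, 35), (19, 34), (68, 140), (76, 136)], false, false), ([(79, 138)], false, false), ([(35, 247)], true, true), ([(79, 138)], true, false), ([(17, 35), (19, 34), (68, 140), (76, 136)], true, false)]]),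
   ([(17, 247)], [[([(17, 247)], false, true), ([(35, 247)], true, false), ([(17, 35)], true, false)]]),
   ([(35, 251)], [[([(35, 251)], false, true), ([(17, 35), (19, 34), (68, 140), (76, 136)], false, false), ([(71, 142)], false, false), ([(35, 251)], true, true), ([(71, 142)], true, false), ([(17, 35), (19, 34), (68, 140), (76, 136)], true, false)]]),
   ([(17, 251)], [[([(17, 251)], false, true), ([(35, 251)], true, false), ([(17, 35)], true, false)]]),
   ([(39, 253)], [[([(39, 253)], false, true), ([(17, 35), (19, 34), (68, 140), (76, 136)], false, false), ([(124, 152)], false, false), ([(39, 253)], true, true), ([(124, 152)], true, false), ([(17, 35), (19, 34), (68, 140), (76, 136)], true, false)]]),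
   ([(17, 253)], [[([(17, 253)], false, true), ([(39, 253)], true, false), ([(17, 39)], true, false)]])]

set_option maxRecDepth 1000000 in
theorem chk8 : chk qf8 Tm8 8 17 S8 = true := by decide +kernel

end Cfsg.Agent.Lib.Helper39.H1
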