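import Cfsg.Agent.Lib.Helper39.HeKN0
import Cfsg.Agent.Lib.Helper39.HeKN1
import Cfsg.Agent.Lib.Helper39.HeKN2
import Cfsg.Agent.Lib.Helper39.HeKN3
import Cfsg.Agent.Lib.Helper39.HeKN4
import Cfsg.Agent.Lib.Helper39.HeKN5
import Cfsg.Agent.Lib.Helper39.HeKN6
import Cfsg.Agent.Lib.Helper39.HeKN7
import Cfsg.Agent.Lib.Helper39.HeKN8
import Cfsg.Agent.Lib.Helper39.HeKN9
import Cfsg.Agent.Lib.Helper39.HeKN10
import Cfsg.Agent.Lib.Helper39.HeKN11
import Cfsg.Agent.Lib.Helper39.HeKN12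

set_option maxRecDepth 100000
set_option maxHeartbeats 0

namespace Cfsg.Agent.Lib.Helper39.HeK
open Cfsg.Agent.Lib.Helper38 

theorem chkN_all : ∀ v < 49980, cert.chkN v = true := by
  have h : allFrom 0 49980 cert.chkN = true :=
    (allFrom_join (lo := 0) (a := 48000) (b := 1980) (allFrom_join (lo := 0) (a := 44000) (b := 4000) (allFrom_join (lo := 0) (a := 40000) (b := 4000) (allFrom_join (lo := 0) (a := 36000) (b := 4000) (allFrom_join (lo := 0) (a := 32000) (b := 4000) (allFrom_join (lo := 0) (a := 28000) (b := 4000) (allFrom_join (lo := 0) (a := 24000) (b := 4000) (allFrom_join (lo := 0) (a := 20000) (b := 4000) (allFrom_join (lo := 0) (a := 16000) (b := 4000) (allFrom_join (lo := 0) (a := 12000) (b := 4000) (allFrom_join (lo := 0) (a := 8000) (b := 4000) (allFrom_join (lo := 0) (a := 4000) (b := 4000) chkN_f0 chkN_f1) chkN_f2) chkN_f3) chkN_f4) chkN_f5) chkN_f6) chkN_f7) chkN_f8) chkN_f9) chkN_f10) chkN_f11) chkN_f12)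
  intro v hv
  exact allFrom_iff.mp h v (Nat.zero_le _) (by omega)

end Cfsg.Agent.Lib.Helper39.HeK
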