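import Cfsg.Agent.Lib.Helper39.HeKData

set_option maxRecDepth 100000
set_option maxHeartbeats 0

namespace Cfsg.Agent.Lib.Helper39.HeK
open Cfsg.Agent.Lib.Helper38 

theorem chkV_96 : allFrom 48000 500 cert.chkV = true := by decide +kernel
theorem chkV_97 : allFrom 48500 500 cert.chkV = true := by decide +kernel
theorem chkV_98 : allFrom 49000 500 cert.chkV = true := by decide +kernel
theorem chkV_99 : allFrom 49500 500 cert.chkV = true := by decide +kernel
theorem chkV_100 : allFrom 50000 500 cert.chkV = true := by decide +kernel
theorem chkV_101 : allFrom 50500 4 cert.chkV = true := by decide +kernel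

theorem chkV_f12 : allFrom 48000 2504 cert.chkV = true :=
  (allFrom_join (lo := 48000) (a := 2500) (b := 4) (allFrom_join (lo := 48000) (a := 2000) (b := 500) (allFrom_join (lo := 48000) (a := 1500) (b := 500) (allFrom_join (lo := 48000) (a := 1000) (b := 500) (allFrom_join (lo := 48000) (a := 500) (b := 500) chkV_96 chkV_97) chkV_98) chkV_99) chkV_100) chkV_101)

end Cfsg.Agent.Lib.Helper39.HeK
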