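import Cfsg.Agent.Lib.Helper39.HeLD0

set_option maxRecDepth 100000
set_option maxHeartbeats 0

namespace Cfsg.Agent.Lib.Helper39.HeL
open Cfsg.Agent.Lib.Helper38

noncomputable def rTRoot : BT := .node 48 (.node 32 (.node 16 (rT0) (rT1)) (rT2)) (.node 80 (.node 64 (rT3) (rT4)) (rT5))
noncomputable def nTRoot : BT := nT0

/-- the certificate -/
noncomputable def cert : Cert where
  g := 7
  m := 672
  n := 168
  R := 1345
  fuel := 3
  nw := 17
  nrel := 10
  nsub := 17
  lg := 3
  lmask := 7
  rW := 347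
  eW := 42
  mv := 1023
  mr := 2047
  mw := 31
  mt := 15
  ml := 7
  oR := 10
  oK := 21
  oW := 23
  oT := 28
  oU := 32
  oM := 294
  oMR := 304
  oMW := 315
  oMT := 320
  oMU := 324
  oP := 334
  oL := 344
  rows := rTRoot
  wW := 28
  wt := 4
  wl := 3
  WD := 0x36200002d2000024200001b2000012200000920000002000002100000110000001005d745d75d758000d344000b2c4033cf3602baeb60238e36
  lgN := 4
  lmaskN := 15
  nW := 118
  wv := 10
  oCan := 70
  oPN := 80
  oLN := 90
  oComp := 93
  mc := 255
  oOP := 101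
  oOW := 111
  oOD := 116
  md := 1
  oODir := 117
  ncomp := 168
  ROOTS := 0x29ca6294a428ca2284a027c9e2749c26c9a2649825c962549424c922449023c8e2348c22c8a2248821c862148420c82204801fc7e1f47c1ec7a1e4781dc761d4741cc721c4701bc6e1b46c1ac6a1a46819c661946418c621846017c5e1745c16c5a1645815c561545414c521445013c4e1344c12c4a1244811c461144410c42104400fc3e0f43c0ec3a0e4380dc360d4340cc320c4300bc2e0b42c0ac2a0a42809c260942408c220842007c1e0741c06c1a0641805c160541404c120441003c0e0340c02c0a0240801c060140400c0200400
  nrows := nTRoot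

end Cfsg.Agent.Lib.Helper39.HeL
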