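import Cfsg.Agent.Lib.Helper39.HeND0

set_option maxRecDepth 100000
set_option maxHeartbeats 0

namespace Cfsg.Agent.Lib.Helper39.HeN
open Cfsg.Agent.Lib.Helper38

noncomputable def rTRoot : BT := .node 544 (.node 272 (.node 144 (.node 80 (.node 48 (.node 32 (.node 16 (rT0) (rT1)) (rT2)) (.node 64 (rT3) (rT4))) (.node 112 (.node 96 (rT5) (rT6)) (.node 128 (rT7) (rT8)))) (.node 208 (.node 176 (.node 160 (rT9) (rT10)) (.node 192 (rT11) (rT12))) (.node 240 (.node 224 (rT13) (rT14)) (.node 256 (rT15) (rT16))))) (.node 416 (.node 352 (.node 320 (.node 304 (.node 288 (rT17) (rT18)) (rT19)) (.node 336 (rT20) (rT21))) (.node 384 (.node 368 (rT22) (rT23)) (.node 400 (rT24) (rT25)))) (.node 480 (.node 448 (.node 432 (rT26) (rT27)) (.node 464 (rT28) (rT29))) (.node 512 (.node 496 (rT30) (rT31)) (.node 528 (rT32) (rT33)))))) (.node 816 (.node 688 (.node 624 (.node 592 (.node 576 (.node 560 (rT34) (rT35)) (rT36)) (.node 608 (rT37) (rT38))) (.node 656 (.node 640 (rT39) (rT40)) (.node 672 (rT41) (rT42)))) (.node 752 (.node 720 (.node 704 (rT43) (rT44))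 (.node 736 (rT45) (rT46))) (.node 784 (.node 768 (rT47) (rT48)) (.node 800 (rT49) (rT50))))) (.node 944 (.node 880 (.node 848 (.node 832 (rT51) (rT52)) (.node 864 (rT53) (rT54))) (.node 912 (.node 896 (rT55) (rT56)) (.node 928 (rT57) (rT58)))) (.node 1008 (.node 976 (.node 960 (rT59) (rT60)) (.node 992 (rT61) (rT62))) (.node 1040 (.node 1024 (rT63) (rT64)) (.node 1056 (rT65) (rT66))))))
noncomputable def nTRoot : BT := .node 272 (.node 144 (.node 80 (.node 48 (.node 32 (.node 16 (nT0) (nT1)) (nT2)) (.node 64 (nT3) (nT4))) (.node 112 (.node 96 (nT5) (nT6)) (.node 128 (nT7) (nT8)))) (.node 208 (.node 176 (.node 160 (nT9) (nT10)) (.node 192 (nT11) (nT12))) (.node 240 (.node 224 (nT13) (nT14)) (.node 256 (nT15) (nT16))))) (.node 400 (.node 336 (.node 304 (.node 288 (nT17) (nT18)) (.node 320 (nT19) (nT20))) (.node 368 (.node 352 (nT21) (nT22)) (.node 384 (nT23) (nT24)))) (.node 464 (.node 432 (.node 416 (nT25) (nT26)) (.node 448 (nT27) (nT28))) (.node 496 (.node 480 (nT29) (nT30)) (.node 512 (nT31) (nT32)))))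

/-- the certificate -/
noncomputable def cert : Cert where
  g := 7
  m := 8529
  n := 8330
  R := 30466
  fuel := 4
  nw := 38
  nrel := 25
  nsub := 32
  lg := 3
  lmask := 7
  rW := 463
  eW := 56
  mv := 16383
  mr := 32767
  mw := 63
  mt := 31
  ml := 7
  oR := 14
  oK := 29
  oW := 31
  oT := 37
  oU := 42
  oM := 392
  oMR := 406
  oMW := 421
  oMT := 427
  oMU := 432
  oP := 446
  oL := 460
  rows := rTRoot
  wW := 74
  wt := 5
  wl := 3
  WD := 0x21395a2d34634e568dc00000000000000082300000000000000003040000000000000000a100000000000000001840000000000000000410000000000000001b080000000000000005a200000000000000012080000000000000003620000000000000000908000000000000000122000000000000000000800001ab5ab5ab5ab500000000004d34d34c2c000000000028140a8a00000000000002eba1400000000001aebaea80000000000000069a1000000000000001658400000000000019e7998000000000000575d6600000000000011c719800000000000001964400000000000000555100000000000000114440034d34d34d34d34d50000000000000018e240000000000000053490000000000000010c240000000000000032c90000000000000228a260000000000000061810000000000000014504000000000000004101000000000000000c3040000000000000020810000000000004104108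
  lgN := 4
  lmaskN := 15
  nW := 157
  wv := 14
  oCan := 98
  oPN := 112
  oLN := 126
  oComp := 129
  mc := 7
  oOP := 132
  oOW := 146
  oOD := 152
  md := 15
  oODir := 156
  ncomp := 7
  ROOTS := 0x8001ec07501bc0080004000
  nrows := nTRoot

end Cfsg.Agent.Lib.Helper39.HeN
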