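import Cfsg.Agent.Lib.Helper39.HeNData

set_option maxRecDepth 100000
set_option maxHeartbeats 0

namespace Cfsg.Agent.Lib.Helper39.HeN
open Cfsg.Agent.Lib.Helper38 

theorem chkN_16 : allFrom 8000 330 cert.chkN = true := by decide +kernel

theorem chkN_f2 : allFrom 8000 330 cert.chkN = true :=
  chkN_16

end Cfsg.Agent.Lib.Helper39.HeN
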