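import Cfsg.Agent.Lib.Helper39.HeNN0
import Cfsg.Agent.Lib.Helper39.HeNN1
import Cfsg.Agent.Lib.Helper39.HeNN2

set_option maxRecDepth 100000
set_option maxHeartbeats 0

namespace Cfsg.Agent.Lib.Helper39.HeN
open Cfsg.Agent.Lib.Helper38 

theorem chkN_all : ∀ v < 8330, cert.chkN v = true := by
  have h : allFrom 0 8330 cert.chkN = true :=
    (allFrom_join (lo := 0) (a := 8000) (b := 330) (allFrom_join (lo := 0) (a := 4000) (b := 4000) chkN_f0 chkN_f1) chkN_f2)
  intro v hv
  exact allFrom_iff.mp h v (Nat.zero_le _) (by omega)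

end Cfsg.Agent.Lib.Helper39.HeN
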