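import Cfsg.Agent.Lib.Helper39.HeNData

set_option maxRecDepth 100000
set_option maxHeartbeats 0

namespace Cfsg.Agent.Lib.Helper39.HeN
open Cfsg.Agent.Lib.Helper38 

theorem chkV_16 : allFrom 8000 500 cert.chkV = true := by decide +kernel
theorem chkV_17 : allFrom 8500 29 cert.chkV = true := by decide +kernel

theorem chkV_f2 : allFrom 8000 529 cert.chkV = true :=
  (allFrom_join (lo := 8000) (a := 500) (b := 29) chkV_16 chkV_17)

end Cfsg.Agent.Lib.Helper39.HeN
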