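import Cfsg.Agent.Lib.Helper39.OrdGen

/-!
Data for the order and the simplicity of the presented Held group (generated).
-/

namespace Cfsg.Agent.Lib.Helper39.HeOrd

/-- level 1: words fixing the earlier base points -/
def cw1 : List (List ℕ) := [
  [2],
  [3],
  [5],
  [0, 1, 0, 1],
  [1, 2, 3, 4, 1, 2, 3, 4, 1, 2, 3, 4, 1, 2, 3, 4, 1, 2, 3, 4, 1, 2, 3, 4, 1, 2, 3, 4]]

/-- level 1: orbit tree with root 258, 136 points -/
def ct1 : List (ℕ × ℕ × ℕ) := [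
  (171, 258, 0), (389, 258, 1), (101, 171, 1), (259, 171, 3), (545, 389, 0), (544, 389, 2), (56, 101, 2),
  (172, 101, 3), (263, 259, 0), (340, 545, 2), (2056, 544, 4), (103, 56, 3), (794, 56, 4), (170, 172, 0),
  (218, 340, 1), (1984, 340, 4), (2008, 2056, 1), (167, 103, 0), (1546, 103, 4), (1194, 794, 1),
  (100, 170, 1), (141, 218, 0), (1352, 218, 4), (1756, 1984, 1), (1757, 1984, 2), (217, 167, 1),
  (99, 167, 3), (1550, 167, 4), (1137, 1546, 1), (82, 141, 1), (219, 141, 3), (917, 141, 4), (1484, 1352, 2),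
  (1349, 1756, 0), (1504, 1756, 2), (137, 217, 0), (169, 217, 2), (1875, 217, 4), (1182, 99, 4),
  (1770, 1550, 1), (1540, 1550, 2), (46, 82, 2), (142, 82, 3), (913, 82, 4), (230, 219, 0), (1105, 219, 4),
  (574, 917, 1), (1078, 1349, 2), (79, 137, 1), (213, 137, 2), (1769, 137, 4), (1624, 169, 4),
  (1912, 1875, 2), (1601, 1182, 1), (1199, 1182, 2), (1366, 1770, 0), (2013, 1770, 2), (84, 46, 3),
  (1381, 46, 4), (140, 142, 0), (691, 142, 4), (1350, 913, 2), (1068, 1105, 1), (918, 574, 2), (81, 79, 2),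
  (135, 79, 3), (934, 79, 4), (1738, 213, 4), (1365, 1769, 1), (1799, 1769, 2), (1944, 1624, 2),
  (1694, 1912, 4), (1926, 1601, 0), (1771, 1366, 2), (548, 2013, 4), (1739, 84, 4), (1367, 1381, 1),
  (956, 1381, 2), (1072, 140, 4), (1079, 691, 2), (964, 1350, 4), (1075, 1068, 0), (1353, 1068, 2),
  (1748, 918, 4), (916, 81, 4), (1737, 135, 4), (607, 934, 2), (1323, 1738, 1), (2001, 1738, 2),
  (962, 1365, 2), (1527, 1799, 1), (1978, 1799, 4), (515, 1694, 4), (1393, 1771, 1), (347, 1771, 4),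
  (1732, 1739, 1), (1338, 1739, 2), (1383, 956, 1), (949, 1072, 1), (1255, 1072, 2), (1312, 1079, 4),
  (1396, 964, 1), (1373, 964, 4), (1077, 1075, 2), (839, 916, 2), (1336, 1737, 2), (963, 607, 1),
  (1166, 607, 4), (903, 1323, 2), (1746, 2001, 1), (1392, 962, 1), (1779, 962, 4), (315, 1527, 4),
  (1818, 1978, 1), (320, 1978, 4), (465, 347, 1), (1780, 1383, 0), (838, 1255, 1), (1781, 1396, 0),
  (840, 1077, 1), (503, 839, 1), (1744, 1336, 1), (1816, 963, 4), (767, 1166, 1), (1775, 1166, 4),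
  (1337, 903, 1), (1745, 1779, 1), (505, 315, 2), (504, 465, 2), (1394, 1780, 1), (1488, 838, 4),
  (1817, 1744, 0), (1441, 1816, 2), (1110, 504, 4), (1526, 1394, 0)]

/-- level 2: words fixing the earlier base points -/
def cw2 : List (List ℕ) := [
  [5],
  [0, 1, 0, 1],
  [2, 3, 2, 3, 2],
  [1, 2, 3, 4, 1, 2, 3, 4, 1, 2, 3, 4, 1, 2, 3, 4, 1, 2, 3, 4, 1, 2, 3, 4, 1, 2, 3, 4]]

/-- level 2: orbit tree with root 50, 100 points -/
def ct2 : List (ℕ × ℕ × ℕ) := [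
  (222, 50, 2), (1537, 50, 3), (225, 222, 0), (734, 222, 3), (1868, 1537, 0), (1538, 1537, 3), (102, 225, 2),
  (445, 225, 3), (965, 734, 0), (1027, 734, 3), (910, 1868, 2), (1870, 1868, 3), (57, 102, 0), (55, 102, 1),
  (1026, 102, 3), (678, 445, 0), (648, 445, 3), (94, 965, 2), (1019, 965, 3), (858, 1027, 0), (911, 910, 0),
  (984, 910, 1), (616, 910, 3), (7, 1870, 3), (29, 57, 1), (14, 55, 2), (644, 55, 3), (1448, 1026, 0),
  (733, 1026, 3), (1066, 678, 2), (52, 94, 0), (152, 94, 1), (998, 94, 3), (341, 1019, 3), (342, 858, 3),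
  (990, 911, 1), (182, 911, 2), (724, 911, 3), (980, 984, 3), (617, 616, 0), (6, 14, 0), (738, 14, 3),
  (1017, 644, 0), (444, 644, 3), (1332, 1448, 2), (988, 1448, 3), (1119, 733, 0), (1496, 1066, 0),
  (677, 1066, 1), (90, 52, 1), (175, 52, 2), (1218, 52, 3), (1033, 152, 3), (1361, 998, 0), (1058, 990, 2),
  (112, 182, 0), (287, 182, 1), (406, 182, 3), (1217, 724, 3), (267, 617, 2), (941, 617, 3), (740, 738, 0),
  (899, 1332, 0), (591, 1332, 1), (1458, 1332, 3), (1662, 988, 3), (944, 1119, 2), (1329, 1119, 3),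
  (442, 1496, 2), (1154, 90, 3), (269, 175, 1), (1451, 175, 3), (809, 1218, 0), (823, 1218, 3),
  (642, 1361, 2), (497, 1361, 3), (184, 112, 1), (663, 112, 3), (1173, 406, 3), (854, 267, 3),
  (1010, 899, 2), (762, 899, 3), (717, 591, 2), (1150, 1458, 3), (1271, 1154, 3), (1460, 269, 3),
  (1036, 1451, 0), (679, 1451, 3), (319, 642, 3), (529, 184, 3), (864, 663, 0), (1296, 663, 3),
  (1280, 1173, 0), (1279, 854, 0), (468, 1010, 3), (782, 1460, 3), (868, 679, 0), (528, 529, 0),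
  (781, 1280, 3)]

/-- level 3: words fixing the earlier base points -/
def cw3 : List (List ℕ) := [
  [0, 1, 0, 1],
  [4, 3, 2, 1, 4, 3, 2, 1, 4, 3, 2, 1, 4, 3, 2, 1, 4, 3, 2, 1, 4, 3, 2, 1, 4, 3, 2, 1, 5, 2, 3, 2, 3, 2, 1, 2, 3, 4, 1, 2, 3, 4, 1, 2, 3, 4, 1, 2, 3, 4, 1, 2, 3, 4, 1, 2, 3, 4, 1, 2, 3, 4, 0, 1, 0, 1, 5, 2, 3, 2, 3, 2, 5, 2, 3, 2, 3, 2]]

/-- level 3: orbit tree with root 2, 18 points -/
def ct3 : List (ℕ × ℕ × ℕ) := [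
  (1500, 2, 1), (1753, 1500, 1), (1796, 1753, 0), (483, 1753, 1), (549, 1796, 1), (1143, 483, 0),
  (1785, 483, 1), (344, 549, 0), (506, 549, 1), (37, 1143, 1), (1407, 1785, 0), (801, 506, 1), (68, 37, 0),
  (148, 37, 1), (750, 801, 0), (1084, 68, 1), (382, 148, 1)]

/-- level 4: words fixing the earlier base points -/
def cw4 : List (List ℕ) := [
  [0, 1, 0, 1]]

/-- level 4: orbit tree with root 252, 2 points -/
def ct4 : List (ℕ × ℕ × ℕ) := [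
  (338, 252, 0)]

/-- level 5: words fixing the earlier base points -/
def cw5 : List (List ℕ) := [
  [2, 3, 2, 3, 2, 5, 2, 3, 2, 3, 2, 5, 1, 0, 1, 0, 4, 3, 2, 1, 4, 3, 2, 1, 4, 3, 2, 1, 4, 3, 2, 1, 4, 3, 2, 1, 4, 3, 2, 1, 4, 3, 2, 1, 2, 3, 2, 3, 2, 5, 1, 2, 3, 4, 1, 2, 3, 4, 1, 2, 3, 4, 1, 2, 3, 4, 1, 2, 3, 4, 1, 2, 3, 4, 1, 2, 3, 4, 0, 1, 0, 1, 4, 3, 2, 1, 4, 3, 2, 1, 4, 3, 2, 1, 4, 3, 2, 1, 4, 3, 2, 1, 4, 3, 2, 1, 4, 3, 2, 1, 5, 2, 3, 2, 3, 2, 1, 2, 3, 4, 1, 2, 3, 4, 1, 2, 3, 4, 1, 2, 3, 4, 1, 2, 3, 4, 1, 2, 3, 4, 1, 2, 3, 4, 0, 1, 0, 1, 5, 2, 3, 2, 3, 2, 5, 2, 3, 2, 3, 2]]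

/-- level 5: orbit tree with root 116, 2 points -/
def ct5 : List (ℕ × ℕ × ℕ) := [
  (117, 116, 0)]

/-- level 6: words fixing the earlier base points -/
def cw6 : List (List ℕ) := [
  [2, 3, 2, 3, 2, 5, 2, 3, 2, 3, 2, 5, 2, 3, 2, 3, 2, 5, 2, 3, 2, 3, 2, 5, 2, 3, 2, 3, 2]]

/-- level 6: orbit tree with root 13, 2 points -/
def ct6 : List (ℕ × ℕ × ℕ) := [
  (27, 13, 0)]

/-- a word for an involution `t` with `t a t = a'` -/
def t3w : List ℕ := [1, 2, 3, 5, 4, 3, 2, 3, 4, 1, 2, 3, 2, 3, 1, 2, 3, 5, 4, 3, 2, 0, 1]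

/-- a conjugating word -/
def uw : List ℕ := [2, 3, 1, 2, 3, 5, 2, 3, 6, 1, 2, 3, 5, 4, 3, 2, 1]

/-- the relators not involving `b`, and `b` -/
def WPw : List (List ℕ) := [
  [0, 2, 0, 2],
  [0, 3, 0, 3],
  [0, 4, 0, 4],
  [0, 5, 0, 5],
  [0, 6, 0, 6],
  [2, 3, 2, 3, 2, 3, 2, 3, 2, 3, 2, 3, 2, 3, 2, 3, 2, 3, 2, 3],
  [2, 4, 2, 4],
  [2, 5, 2, 5],
  [2, 6, 2, 6],
  [3, 4, 3, 4, 3, 4],
  [3, 5, 3, 5, 3, 5],
  [3, 6, 3, 6, 3, 6],
  [4, 5, 4, 5],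
  [4, 6, 4, 6],
  [5, 6, 5, 6, 5, 6, 5, 6],
  [4, 6, 5, 6, 5],
  [0, 3, 2, 3, 2, 3, 2, 3, 2, 3, 2],
  [2, 3, 5, 6, 2, 3, 5, 6, 2, 3, 5, 6, 2, 3, 5, 6],
  [1]]

/-- the relators on `d, e, f, g`, and `a, b, c` -/
def WLw : List (List ℕ) := [
  [3, 4, 3, 4, 3, 4],
  [3, 5, 3, 5, 3, 5],
  [3, 6, 3, 6, 3, 6],
  [4, 5, 4, 5],
  [4, 6, 4, 6],
  [5, 6, 5, 6, 5, 6, 5, 6],
  [4, 6, 5, 6, 5],
  [0],
  [1],
  [2]]

/-- maximality data: for each suborbit a word leading into it, and edges showing transitivity -/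
def MD : List (List ℕ × List (ℕ × ℕ)) := [
  ([], []),
  ([1], [(0, 0), (4, 0), (57, 0), (61, 0), (65, 0), (68, 0)]),
  ([1, 2, 3, 2, 1], [(0, 0), (18, 0), (21, 0), (22, 0), (23, 0), (36, 0)]),
  ([1, 2, 3, 5, 2, 3, 2, 1], [(0, 0), (114, 0), (168, 0), (171, 0), (189, 0), (208, 0)]),
  ([1, 2, 3, 5, 4, 3, 2, 1], [(0, 0), (120, 0), (225, 0), (249, 0), (269, 0), (270, 0)]),
  ([1, 2, 3, 6, 5, 3, 2, 1], [(0, 0), (0, 1), (123, 0), (133, 0), (137, 1), (207, 0)]),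
  ([1, 2, 3, 5, 6, 3, 2, 1], [(0, 0), (0, 1), (123, 1), (133, 0), (137, 0), (207, 1)])]

end Cfsg.Agent.Lib.Helper39.HeOrd
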