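import Cfsg.Agent.S1683
import Cfsg.Agent.Lib.Helper39.OrdGen
import Cfsg.Agent.Lib.Helper39.HeOrdData
import Cfsg.Agent.Lib.Helper39.HeKV
import Cfsg.Agent.Lib.Helper39.HeKN
import Cfsg.Agent.Lib.Helper39.HeQV
import Cfsg.Agent.Lib.Helper39.HeQN
import Cfsg.Agent.Lib.Helper39.HeRV
import Cfsg.Agent.Lib.Helper39.HeRN
import Cfsg.Agent.Lib.Helper39.HeLV
import Cfsg.Agent.Lib.Helper39.HeLN
import Cfsg.Agent.Lib.Helper39.HeNV
import Cfsg.Agent.Lib.Helper39.HeNN
import Cfsg.Agent.Lib.Helper39.HeNO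

/-!
The presented Held group is simple of order 4030387200.

* upper bound for the order: the subgroup `K = ⟨d, f, g, cdc⟩` has index 49980; it is a quotient of
  the subgroup generated by the same words in the group `P` presented by the relators not
  involving `b`, which has index 2 there; and `P` has order at most `960 · 168` (enumeration over
  `⟨d, e, f, g⟩`, presented with order 168);
* lower bound: a chain of seven base points among the 2058 cosets of `⟨a, c, d, e, f, (ab)², (bcde)⁷⟩`,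
  with orbit trees over words fixing the earlier base points; the base then detects the identity;
* simplicity: Iwasawa's criterion for the maximal subgroup `⟨c, d, f, g, bab, t⟩` of index 8330,
  which normalises the four-group `⟨a, tat⟩`.
-/

set_option maxRecDepth 100000
set_option maxHeartbeats 0
set_option linter.unusedSimpArgs false
set_option linter.unusedVariables false

namespace Cfsg.Agent.Lib.Helper39.HeOrd

open Cfsg.Agent.Lib.Helper38 Cfsg.Agent.Lib.Helper39.Ord

/-- the presented group -/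
abbrev G : Type := PresentedGroup HeP.rels

/-- the generators -/
noncomputable abbrev γ : ℕ → G := fun s => PresentedGroup.of (HeP.gen s)

/-- the subgroup `⟨a, c, d, e, f, (ab)², (bcde)⁷⟩` -/
abbrev H1 : Subgroup G :=
  (Subgroup.closure Cfsg.Agent.S1683.S).map (PresentedGroup.mk HeP.rels)

/-- the subgroup `⟨c, d, f, g, bab, t⟩` -/
noncomputable abbrev H2 : Subgroup G := HeN.cert.subgp γ

theorem hP1 : Cert.Pres He2058.cert γ H1 := Cfsg.Agent.S1683.hP
theorem hC1 : Cert.Checks He2058.cert := Cfsg.Agent.S1683.hC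
theorem hO1 : Cert.OChecks He2058.cert := Cfsg.Agent.S1683.hO

/-! ### The upper bound -/

theorem wordsK : (List.range HeK.cert.nrel).map HeK.cert.wordL = HeP.words := by decide +kernel
theorem wordsN : (List.range HeN.cert.nrel).map HeN.cert.wordL = HeP.words := by decide +kernel
theorem wordsQ : (List.range HeQ.cert.nrel).map HeQ.cert.wordL = WPw := by decide +kernel
theorem wordsR : (List.range HeR.cert.nrel).map HeR.cert.wordL = WPw := by decide +kernel
theorem wordsL : (List.range HeL.cert.nrel).map HeL.cert.wordL = WLw := by decide +kernel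

theorem chkGK : HeK.cert.chkG = true := by decide +kernel
theorem chkGN : HeN.cert.chkG = true := by decide +kernel
theorem chkGQ : HeQ.cert.chkG = true := by decide +kernel
theorem chkGR : HeR.cert.chkG = true := by decide +kernel
theorem chkGL : HeL.cert.chkG = true := by decide +kernel

theorem hPK : Cert.Pres HeK.cert γ (HeK.cert.subgp γ) :=
  HeK.cert.pres_sub HeP.rels HeP.gen HeP.idx HeP.gen_idx HeP.idx_lt HeP.idx_gen HeP.words wordsK
    HeP.of_invol HeP.of_words (fun σ hσ hw => HeP.lift_one σ hσ hw) HeK.chkN_all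
theorem hCK : Cert.Checks HeK.cert := ⟨HeK.chkV_all, HeK.chkN_all, chkGK⟩

theorem hPN : Cert.Pres HeN.cert γ H2 :=
  HeN.cert.pres_sub HeP.rels HeP.gen HeP.idx HeP.gen_idx HeP.idx_lt HeP.idx_gen HeP.words wordsN
    HeP.of_invol HeP.of_words (fun σ hσ hw => HeP.lift_one σ hσ hw) HeN.chkN_all
theorem hCN : Cert.Checks HeN.cert := ⟨HeN.chkV_all, HeN.chkN_all, chkGN⟩
theorem chkRootsN : HeN.cert.chkRoots = true := by decide +kernel
theorem hON : Cert.OChecks HeN.cert := ⟨HeN.chkO_all, chkRootsN⟩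

theorem hPQ : Cert.Pres HeQ.cert (WP.gen HeQ.cert.g WPw) (HeQ.cert.subgp (WP.gen HeQ.cert.g WPw)) :=
  WP.pres HeQ.cert WPw wordsQ HeQ.chkN_all
theorem hCQ : Cert.Checks HeQ.cert := ⟨HeQ.chkV_all, HeQ.chkN_all, chkGQ⟩
theorem hPR : Cert.Pres HeR.cert (WP.gen HeR.cert.g WPw) (HeR.cert.subgp (WP.gen HeR.cert.g WPw)) :=
  WP.pres HeR.cert WPw wordsR HeR.chkN_all
theorem hCR : Cert.Checks HeR.cert := ⟨HeR.chkV_all, HeR.chkN_all, chkGR⟩
theorem hPL : Cert.Pres HeL.cert (WP.gen HeL.cert.g WLw) (HeL.cert.subgp (WP.gen HeL.cert.g WLw)) :=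
  WP.pres HeL.cert WLw wordsL HeL.chkN_all
theorem hCL : Cert.Checks HeL.cert := ⟨HeL.chkV_all, HeL.chkN_all, chkGL⟩

theorem cardL : Finite (WP 7 WLw) ∧ Nat.card (WP 7 WLw) = 168 := ub_bot hPL hCL (by decide)

theorem okR : ∀ w ∈ WLw, okw WPw (actL [3, 4, 5, 6]) w = true := by decide +kernel
theorem okQ : ∀ w ∈ WPw, okw HeP.words (actL [0, 2, 3, 4, 5, 6]) w = true := by decide +kernel

theorem subR : allFrom HeR.cert.nsub (Nat.sub HeR.cert.nw HeR.cert.nsub)
    (fun wid => (HeR.cert.wordL wid).all (actL [3, 4, 5, 6])) = true := by decide +kernel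

theorem cardP : Finite (WP 7 WPw) ∧ Nat.card (WP 7 WPw) ≤ 960 * 168 := by
  haveI : Finite (WP 7 WLw) := cardL.1
  have h := ub_step hPR hCR WPw (fun w hw => WP.gen_word 7 WPw hw) 7 WLw (actL [3, 4, 5, 6])
    (actL_ge [3, 4, 5, 6] 7 (by decide)) okR (Cert.hsub_of subR)
  refine ⟨h.1, ?_⟩
  have h2 := h.2
  rw [cardL.2] at h2
  exact h2

theorem sameQ : ∀ j < 4, HeK.cert.wordL (HeK.cert.nsub + j) = HeQ.cert.wordL (HeQ.cert.nsub + j) ∧
    (HeK.cert.wordL (HeK.cert.nsub + j)).all (actL [0, 2, 3, 4, 5, 6]) = true := by decide +kernel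

theorem cardG_le : Finite G ∧ Nat.card G ≤ 4030387200 := by
  haveI : Finite (WP 7 WPw) := cardP.1
  have h := ub_step_sub hPK hCK HeP.words HeP.of_words 7 WPw (actL [0, 2, 3, 4, 5, 6])
    (actL_ge [0, 2, 3, 4, 5, 6] 7 (by decide)) okQ hPQ hCQ 4 (by decide) (by decide) sameQ
  refine ⟨h.1, ?_⟩
  have h2 : Nat.card G * 2 ≤ 49980 * Nat.card (WP 7 WPw) := h.2
  have h3 := cardP.2
  omega

instance finG : Finite G := cardG_le.1

/-! ### The lower bound and the base -/

theorem hA1 : TAct He2058.cert γ (He2058.cert.F γ H1) := tact_of hP1 hC1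

/-- the labelling of the cosets of `H1` -/
noncomputable abbrev F1 : ℕ → G ⧸ H1 := He2058.cert.F γ H1

/-- the base points with their orbit lengths -/
def chainL : List (ℕ × ℕ) := [(0, 2058), (258, 136), (50, 100), (2, 18), (252, 2), (116, 2), (13, 2)]

theorem lv0 : 2058 ≤ (MulAction.orbit (PSt G F1 []) (F1 0)).ncard := top_orbit hA1 0
theorem lv1 : 136 ≤ (MulAction.orbit (PSt G F1 [0]) (F1 258)).ncard :=
  reach_tree hA1 [0] cw1 (by decide +kernel) 258 (by decide) ct1 (by decide +kernel) (by decide)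
theorem lv2 : 100 ≤ (MulAction.orbit (PSt G F1 [258, 0]) (F1 50)).ncard :=
  reach_tree hA1 [258, 0] cw2 (by decide +kernel) 50 (by decide) ct2 (by decide +kernel) (by decide)
theorem lv3 : 18 ≤ (MulAction.orbit (PSt G F1 [50, 258, 0]) (F1 2)).ncard :=
  reach_tree hA1 [50, 258, 0] cw3 (by decide +kernel) 2 (by decide) ct3 (by decide +kernel)
    (by decide)
theorem lv4 : 2 ≤ (MulAction.orbit (PSt G F1 [2, 50, 258, 0]) (F1 252)).ncard :=
  reach_tree hA1 [2, 50, 258, 0] cw4 (by decide +kernel) 252 (by decide) ct4 (by decide +kernel)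
    (by decide)
theorem lv5 : 2 ≤ (MulAction.orbit (PSt G F1 [252, 2, 50, 258, 0]) (F1 116)).ncard :=
  reach_tree hA1 [252, 2, 50, 258, 0] cw5 (by decide +kernel) 116 (by decide) ct5
    (by decide +kernel) (by decide)
theorem lv6 : 2 ≤ (MulAction.orbit (PSt G F1 [116, 252, 2, 50, 258, 0]) (F1 13)).ncard :=
  reach_tree hA1 [116, 252, 2, 50, 258, 0] cw6 (by decide +kernel) 13 (by decide) ct6
    (by decide +kernel) (by decide)

theorem chain : ChainF G F1 [] chainL := by
  simp only [chainL, ChainF]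
  exact ⟨lv0, lv1, lv2, lv3, lv4, lv5, lv6, trivial⟩

theorem prodL : (chainL.map Prod.snd).prod = 4030387200 := by decide +kernel

theorem ob : Nat.card G = (chainL.map Prod.snd).prod ∧
    ∀ g : G, (∀ p ∈ chainL.map Prod.fst, g • F1 p = F1 p) → g = 1 :=
  order_baseF F1 chainL chain (by rw [prodL]; exact cardG_le.2)

/-- **The order.** -/
theorem he_card : Nat.card G = 4030387200 := ob.1.trans prodL

/-- the word `w` fixes the base points -/
noncomputable def chkB (w : List ℕ) : Bool :=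
  (chainL.map Prod.fst).all (fun p => fixB He2058.cert w p)

/-- a word fixing the base points is trivial -/
theorem word_one (w : List ℕ) (h : chkB w = true) : (w.map γ).prod = 1 := by
  apply ob.2
  intro p hp
  exact fix_of hA1 (List.all_eq_true.mp h p hp)

/-! ### Identities -/

theorem hγ : ∀ s, γ s * γ s = 1 := hP1.hγ

theorem γ_inv (s : ℕ) : (γ s)⁻¹ = γ s := inv_eq_of_mul_eq_one_left (hγ s)

/-- the involution `t` -/
noncomputable def t3 : G := (t3w.map γ).prod

/-- a word for `a' = t a t` -/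
def aw : List ℕ := t3w ++ 0 :: t3w.reverse

/-- the involution `a' = t a t` -/
noncomputable def a' : G := (aw.map γ).prod

theorem a'_eq : a' = t3 * γ 0 * t3⁻¹ := by
  unfold a' aw t3
  rw [List.map_append, List.prod_append, List.map_cons, List.prod_cons, prod_reverse_inv hγ,
    mul_assoc]

theorem t3_sq : t3 * t3 = 1 := by
  have h := word_one (t3w ++ t3w) (by decide +kernel)
  rw [List.map_append, List.prod_append] at h
  exact h

theorem t3_inv : t3⁻¹ = t3 := inv_eq_of_mul_eq_one_left t3_sq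

theorem a'_sq : a' * a' = 1 := by
  rw [a'_eq]
  calc t3 * γ 0 * t3⁻¹ * (t3 * γ 0 * t3⁻¹) = t3 * (γ 0 * γ 0) * t3⁻¹ := by group
    _ = 1 := by rw [hγ, mul_one, mul_inv_cancel]

theorem a'_inv : a'⁻¹ = a' := inv_eq_of_mul_eq_one_left a'_sq

theorem conj_a (s : ℕ) (h : chkB [s, 0, s, 0] = true) : γ s * γ 0 * (γ s)⁻¹ = γ 0 := by
  have h1 := word_one _ h
  simp only [List.map_cons, List.map_nil, List.prod_cons, List.prod_nil, mul_one] at h1
  rw [γ_inv]
  calc γ s * γ 0 * γ s = (γ s * (γ 0 * (γ s * γ 0))) * (γ 0)⁻¹ := by group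
    _ = γ 0 := by rw [h1, one_mul, γ_inv]

theorem conj_a' (s : ℕ) (h : chkB (s :: (aw ++ s :: aw)) = true) : γ s * a' * (γ s)⁻¹ = a' := by
  have h1 := word_one _ h
  rw [List.map_cons, List.prod_cons, List.map_append, List.prod_append, List.map_cons,
    List.prod_cons] at h1
  have h2 : γ s * (a' * (γ s * a')) = 1 := h1
  rw [γ_inv]
  calc γ s * a' * γ s = (γ s * (a' * (γ s * a'))) * a'⁻¹ := by group
    _ = a' := by rw [h2, one_mul, a'_inv]

theorem ca2 : γ 2 * γ 0 * (γ 2)⁻¹ = γ 0 := conj_a 2 (by decide +kernel)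
theorem ca3 : γ 3 * γ 0 * (γ 3)⁻¹ = γ 0 := conj_a 3 (by decide +kernel)
theorem ca5 : γ 5 * γ 0 * (γ 5)⁻¹ = γ 0 := conj_a 5 (by decide +kernel)
theorem ca6 : γ 6 * γ 0 * (γ 6)⁻¹ = γ 0 := conj_a 6 (by decide +kernel)
theorem cb2 : γ 2 * a' * (γ 2)⁻¹ = a' := conj_a' 2 (by decide +kernel)
theorem cb3 : γ 3 * a' * (γ 3)⁻¹ = a' := conj_a' 3 (by decide +kernel)
theorem cb5 : γ 5 * a' * (γ 5)⁻¹ = a' := conj_a' 5 (by decide +kernel)
theorem cb6 : γ 6 * a' * (γ 6)⁻¹ = a' := conj_a' 6 (by decide +kernel)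

/-- the involution `bab` -/
noncomputable def t1 : G := γ 1 * γ 0 * γ 1

theorem t1_sq : t1 * t1 = 1 := by
  unfold t1
  calc γ 1 * γ 0 * γ 1 * (γ 1 * γ 0 * γ 1) = γ 1 * (γ 0 * (γ 1 * γ 1) * γ 0) * γ 1 := by group
    _ = 1 := by rw [hγ, mul_one, hγ, mul_one, hγ]

theorem t1_inv : t1⁻¹ = t1 := inv_eq_of_mul_eq_one_left t1_sq

theorem t1_a : t1 * γ 0 * t1⁻¹ = γ 0 := by
  have h1 := word_one [1, 0, 1, 0, 1, 0, 1, 0] (by decide +kernel)
  simp only [List.map_cons, List.map_nil, List.prod_cons, List.prod_nil, mul_one] at h1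
  rw [t1_inv]
  unfold t1
  calc γ 1 * γ 0 * γ 1 * γ 0 * (γ 1 * γ 0 * γ 1)
      = (γ 1 * (γ 0 * (γ 1 * (γ 0 * (γ 1 * (γ 0 * (γ 1 * γ 0))))))) * (γ 0)⁻¹ := by group
    _ = γ 0 := by rw [h1, one_mul, γ_inv]

theorem t1_a' : t1 * a' * t1⁻¹ = γ 0 * a' := by
  have h1 := word_one ([1, 0, 1] ++ (aw ++ ([1, 0, 1] ++ (aw ++ [0])))) (by decide +kernel)
  rw [List.map_append, List.prod_append, List.map_append, List.prod_append, List.map_append,
    List.prod_append, List.map_append, List.prod_append] at h1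
  simp only [List.map_cons, List.map_nil, List.prod_cons, List.prod_nil, mul_one] at h1
  have h2 : γ 1 * (γ 0 * γ 1) * (a' * (γ 1 * (γ 0 * γ 1) * (a' * γ 0))) = 1 := h1
  rw [t1_inv]
  unfold t1
  calc γ 1 * γ 0 * γ 1 * a' * (γ 1 * γ 0 * γ 1)
      = (γ 1 * (γ 0 * γ 1) * (a' * (γ 1 * (γ 0 * γ 1) * (a' * γ 0)))) * ((γ 0)⁻¹ * a'⁻¹) := by group
    _ = γ 0 * a' := by rw [h2, one_mul, γ_inv, a'_inv]

theorem t3_a : t3 * γ 0 * t3⁻¹ = a' := a'_eq.symm

theorem t3_a' : t3 * a' * t3⁻¹ = γ 0 := by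
  rw [a'_eq, t3_inv]
  calc t3 * (t3 * γ 0 * t3) * t3 = (t3 * t3) * γ 0 * (t3 * t3) := by group
    _ = γ 0 := by rw [t3_sq, one_mul, mul_one]

theorem comm_aa' : γ 0 * a' = a' * γ 0 := by
  have h1 := word_one (0 :: (aw ++ 0 :: aw)) (by decide +kernel)
  rw [List.map_cons, List.prod_cons, List.map_append, List.prod_append, List.map_cons,
    List.prod_cons] at h1
  have h2 : γ 0 * (a' * (γ 0 * a')) = 1 := h1
  calc γ 0 * a' = (γ 0 * (a' * (γ 0 * a'))) * (a'⁻¹ * (γ 0)⁻¹) := by group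
    _ = a' * γ 0 := by rw [h2, one_mul, γ_inv, a'_inv]

theorem id_b : γ 1 = (uw.map γ).prod * γ 0 * ((uw.map γ).prod)⁻¹ :=
  conj_of_word hγ uw 0 1 (word_one _ (by decide +kernel))

theorem id_c : γ 2 = ([1, 2].map γ).prod * γ 1 * (([1, 2].map γ).prod)⁻¹ :=
  conj_of_word hγ [1, 2] 1 2 (word_one _ (by decide +kernel))

theorem id_d : γ 3 = ([4, 3].map γ).prod * γ 4 * (([4, 3].map γ).prod)⁻¹ :=
  conj_of_word hγ [4, 3] 4 3 (word_one _ (by decide +kernel))

theorem id_f : γ 5 = ([3, 5].map γ).prod * γ 3 * (([3, 5].map γ).prod)⁻¹ :=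
  conj_of_word hγ [3, 5] 3 5 (word_one _ (by decide +kernel))

theorem id_g : γ 6 = ([3, 6].map γ).prod * γ 3 * (([3, 6].map γ).prod)⁻¹ :=
  conj_of_word hγ [3, 6] 3 6 (word_one _ (by decide +kernel))

/-- `e = (abc)³` -/
theorem id_e : γ 4 * ([2, 1, 0, 2, 1, 0, 2, 1, 0].map γ).prod = 1 := by
  have h := HeP.of_words [4, 2, 1, 0, 2, 1, 0, 2, 1, 0] (by decide)
  rw [List.map_cons, List.prod_cons] at h
  exact h

/-- `e = (fg)²` -/
theorem id_e' : γ 4 * (γ 6 * (γ 5 * (γ 6 * γ 5))) = 1 := by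
  have h := HeP.of_words [4, 6, 5, 6, 5] (by decide)
  simp only [List.map_cons, List.map_nil, List.prod_cons, List.prod_nil, mul_one] at h
  exact h

/-! ### Maximal subgroups -/

theorem cnt1_0 : He2058.cert.cnt 0 = 1 := by decide +kernel

theorem max1 (M : Subgroup G) (hM : H1 ≤ M) : M = H1 ∨ M = ⊤ :=
  maximal_of_rank5 hP1 hC1 hO1 (by decide) (by decide +kernel) 136 136 425 1360
    cnt1_0 Cfsg.Agent.S1683.cnt_1 Cfsg.Agent.S1683.cnt_2 Cfsg.Agent.S1683.cnt_3
    Cfsg.Agent.S1683.cnt_4 (by decide) M hM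

theorem rootN : HeN.cert.root 0 = 0 := by decide +kernel

theorem chkMD : allB HeN.cert.ncomp (fun j => bor (Nat.beq j 0)
    (chkMaxJ HeN.cert j (MD.getD j ([], [])).1 (MD.getD j ([], [])).2)) = true := by decide +kernel

theorem max2 (M : Subgroup G) (hM : H2 ≤ M) : M = H2 ∨ M = ⊤ :=
  maximal_of_reach hPN hCN hON rootN MD chkMD M hM

/-! ### Simplicity -/

/-- the four-group `⟨a, a'⟩` -/
abbrev A : Subgroup G := Subgroup.closure {γ 0, a'}

theorem w_32 : HeN.cert.wordL 32 = [2] := by decide +kernel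
theorem w_33 : HeN.cert.wordL 33 = [3] := by decide +kernel
theorem w_34 : HeN.cert.wordL 34 = [5] := by decide +kernel
theorem w_35 : HeN.cert.wordL 35 = [6] := by decide +kernel
theorem w_36 : HeN.cert.wordL 36 = [1, 0, 1] := by decide +kernel
theorem w_37 : HeN.cert.wordL 37 = t3w := by decide +kernel

theorem mem_A_a : γ 0 ∈ A := Subgroup.subset_closure (Set.mem_insert _ _)
theorem mem_A_a' : a' ∈ A := Subgroup.subset_closure (Set.mem_insert_of_mem _ rfl)

theorem hA : ∀ h ∈ H2, ∀ x ∈ A, h * x * h⁻¹ ∈ A := by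
  refine conj_mem_of_closure_invol ?_
  rintro _ ⟨wid, h1, h2, rfl⟩
  have h1' : 32 ≤ wid := h1
  have h2' : wid < 38 := h2
  have key : ∀ t : G, t * t = 1 → t * γ 0 * t⁻¹ ∈ A → t * a' * t⁻¹ ∈ A →
      t * t = 1 ∧ ∀ u ∈ ({γ 0, a'} : Set G), t * u * t⁻¹ ∈ Subgroup.closure {γ 0, a'} := by
    intro t ht ha hb
    refine ⟨ht, ?_⟩
    intro u hu
    rcases hu with rfl | hu
    · exact ha
    · rw [Set.mem_singleton_iff] at hu
      subst hu
      exact hb
  interval_cases wid
  · rw [w_32]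
    simp only [List.map_cons, List.map_nil, List.prod_cons, List.prod_nil, mul_one]
    exact key _ (hγ 2) (by rw [ca2]; exact mem_A_a) (by rw [cb2]; exact mem_A_a')
  · rw [w_33]
    simp only [List.map_cons, List.map_nil, List.prod_cons, List.prod_nil, mul_one]
    exact key _ (hγ 3) (by rw [ca3]; exact mem_A_a) (by rw [cb3]; exact mem_A_a')
  · rw [w_34]
    simp only [List.map_cons, List.map_nil, List.prod_cons, List.prod_nil, mul_one]
    exact key _ (hγ 5) (by rw [ca5]; exact mem_A_a) (by rw [cb5]; exact mem_A_a')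
  · rw [w_35]
    simp only [List.map_cons, List.map_nil, List.prod_cons, List.prod_nil, mul_one]
    exact key _ (hγ 6) (by rw [ca6]; exact mem_A_a) (by rw [cb6]; exact mem_A_a')
  · rw [w_36]
    have e : ([1, 0, 1].map γ).prod = t1 := by
      simp only [List.map_cons, List.map_nil, List.prod_cons, List.prod_nil, mul_one, t1, mul_assoc]
    rw [e]
    exact key _ t1_sq (by rw [t1_a]; exact mem_A_a) (by rw [t1_a']; exact mul_mem mem_A_a mem_A_a')
  · rw [w_37]
    exact key t3 t3_sq (by rw [t3_a]; exact mem_A_a') (by rw [t3_a']; exact mem_A_a)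

theorem hAc : ∀ x ∈ A, ∀ y ∈ A, x * y = y * x := by
  apply comm_of_closure
  intro x hx y hy
  rcases hx with rfl | hx <;> rcases hy with rfl | hy
  · rfl
  · rw [Set.mem_singleton_iff] at hy
    subst hy
    exact comm_aa'
  · rw [Set.mem_singleton_iff] at hx
    subst hx
    exact comm_aa'.symm
  · rw [Set.mem_singleton_iff] at hx hy
    subst hx hy
    rfl

theorem gens_top (N : Subgroup G) (h : ∀ s < 7, γ s ∈ N) : N = ⊤ := by
  rw [eq_top_iff, ← hP1.hgen, Subgroup.closure_le]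
  rintro _ ⟨s, hs, rfl⟩
  exact h s hs

theorem ncl : Subgroup.normalClosure (A : Set G) = ⊤ := by
  have m0 : γ 0 ∈ Subgroup.normalClosure (A : Set G) :=
    Subgroup.subset_normalClosure mem_A_a
  have cj : ∀ x ∈ Subgroup.normalClosure (A : Set G), ∀ g : G,
      g * x * g⁻¹ ∈ Subgroup.normalClosure (A : Set G) :=
    fun x hx g => Subgroup.normalClosure_normal.conj_mem x hx g
  have m1 : γ 1 ∈ Subgroup.normalClosure (A : Set G) := by
    rw [id_b]; exact cj _ m0 _
  have m2 : γ 2 ∈ Subgroup.normalClosure (A : Set G) := by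
    rw [id_c]; exact cj _ m1 _
  have m4 : γ 4 ∈ Subgroup.normalClosure (A : Set G) := by
    have e : γ 4 = (([2, 1, 0, 2, 1, 0, 2, 1, 0].map γ).prod)⁻¹ := eq_inv_of_mul_eq_one_left id_e
    rw [e]
    apply inv_mem
    apply word_mem
    intro s hs
    simp only [List.mem_cons, List.not_mem_nil, or_false] at hs
    rcases hs with rfl | rfl | rfl | rfl | rfl | rfl | rfl | rfl | rfl <;> assumption
  have m3 : γ 3 ∈ Subgroup.normalClosure (A : Set G) := by
    rw [id_d]; exact cj _ m4 _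
  have m5 : γ 5 ∈ Subgroup.normalClosure (A : Set G) := by
    rw [id_f]; exact cj _ m3 _
  have m6 : γ 6 ∈ Subgroup.normalClosure (A : Set G) := by
    rw [id_g]; exact cj _ m3 _
  apply gens_top
  intro s hs
  interval_cases s
  · exact m0
  · exact m1
  · exact m2
  · exact m3
  · exact m4
  · exact m5
  · exact m6

theorem perf (N : Subgroup G) (hN : N.Normal) (hcomm : ∀ a b : G, a * b * a⁻¹ * b⁻¹ ∈ N) :
    N = ⊤ := by
  have := hN
  have hQ : ∀ x y : G ⧸ N, x * y = y * x := by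
    intro x y
    refine QuotientGroup.induction_on x (fun a => ?_)
    refine QuotientGroup.induction_on y (fun b => ?_)
    have h := (QuotientGroup.eq_one_iff _).mpr (hcomm a b)
    rw [QuotientGroup.mk_mul, QuotientGroup.mk_mul, QuotientGroup.mk_mul, QuotientGroup.mk_inv,
      QuotientGroup.mk_inv] at h
    calc (a : G ⧸ N) * (b : G ⧸ N)
        = (a : G ⧸ N) * b * (a : G ⧸ N)⁻¹ * (b : G ⧸ N)⁻¹ * (b * a) := by group
      _ = (b : G ⧸ N) * a := by rw [h, one_mul]
  letI : CommGroup (G ⧸ N) := { (inferInstance : Group (G ⧸ N)) with mul_comm := hQ }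
  let π : G →* G ⧸ N := QuotientGroup.mk' N
  have hcj : ∀ (u x : G), π (u * x * u⁻¹) = π x := by
    intro u x
    rw [map_mul, map_mul, map_inv, mul_comm (π u), mul_inv_cancel_right]
  have sq : ∀ s, π (γ s) * π (γ s) = 1 := by
    intro s
    rw [← map_mul, hγ, map_one]
  have x10 : π (γ 1) = π (γ 0) := by rw [id_b, hcj]
  have x21 : π (γ 2) = π (γ 1) := by rw [id_c, hcj]
  have x34 : π (γ 3) = π (γ 4) := by rw [id_d, hcj]
  have x53 : π (γ 5) = π (γ 3) := by rw [id_f, hcj]
  have x63 : π (γ 6) = π (γ 3) := by rw [id_g, hcj]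
  have x4 : π (γ 4) = 1 := by
    have h := congrArg π id_e'
    rw [map_mul, map_mul, map_mul, map_mul, map_one] at h
    have e : π (γ 4) * (π (γ 6) * (π (γ 5) * (π (γ 6) * π (γ 5)))) =
        π (γ 4) * ((π (γ 6) * π (γ 6)) * (π (γ 5) * π (γ 5))) := by ac_rfl
    rw [e, sq, sq, mul_one, mul_one] at h
    exact h
  have x0 : π (γ 0) = 1 := by
    have h := congrArg π id_e
    simp only [List.map_cons, List.map_nil, List.prod_cons, List.prod_nil, mul_one, map_mul,
      map_one] at h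
    rw [x4, x21, x10, one_mul] at h
    simp only [← mul_assoc, sq, one_mul] at h
    exact h
  have x1 : π (γ 1) = 1 := x10.trans x0
  have x2 : π (γ 2) = 1 := x21.trans x1
  have x3 : π (γ 3) = 1 := x34.trans x4
  have x5 : π (γ 5) = 1 := x53.trans x3
  have x6 : π (γ 6) = 1 := x63.trans x3
  apply gens_top
  intro s hs
  rw [← QuotientGroup.eq_one_iff]
  interval_cases s
  · exact x0
  · exact x1
  · exact x2
  · exact x3
  · exact x4
  · exact x5
  · exact x6

theorem cardH2 : Nat.card H2 = 483840 := by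
  have h := Subgroup.index_mul_card H2
  rw [Cert.index_eq hPN hCN, he_card] at h
  have h' : 8330 * Nat.card H2 = 4030387200 := h
  omega

theorem core (N : Subgroup G) (hN : N.Normal) (hNH : N ≤ H2) : N = ⊥ := by
  have := hN
  have hNH1 : N ≤ H1 := by
    rcases max1 (N ⊔ H1) le_sup_right with h | h
    · rw [← h]; exact le_sup_left
    · exfalso
      have h1 := index_dvd_of_sup_top N H1 h
      have h2 : Nat.card N ∣ Nat.card H2 := Subgroup.card_dvd_of_le hNH
      rw [Cert.index_eq hP1 hC1] at h1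
      have h3 : (2058 : ℕ) ∣ 483840 := by
        rw [← cardH2]; exact h1.trans h2
      exact absurd h3 (by decide)
  rw [eq_bot_iff]
  intro n hn
  rw [Subgroup.mem_bot]
  exact ob.2 n (fun p _ => normal_le_fix N H1 hNH1 hn _)

/-- **Simplicity.** -/
theorem he_simple : IsSimpleGroup G := by
  have : Nontrivial G := by
    rw [← Finite.one_lt_card_iff_nontrivial, he_card]
    decide
  exact simple_of_iwasawa' H2 A max2 hA hAc ncl perf core

end Cfsg.Agent.Lib.Helper39.HeOrd
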