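import Cfsg.Agent.Lib.Helper38.CosetCore

set_option maxRecDepth 100000
set_option maxHeartbeats 0

namespace Cfsg.Agent.Lib.Helper39.HeQ
open Cfsg.Agent.Lib.Helper38

noncomputable def rT0 : BT := .leaf 0x258642400000000000000000000000000000024400000210646000000000000000000000000000000028000000400000004929011cc40453901ed24000d000004c0214000000000396000dda001f5800d5c00005100008802141
noncomputable def nT0 : BT := .leaf 0x804924100000000041

end Cfsg.Agent.Lib.Helper39.HeQ
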