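import Cfsg.Agent.Lib.Helper39.HeQD0

set_option maxRecDepth 100000
set_option maxHeartbeats 0

namespace Cfsg.Agent.Lib.Helper39.HeQ
open Cfsg.Agent.Lib.Helper38

noncomputable def rTRoot : BT := rT0
noncomputable def nTRoot : BT := nT0

/-- the certificate -/
noncomputable def cert : Cert where
  g := 7
  m := 4
  n := 2
  R := 15
  fuel := 3
  nw := 30
  nrel := 19
  nsub := 26
  lg := 3
  lmask := 7
  rW := 180
  eW := 22
  mv := 7
  mr := 15
  mw := 31
  mt := 31
  ml := 7
  oR := 3
  oK := 7
  oW := 9
  oT := 14
  oU := 19
  oM := 154
  oMR := 157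
  oMW := 161
  oMT := 166
  oMU := 171
  oP := 174
  oL := 177
  rows := rTRoot
  wW := 65
  wt := 5
  wl := 3
  WD := 0x268600000000000000c10000000000000050800000000000001840000000000000d8400000000000005a2000000000000024100000000000000d880000000000000484000000000000012200000000000000010000000000000008400356b56b56b56a0000000134d34d30b000000000005d7428000000006baebaa00000000000034d080000000000016584000000000033cf33000000000015d759800000000008e38cc0000000000019644000000000000aaa200000000000045111a69a69a69a69a6a80000000000018604000000000000a2820000000000004101000000000000186080000000000008204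
  lgN := 4
  lmaskN := 15
  nW := 41
  wv := 3
  oCan := 21
  oPN := 24
  oLN := 27
  oComp := 30
  mc := 1
  oOP := 31
  oOW := 34
  oOD := 39
  md := 1
  oODir := 40
  ncomp := 2
  ROOTS := 0x8
  nrows := nTRoot

end Cfsg.Agent.Lib.Helper39.HeQ
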