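import Cfsg.Agent.Lib.Helper39.HeRD0

set_option maxRecDepth 100000
set_option maxHeartbeats 0

namespace Cfsg.Agent.Lib.Helper39.HeR
open Cfsg.Agent.Lib.Helper38

noncomputable def rTRoot : BT := .node 128 (.node 64 (.node 32 (.node 16 (rT0) (rT1)) (.node 48 (rT2) (rT3))) (.node 96 (.node 80 (rT4) (rT5)) (.node 112 (rT6) (rT7)))) (.node 192 (.node 160 (.node 144 (rT8) (rT9)) (.node 176 (rT10) (rT11))) (.node 224 (.node 208 (rT12) (rT13)) (.node 240 (rT14) (rT15))))
noncomputable def nTRoot : BT := .node 32 (.node 16 (nT0) (nT1)) (.node 48 (nT2) (nT3))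

/-- the certificate -/
noncomputable def cert : Cert where
  g := 7
  m := 1945
  n := 960
  R := 4998
  fuel := 4
  nw := 30
  nrel := 19
  nsub := 26
  lg := 3
  lmask := 7
  rW := 388
  eW := 47
  mv := 2047
  mr := 8191
  mw := 31
  mt := 31
  ml := 7
  oR := 11
  oK := 24
  oW := 26
  oT := 31
  oU := 36
  oM := 329
  oMR := 340
  oMW := 353
  oMT := 358
  oMU := 363
  oP := 374
  oL := 385
  rows := rTRoot
  wW := 65
  wt := 5
  wl := 3
  WD := 0x18200000000000000a10000000000000040800000000000001840000000000000d8400000000000005a2000000000000024100000000000000d880000000000000484000000000000012200000000000000010000000000000008400356b56b56b56a0000000134d34d30b000000000005d7428000000006baebaa00000000000034d080000000000016584000000000033cf33000000000015d759800000000008e38cc0000000000019644000000000000aaa200000000000045111a69a69a69a69a6a80000000000018604000000000000a2820000000000004101000000000000186080000000000008204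
  lgN := 4
  lmaskN := 15
  nW := 127
  wv := 11
  oCan := 77
  oPN := 88
  oLN := 99
  oComp := 102
  mc := 31
  oOP := 107
  oOW := 118
  oOD := 123
  md := 7
  oODir := 126
  ncomp := 28
  ROOTS := 0x772ee1daba7746e68d31420d61a0330640c41802d85109c1302504808c1040500600600800800
  nrows := nTRoot

end Cfsg.Agent.Lib.Helper39.HeR
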