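import Mathlib
import Cfsg.Agent.Lib.Helper58.JUDefs
import Cfsg.Agent.Lib.Helper54.RelSylow

/-!
S2950 project JU (helper58), piece CONJ: a conjugate of a `J(T)`-component by an element of
`N_G(J(T))` is a `J(T)`-component.
-/

set_option autoImplicit false

namespace Cfsg.Agent.Lib.Helper39.JU

open Cfsg.Agent.Lib.Helper58.JU Cfsg.Agent.Lib.Helper72.JL Cfsg.Agent.Lib.Helper72.SC
  Cfsg.Agent.Lib.Helper72.JM Cfsg.Agent.Lib.Helper72.JP Cfsg.Agent.Lib.Helper78.JN
  Cfsg.Agent.Lib.Helper78.Jc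

open scoped commutatorElement

universe u

theorem conj_comp_aux {G : Type u} [Group G] (x y : G) (hxy : x * y = 1) (H : Subgroup G) :
    (H.map (MulAut.conj y).toMonoidHom).map (MulAut.conj x).toMonoidHom = H := by
  rw [Subgroup.map_map]
  have : (MulAut.conj x).toMonoidHom.comp (MulAut.conj y).toMonoidHom = MonoidHom.id G := by
    ext g
    simp only [MonoidHom.comp_apply, MulEquiv.coe_toMonoidHom, MulAut.conj_apply,
      MonoidHom.id_apply]
    have hy : y = x⁻¹ := eq_inv_of_mul_eq_one_right hxy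
    rw [hy]
    group
  rw [this, Subgroup.map_id]

theorem conj (hThc : ThcStmt.{u}) (hWConj : WConjStmt.{u}) : ConjStmt.{u} := by
  intro G _ _ T K x hK hx
  obtain ⟨h1, h2, h3, h4, h5, h6⟩ := hK
  have hJc : (Cfsg.thompsonSubgroupOf 2 T).map (MulAut.conj x).toMonoidHom =
      Cfsg.thompsonSubgroupOf 2 T := by
    apply le_antisymm
    · rintro _ ⟨k, hk, rfl⟩
      exact (Subgroup.mem_normalizer_iff.1 hx k).1 hk
    · intro k hk
      refine ⟨x⁻¹ * k * x, (Subgroup.mem_normalizer_iff''.1 hx k).1 hk, ?_⟩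
      simp only [MulEquiv.coe_toMonoidHom, MulAut.conj_apply]
      group
  have e1 : ∀ H : Subgroup G,
      (H.map (MulAut.conj x).toMonoidHom).map (MulAut.conj x⁻¹).toMonoidHom = H :=
    fun H => conj_comp_aux x⁻¹ x (inv_mul_cancel x) H
  have e2 : ∀ H : Subgroup G,
      (H.map (MulAut.conj x⁻¹).toMonoidHom).map (MulAut.conj x).toMonoidHom = H :=
    fun H => conj_comp_aux x x⁻¹ (mul_inv_cancel x) H
  have hJc' : (Cfsg.thompsonSubgroupOf 2 T).map (MulAut.conj x⁻¹).toMonoidHom =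
      Cfsg.thompsonSubgroupOf 2 T := by
    have h0 := e1 (Cfsg.thompsonSubgroupOf 2 T)
    rw [hJc] at h0
    exact h0
  have hW : Cfsg.wOf (K.map (MulAut.conj x).toMonoidHom) =
      (Cfsg.wOf K).map (MulAut.conj x).toMonoidHom := hWConj G K x
  have hinj : Function.Injective (MulAut.conj x).toMonoidHom := (MulAut.conj x).injective
  show Cfsg.IsJComponent T (K.map (MulAut.conj x).toMonoidHom)
  refine ⟨?_, ?_, ?_, ?_, ?_, ?_⟩
  · -- generated by the elements of odd order
    have e : {g : G | g ∈ K.map (MulAut.conj x).toMonoidHom ∧ Odd (orderOf g)} =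
        (MulAut.conj x).toMonoidHom '' {g : G | g ∈ K ∧ Odd (orderOf g)} := by
      ext g
      constructor
      · rintro ⟨⟨k, hk, rfl⟩, hodd⟩
        refine ⟨k, ⟨hk, ?_⟩, rfl⟩
        rwa [orderOf_injective (MulAut.conj x).toMonoidHom hinj k] at hodd
      · rintro ⟨k, ⟨hk, hodd⟩, rfl⟩
        refine ⟨Subgroup.mem_map_of_mem _ hk, ?_⟩
        rwa [orderOf_injective (MulAut.conj x).toMonoidHom hinj k]
    rw [e, ← MonoidHom.map_closure, h1]
  · -- `K = [K, J]`
    have e : ⁅K.map (MulAut.conj x).toMonoidHom, Cfsg.thompsonSubgroupOf 2 T⁆ =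
        ⁅K.map (MulAut.conj x).toMonoidHom,
          (Cfsg.thompsonSubgroupOf 2 T).map (MulAut.conj x).toMonoidHom⁆ := by rw [hJc]
    rw [e, ← Subgroup.map_commutator, h2]
  · -- index of `O₂`
    rw [Cfsg.Agent.Lib.Helper54.pCoreOf_map 2 K (MulAut.conj x),
      Subgroup.relIndex_map_map_of_injective _ _ hinj]
    exact h3
  · -- the Sylow condition
    intro S hS hJS
    obtain ⟨hS1, hS2, hS3⟩ := hS
    have hsup : K.map (MulAut.conj x).toMonoidHom ⊔ Cfsg.thompsonSubgroupOf 2 T =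
        (K ⊔ Cfsg.thompsonSubgroupOf 2 T).map (MulAut.conj x).toMonoidHom := by
      rw [Subgroup.map_sup, hJc]
    rw [hsup] at hS1 hS3
    have hS0 : Cfsg.IsSylowTwoIn (S.map (MulAut.conj x⁻¹).toMonoidHom)
        (K ⊔ Cfsg.thompsonSubgroupOf 2 T) := by
      refine ⟨?_, hS2.map _, ?_⟩
      · have h0 := Subgroup.map_mono (f := (MulAut.conj x⁻¹).toMonoidHom) hS1
        rw [e1] at h0
        exact h0
      · have hr := Subgroup.relIndex_map_map_of_injective S
          ((K ⊔ Cfsg.thompsonSubgroupOf 2 T).map (MulAut.conj x).toMonoidHom)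
          (f := (MulAut.conj x⁻¹).toMonoidHom) (MulAut.conj x⁻¹).injective
        rw [e1] at hr
        rw [hr]
        exact hS3
    have hJ0 : Cfsg.thompsonSubgroupOf 2 T ≤ S.map (MulAut.conj x⁻¹).toMonoidHom := by
      have h0 := Subgroup.map_mono (f := (MulAut.conj x⁻¹).toMonoidHom) hJS
      rwa [hJc'] at h0
    have h7 := h4 _ hS0 hJ0
    have h8 := hThc G (S.map (MulAut.conj x⁻¹).toMonoidHom) x
    rw [e2, h7, hJc] at h8
    exact h8
  · rw [hW, Subgroup.card_map_of_injective hinj]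
    exact h5
  · intro w hw
    rw [hW] at hw
    obtain ⟨w₀, hw₀, rfl⟩ := hw
    rw [← map_mul, h6 w₀ hw₀, map_one]

end Cfsg.Agent.Lib.Helper39.JU
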