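import Cfsg.Agent.Lib.Helper39.OJBD0

set_option maxRecDepth 100000
set_option maxHeartbeats 0

namespace Cfsg.Agent.Lib.Helper39.OJB
open Cfsg.Agent.Lib.Helper38

noncomputable def rTRoot : BT := .node 1952 (.node 976 (.node 496 (.node 256 (.node 128 (.node 64 (.node 32 (.node 16 (rT0) (rT1)) (.node 48 (rT2) (rT3))) (.node 96 (.node 80 (rT4) (rT5)) (.node 112 (rT6) (rT7)))) (.node 192 (.node 160 (.node 144 (rT8) (rT9)) (.node 176 (rT10) (rT11))) (.node 224 (.node 208 (rT12) (rT13)) (.node 240 (rT14) (rT15))))) (.node 384 (.node 320 (.node 288 (.node 272 (rT16) (rT17)) (.node 304 (rT18) (rT19))) (.node 352 (.node 336 (rT20) (rT21)) (.node 368 (rT22) (rT23)))) (.node 448 (.node 416 (.node 400 (rT24) (rT25)) (.node 432 (rT26) (rT27))) (.node 480 (.node 464 (rT28) (rT29)) (rT30))))) (.node 736 (.node 624 (.node 560 (.node 528 (.node 512 (rT31) (rT32)) (.node 544 (rT33) (rT34))) (.node 592 (.node 576 (rT35) (rT36)) (.node 608 (rT37) (rT38)))) (.node 688 (.node 656 (.node 640 (rT39) (rT40)) (.node 672 (rT41)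 (rT42))) (.node 720 (.node 704 (rT43) (rT44)) (rT45)))) (.node 864 (.node 800 (.node 768 (.node 752 (rT46) (rT47)) (.node 784 (rT48) (rT49))) (.node 832 (.node 816 (rT50) (rT51)) (.node 848 (rT52) (rT53)))) (.node 928 (.node 896 (.node 880 (rT54) (rT55)) (.node 912 (rT56) (rT57))) (.node 960 (.node 944 (rT58) (rT59)) (rT60)))))) (.node 1472 (.node 1232 (.node 1104 (.node 1040 (.node 1008 (.node 992 (rT61) (rT62)) (.node 1024 (rT63) (rT64))) (.node 1072 (.node 1056 (rT65) (rT66)) (.node 1088 (rT67) (rT68)))) (.node 1168 (.node 1136 (.node 1120 (rT69) (rT70)) (.node 1152 (rT71) (rT72))) (.node 1200 (.node 1184 (rT73) (rT74)) (.node 1216 (rT75) (rT76))))) (.node 1360 (.node 1296 (.node 1264 (.node 1248 (rT77) (rT78)) (.node 1280 (rT79) (rT80))) (.node 1328 (.node 1312 (rT81) (rT82)) (.node 1344 (rT83) (rT84)))) (.node 1424 (.node 1392 (.node 1376 (rT85) (rT86)) (.node 1408 (rT87) (rT88))) (.node 1456 (.node 1440 (rT89) (rT90)) (rT91))))) (.node 1712 (.node 1600 (.node 1536 (.node 1504 (.node 1488 (rT92) (rT93))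 (.node 1520 (rT94) (rT95))) (.node 1568 (.node 1552 (rT96) (rT97)) (.node 1584 (rT98) (rT99)))) (.node 1664 (.node 1632 (.node 1616 (rT100) (rT101)) (.node 1648 (rT102) (rT103))) (.node 1696 (.node 1680 (rT104) (rT105)) (rT106)))) (.node 1840 (.node 1776 (.node 1744 (.node 1728 (rT107) (rT108)) (.node 1760 (rT109) (rT110))) (.node 1808 (.node 1792 (rT111) (rT112)) (.node 1824 (rT113) (rT114)))) (.node 1904 (.node 1872 (.node 1856 (rT115) (rT116)) (.node 1888 (rT117) (rT118))) (.node 1936 (.node 1920 (rT119) (rT120)) (rT121))))))) (.node 2928 (.node 2448 (.node 2208 (.node 2080 (.node 2016 (.node 1984 (.node 1968 (rT122) (rT123)) (.node 2000 (rT124) (rT125))) (.node 2048 (.node 2032 (rT126) (rT127)) (.node 2064 (rT128) (rT129)))) (.node 2144 (.node 2112 (.node 2096 (rT130) (rT131)) (.node 2128 (rT132) (rT133))) (.node 2176 (.node 2160 (rT134) (rT135)) (.node 2192 (rT136) (rT137))))) (.node 2336 (.node 2272 (.node 2240 (.node 2224 (rT138) (rT139)) (.node 2256 (rT140) (rT141))) (.node 2304 (.node 2288 (rT142)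 (rT143)) (.node 2320 (rT144) (rT145)))) (.node 2400 (.node 2368 (.node 2352 (rT146) (rT147)) (.node 2384 (rT148) (rT149))) (.node 2432 (.node 2416 (rT150) (rT151)) (rT152))))) (.node 2688 (.node 2576 (.node 2512 (.node 2480 (.node 2464 (rT153) (rT154)) (.node 2496 (rT155) (rT156))) (.node 2544 (.node 2528 (rT157) (rT158)) (.node 2560 (rT159) (rT160)))) (.node 2640 (.node 2608 (.node 2592 (rT161) (rT162)) (.node 2624 (rT163) (rT164))) (.node 2672 (.node 2656 (rT165) (rT166)) (rT167)))) (.node 2816 (.node 2752 (.node 2720 (.node 2704 (rT168) (rT169)) (.node 2736 (rT170) (rT171))) (.node 2784 (.node 2768 (rT172) (rT173)) (.node 2800 (rT174) (rT175)))) (.node 2880 (.node 2848 (.node 2832 (rT176) (rT177)) (.node 2864 (rT178) (rT179))) (.node 2912 (.node 2896 (rT180) (rT181)) (rT182)))))) (.node 3408 (.node 3168 (.node 3056 (.node 2992 (.node 2960 (.node 2944 (rT183) (rT184)) (.node 2976 (rT185) (rT186))) (.node 3024 (.node 3008 (rT187) (rT188)) (.node 3040 (rT189) (rT190)))) (.node 3120 (.node 3088 (.node 3072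 (rT191) (rT192)) (.node 3104 (rT193) (rT194))) (.node 3152 (.node 3136 (rT195) (rT196)) (rT197)))) (.node 3296 (.node 3232 (.node 3200 (.node 3184 (rT198) (rT199)) (.node 3216 (rT200) (rT201))) (.node 3264 (.node 3248 (rT202) (rT203)) (.node 3280 (rT204) (rT205)))) (.node 3360 (.node 3328 (.node 3312 (rT206) (rT207)) (.node 3344 (rT208) (rT209))) (.node 3392 (.node 3376 (rT210) (rT211)) (rT212))))) (.node 3648 (.node 3536 (.node 3472 (.node 3440 (.node 3424 (rT213) (rT214)) (.node 3456 (rT215) (rT216))) (.node 3504 (.node 3488 (rT217) (rT218)) (.node 3520 (rT219) (rT220)))) (.node 3600 (.node 3568 (.node 3552 (rT221) (rT222)) (.node 3584 (rT223) (rT224))) (.node 3632 (.node 3616 (rT225) (rT226)) (rT227)))) (.node 3776 (.node 3712 (.node 3680 (.node 3664 (rT228) (rT229)) (.node 3696 (rT230) (rT231))) (.node 3744 (.node 3728 (rT232) (rT233)) (.node 3760 (rT234) (rT235)))) (.node 3840 (.node 3808 (.node 3792 (rT236) (rT237)) (.node 3824 (rT238) (rT239))) (.node 3872 (.node 3856 (rT240) (rT241)) (rT242)))))))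
noncomputable def nTRoot : BT := .node 48 (.node 32 (.node 16 (nT0) (nT1)) (nT2)) (.node 80 (.node 64 (nT3) (nT4)) (nT5))

/-- the certificate -/
noncomputable def cert : Cert where
  g := 3
  m := 31042
  n := 1463
  R := 68518
  fuel := 10
  nw := 11
  nrel := 6
  nsub := 9
  lg := 3
  lmask := 7
  rW := 255
  eW := 60
  mv := 32767
  mr := 131071
  mw := 15
  mt := 127
  ml := 3
  oR := 15
  oK := 32
  oW := 34
  oT := 38
  oU := 45
  oM := 180
  oMR := 195
  oMW := 212
  oMT := 216
  oMU := 223
  oP := 238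
  oL := 253
  rows := rTRoot
  wW := 217
  wt := 7
  wl := 2
  WD := 0x4442222224444442228c000000000000000000000000000000000001111111222111111142000000000000000000000000000000000000000000000000000502000000000000000000000000000000000000000000000000000141000000000000000000000000000000000000000000000000000000800000000000000000000000000000000088888888888888888884c0000000000000000000000000c48c48c48c48c48c48c48c48c493801862491891891891891891892461892462462462462462462493331231231248c48c48c49231231231248c48c48c49231231231249a400000000000000000000000000000000000000000249249249242a00000000000000000000000000000000000000000000000004cc86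
  lgN := 4
  lmaskN := 15
  nW := 106
  wv := 15
  oCan := 45
  oPN := 60
  oLN := 75
  oComp := 77
  mc := 31
  oOP := 82
  oOW := 97
  oOD := 101
  md := 15
  oODir := 105
  ncomp := 22
  ROOTS := 0x14d8279025802a4036006300c400fc01c803600460088010801f003c0074008000e000c00140008000
  nrows := nTRoot

end Cfsg.Agent.Lib.Helper39.OJB
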