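import Cfsg.Agent.Lib.Helper39.OrdT

/-!
Data for a subgroup of the presented O'Nan group isomorphic to the Janko group J₁ (generated): a presentation
on three involutions, a maximal subgroup, a base, and words for the generators in the letters
`0 = g`, `1 = g⁻¹`, `2 … 7 = a … f` of the O'Nan group.
-/

namespace Cfsg.Agent.Lib.Helper39.OJOrd

/-- the relators on the three involutions -/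
def WQ : List (List ℕ) := [
  [1, 2, 1, 2, 1, 2],
  [0, 1, 2, 0, 1, 2, 0, 1, 2, 0, 1, 2, 0, 1, 2, 0, 1, 2, 0, 1, 2],
  [0, 1, 2, 0, 1, 2, 0, 2, 1, 0, 1, 2, 0, 2, 1, 0, 1, 2, 0, 2, 1, 0, 1, 2, 0, 1, 2, 0, 2, 1, 0, 1, 2, 0, 2, 1, 0, 1, 2, 0, 2, 1, 0, 1, 2, 0, 1, 2, 0, 2, 1, 0, 1, 2, 0, 2, 1, 0, 1, 2, 0, 2, 1, 0, 1, 2, 0, 1, 2, 0, 2, 1, 0, 1, 2, 0, 2, 1, 0, 1, 2, 0, 2, 1, 0, 1, 2, 0, 1, 2, 0, 2, 1, 0, 1, 2, 0, 2, 1, 0, 1, 2, 0, 2, 1],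
  [0, 1, 2, 0, 1, 2, 0, 2, 1, 0, 1, 2, 0, 2, 1, 0, 1, 2, 0, 2, 1, 0, 1, 2, 0, 2, 1, 0, 1, 2, 0, 2, 1, 0, 1, 2, 0, 2, 1, 0, 1, 2, 0, 1, 2, 0, 2, 1, 0, 2, 1, 0, 1, 2, 0, 1, 2, 0, 2, 1, 0, 1, 2, 0, 2, 1, 0, 1, 2, 0, 2, 1, 0, 1, 2, 0, 2, 1, 0, 1, 2, 0, 2, 1, 0, 1, 2, 0, 2, 1, 0, 1, 2, 0, 1, 2, 0, 2, 1, 0, 2, 1],
  [2, 0, 1, 2, 0, 2, 1, 0, 1, 2, 0, 2, 1, 0, 1, 2, 0, 2, 1, 0, 1, 2, 0, 2, 1, 0, 1, 2, 0, 2, 1, 0, 1, 2, 0, 2, 1, 0, 1, 2, 0, 2, 1, 0, 1, 2, 0, 2, 1, 0, 1, 2, 0, 2, 1, 0],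
  [0, 2, 0, 2, 0, 2, 0, 2, 0, 2, 0, 2, 0, 2, 0, 2, 0, 2, 0, 2, 0, 2, 0, 2, 0, 2, 0, 2, 0, 2, 0, 2, 0, 2, 0, 2, 0, 2]]

/-- the relators of a dihedral subgroup, and the other letter -/
def WC : List (List ℕ) := [
  [0, 2, 0, 2, 0, 2, 0, 2, 0, 2, 0, 2, 0, 2, 0, 2, 0, 2, 0, 2, 0, 2, 0, 2, 0, 2, 0, 2, 0, 2, 0, 2, 0, 2, 0, 2, 0, 2],
  [1]]

/-- the commutators of the generators -/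
def WA : List (List ℕ) := [
  [0, 1, 0, 1],
  [0, 2, 0, 2],
  [1, 2, 1, 2]]

/-- the word of the involution `t` -/
def tw : List ℕ := [0]

/-- a generator of the centraliser of `t` -/
def bw0 : List ℕ := [1, 0, 1, 0, 1, 0, 1, 0, 1, 0, 1, 0, 1, 0, 2, 0, 2, 0, 2, 0, 1, 0, 1, 0, 1, 0, 1, 0, 1, 0, 1, 0, 1]

/-- a generator of the centraliser of `t` -/
def bw1 : List ℕ := [1, 0, 1, 0, 1, 0, 2, 0, 2, 0, 2, 0, 2, 0, 2, 0, 2, 0, 1, 0, 1, 0, 1, 0, 1, 0, 1, 0, 1, 0, 2, 0, 2, 0, 2]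

/-- level 1: words fixing the earlier base points -/
def cw1 : List (List ℕ) := [
  [1, 0, 1, 0, 1, 0, 1, 0, 1, 0, 1, 0, 1, 0, 2, 0, 2, 0, 2, 0, 1, 0, 1, 0, 1, 0, 1, 0, 1, 0, 1, 0, 1],
  [1, 0, 1, 0, 1, 0, 2, 0, 2, 0, 2, 0, 2, 0, 2, 0, 2, 0, 1, 0, 1, 0, 1, 0, 1, 0, 1, 0, 1, 0, 2, 0, 2, 0, 2]]

/-- level 1: orbit tree with root 501, 60 points -/
def ct1 : List (ℕ × ℕ × ℕ) := [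
  (1239, 501, 1), (141, 1239, 0), (1427, 1239, 1), (167, 141, 1), (815, 1427, 0), (51, 1427, 1),
  (222, 167, 0), (917, 167, 1), (898, 815, 1), (1402, 51, 0), (171, 51, 1), (607, 222, 1), (55, 917, 0),
  (786, 917, 1), (1358, 898, 0), (69, 898, 1), (72, 1402, 1), (218, 171, 0), (1309, 607, 1), (246, 786, 0),
  (1411, 786, 1), (109, 1358, 1), (963, 69, 0), (1221, 69, 1), (79, 72, 0), (1418, 72, 1), (973, 218, 1),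
  (1419, 1309, 1), (116, 246, 1), (787, 1411, 0), (456, 1221, 0), (58, 1221, 1), (652, 79, 1),
  (1176, 1418, 0), (1388, 1418, 1), (62, 973, 0), (897, 973, 1), (40, 1419, 1), (1320, 116, 0),
  (1377, 116, 1), (88, 787, 1), (196, 456, 1), (67, 58, 0), (146, 1388, 0), (1341, 62, 1), (199, 897, 0),
  (1424, 1377, 0), (816, 1377, 1), (1070, 88, 0), (1220, 88, 1), (653, 196, 0), (43, 196, 1), (1386, 67, 1),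
  (1414, 146, 1), (243, 816, 0), (570, 1220, 0), (1265, 1386, 0), (1426, 1414, 0), (30, 243, 1)]

/-- level 2: words fixing the earlier base points -/
def cw2 : List (List ℕ) := [
  [1, 0, 1, 0, 1, 0, 1, 0, 1, 0, 1, 0, 1, 0, 2, 0, 2, 0, 2, 0, 1, 0, 1, 0, 1, 0, 1, 0, 1, 0, 1, 0, 1]]

/-- level 2: orbit tree with root 5, 2 points -/
def ct2 : List (ℕ × ℕ × ℕ) := [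
  (334, 5, 0)]

/-- maximality data for the centraliser of `t` -/
def MDB : List (List ℕ × List (ℕ × ℕ)) := [
  ([], []),
  ([1], [(0, 0), (3, 0), (4, 0), (11, 0), (12, 0), (21, 0), (22, 0), (23, 0), (24, 0), (25, 0), (28, 0), (44, 0), (47, 0), (48, 0), (78, 0), (84, 0), (90, 0), (135, 0), (234, 0), (588, 0), (598, 0)]),
  ([1, 0, 1], [(0, 0), (8, 0), (9, 0), (10, 0), (11, 0), (12, 0), (18, 0), (20, 0), (26, 0), (32, 0), (35, 0), (37, 0), (39, 0), (44, 0), (51, 0), (62, 0), (79, 0), (115, 0), (187, 0), (378, 0), (385, 0)]),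
  ([2, 0, 1], [(0, 0), (6, 0), (8, 0), (8, 1), (9, 0), (9, 1), (10, 1), (15, 1), (16, 0), (21, 0), (24, 1), (35, 0), (43, 1), (46, 0), (55, 1), (57, 0), (58, 0), (84, 1), (143, 1), (339, 0), (357, 0)]),
  ([2, 0, 1, 0, 1], [(0, 0), (0, 1), (14, 0), (16, 0), (17, 1), (18, 1), (19, 1), (21, 1), (22, 1), (23, 0), (24, 0), (28, 0), (29, 1), (34, 0), (41, 1), (44, 1), (56, 1), (60, 0), (85, 0), (210, 0), (221, 0)]),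
  ([2, 0, 2, 0, 1], [(0, 0), (0, 1), (14, 0), (16, 0), (17, 1), (18, 0), (19, 1), (20, 1), (21, 0), (21, 1), (24, 1), (27, 0), (28, 0), (29, 0), (37, 1), (41, 0), (47, 1), (59, 1), (84, 1), (218, 0), (221, 0)]),
  ([1, 0, 1, 0, 1, 0, 1], [(0, 0), (41, 0), (42, 0), (44, 0), (50, 0), (74, 0), (82, 0), (87, 0), (88, 0), (92, 0), (94, 0), (95, 0), (102, 0), (108, 0), (120, 0), (127, 0), (144, 0), (145, 0), (176, 0), (201, 0), (219, 0)]),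
  ([2, 0, 1, 0, 1, 0, 1], [(0, 0), (0, 1), (30, 0), (35, 0), (35, 1), (40, 0), (40, 1), (43, 0), (44, 0), (45, 0), (47, 0), (48, 0), (48, 1), (51, 1), (52, 1), (56, 0), (56, 1), (57, 1), (128, 1), (129, 0), (136, 0)]),
  ([1, 0, 2, 0, 1, 0, 1], [(0, 0), (0, 1), (31, 0), (39, 1), (54, 0), (64, 1), (84, 0), (93, 0), (93, 1), (95, 1), (101, 0), (101, 1), (103, 0), (106, 1), (108, 0), (111, 1), (113, 1), (137, 0), (168, 1), (171, 0), (171, 1)]),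
  ([1, 0, 1, 0, 2, 0, 1], [(0, 0), (0, 1), (31, 1), (39, 0), (54, 1), (64, 0), (84, 1), (93, 0), (93, 1), (95, 0), (101, 0), (101, 1), (103, 0), (106, 0), (108, 1), (111, 0), (113, 0), (137, 1), (168, 0), (171, 0), (171, 1)]),
  ([1, 0, 2, 0, 2, 0, 1], [(0, 0), (37, 0), (46, 0), (49, 0), (74, 0), (75, 0), (77, 0), (78, 0), (80, 0), (82, 0), (87, 0), (90, 0), (100, 0), (125, 0), (130, 0), (140, 0), (150, 0), (158, 0), (188, 0), (210, 0), (249, 0)]),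
  ([2, 0, 2, 0, 2, 0, 1], [(0, 0), (0, 1), (30, 0), (30, 1), (32, 0), (32, 1), (35, 0), (36, 1), (38, 1), (41, 0), (42, 0), (42, 1), (47, 0), (47, 1), (50, 1), (51, 1), (59, 1), (70, 0), (71, 1), (149, 1), (156, 1)]),
  ([2, 0, 1, 0, 1, 0, 1, 0, 1], [(0, 0), (54, 0), (64, 1), (76, 1), (84, 1), (93, 0), (93, 1), (97, 1), (98, 0), (99, 0), (106, 0), (107, 1), (108, 0), (110, 1), (111, 0), (111, 1), (112, 1), (113, 1), (123, 1), (134, 1), (175, 0)]),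
  ([1, 0, 2, 0, 2, 0, 1, 0, 1], [(0, 0), (57, 0), (68, 1), (70, 0), (70, 1), (71, 1), (72, 1), (77, 0), (79, 0), (79, 1), (80, 1), (81, 1), (86, 1), (87, 0), (88, 1), (96, 1), (100, 1), (103, 1), (105, 0), (115, 0), (128, 0)]),
  ([1, 0, 2, 0, 2, 0, 2, 0, 1], [(0, 0), (66, 0), (93, 0), (97, 0), (103, 0), (106, 0), (112, 0), (113, 0), (118, 0), (119, 0), (123, 0), (126, 0), (127, 0), (130, 0), (138, 0), (154, 0), (161, 0), (185, 0), (187, 0), (201, 0), (266, 0)]),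
  ([2, 0, 2, 0, 2, 0, 1, 0, 1, 0, 1], [(0, 0), (98, 0), (133, 0), (139, 0), (139, 1), (149, 1), (153, 0), (156, 0), (165, 0), (168, 1), (170, 1), (171, 1), (172, 1), (173, 0), (177, 1), (178, 1), (179, 1), (184, 1), (212, 0), (212, 1), (213, 1)]),
  ([1, 0, 1, 0, 2, 0, 2, 0, 1, 0, 1], [(0, 0), (122, 0), (133, 0), (134, 0), (143, 0), (152, 0), (176, 0), (202, 0), (205, 0), (208, 0), (213, 0), (229, 0), (233, 0), (253, 0), (263, 0), (278, 0), (281, 0), (285, 0), (307, 0), (372, 0), (377, 0)]),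
  ([2, 0, 1, 0, 1, 0, 2, 0, 2, 0, 1], [(0, 0), (108, 0), (111, 0), (111, 1), (115, 0), (115, 1), (118, 1), (121, 1), (124, 0), (125, 0), (126, 0), (127, 0), (127, 1), (130, 1), (131, 1), (132, 0), (137, 0), (160, 0), (170, 1), (213, 1), (232, 0)]),
  ([1, 0, 1, 0, 2, 0, 2, 0, 2, 0, 1, 0, 1], [(0, 0), (184, 0), (200, 0), (205, 0), (213, 0), (217, 0), (224, 0), (228, 0), (229, 0), (233, 0), (248, 0), (259, 0), (264, 0), (269, 0), (274, 0), (277, 0), (296, 0), (337, 0), (351, 0), (358, 0), (718, 0)]),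
  ([1, 0, 2, 0, 2, 0, 2, 0, 2, 0, 2, 0, 2, 0, 1], [(0, 0), (303, 0), (310, 0), (328, 0), (329, 0), (335, 0), (342, 0), (344, 0), (346, 0), (347, 0), (354, 0), (360, 0), (363, 0), (366, 0), (367, 0), (369, 0), (370, 0), (384, 0), (408, 0), (534, 0), (540, 0)]),
  ([2, 0, 1, 0, 1, 0, 1, 0, 1, 0, 1, 0, 1, 0, 1, 0, 1, 0, 1], [(0, 0), (0, 1), (633, 0), (652, 0), (652, 1), (653, 0), (654, 0), (656, 0), (660, 0), (660, 1), (667, 1), (669, 1), (670, 1), (675, 0), (677, 0), (679, 1), (686, 1), (691, 1), (719, 0), (719, 1), (730, 0)]),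
  ([2, 0, 2, 0, 1, 0, 1, 0, 1, 0, 1, 0, 2, 0, 2, 0, 1, 0, 1], [(0, 0), (0, 1), (633, 0), (633, 1), (643, 0), (679, 0), (679, 1), (681, 0), (681, 1), (685, 1), (686, 0), (686, 1), (689, 0), (689, 1), (692, 0), (694, 0), (694, 1), (695, 0), (696, 1), (697, 0), (698, 0)])]

/-- the generator 0 as a product of words in the letters of the O'Nan group -/
def ow0 : List (List ℕ) := [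
  [2]]

/-- the generator 1 as a product of words in the letters of the O'Nan group -/
def ow1 : List (List ℕ) := [
  [7, 2, 3, 2, 5, 4, 5, 1, 5, 7, 2, 5, 7, 4, 3, 7, 1, 4, 1, 1, 6, 5, 2, 7, 4, 3, 2, 1, 4, 3, 5, 4, 0, 2, 3, 1, 4, 5, 3, 4, 0, 2, 3, 4, 7, 2, 5, 6, 0, 0, 4, 0, 7, 3, 4, 7, 5, 2, 7, 5, 0, 5, 4, 5, 2, 3, 2, 7, 2, 7, 2, 3, 2, 5, 4, 5, 1, 5, 7, 2, 5, 7, 4, 3, 7, 1, 4, 1, 1, 6, 5, 2, 7, 4, 3, 2, 1, 4, 3, 5],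
  [4, 0, 2, 3, 1, 4, 5, 3, 4, 0, 2, 3, 4, 7, 2, 5, 6, 0, 0, 4, 0, 7, 3, 4, 7, 5, 2, 7, 5, 0, 5, 4, 5, 2, 3, 2, 7, 2, 7, 2, 3, 2, 5, 4, 5, 1, 5, 7, 2, 5, 7, 4, 3, 7, 1, 4, 1, 1, 6, 5, 2, 7, 4, 3, 2, 1, 4, 3, 5, 4, 0, 3, 2, 1, 4, 5, 3, 4, 0, 2, 3, 4, 7, 2, 5, 6, 0, 0, 4, 0, 7, 3, 4, 7, 5, 2, 7, 5, 0, 5],
  [4, 5, 2, 3, 2, 7, 2, 7, 2, 3, 2, 5, 4, 5, 1, 5, 7, 2, 5, 7, 4, 3, 7, 1, 4, 1, 1, 6, 5, 2, 7, 4, 3, 2, 1, 4, 3, 5, 4, 0, 2, 3, 1, 4, 5, 3, 4, 0, 2, 3, 4, 7, 2, 5, 6, 0, 0, 4, 0, 7, 3, 4, 7, 5, 2, 7, 5, 0, 5, 4, 5, 2, 3, 2, 7, 2, 7, 2, 3, 2, 5, 4, 5, 1, 5, 7, 2, 5, 7, 4, 3, 7, 1, 4, 1, 1, 6, 5, 2, 7],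
  [4, 3, 2, 1, 4, 3, 5, 4, 0, 3, 2, 1, 4, 5, 3, 4, 0, 2, 3, 4, 7, 2, 5, 6, 0, 0, 4, 0, 7, 3, 4, 7, 5, 2, 7, 5, 0, 5, 4, 5, 2, 3, 2, 7, 2, 7, 2, 3, 2, 5, 4, 5, 1, 5, 7, 2, 5, 7, 4, 3, 7, 1, 4, 1, 1, 6, 5, 2, 7, 4, 3, 2, 1, 4, 3, 5, 4, 0, 2, 3, 1, 4, 5, 3, 4, 0, 2, 3, 4, 7, 2, 5, 6, 0, 0, 4, 0, 7, 3, 4],
  [7, 5, 2, 7, 5, 0, 5, 4, 5, 2, 3, 2, 7, 2, 7, 2, 3, 2, 5, 4, 5, 1, 5, 7, 2, 5, 7, 4, 3, 7, 1, 4, 1, 1, 6, 5, 2, 7, 4, 3, 2, 1, 4, 3, 5, 4, 0, 3, 2, 1, 4, 5, 3, 4, 0, 2, 3, 4, 7, 2, 5, 6, 0, 0, 4, 0, 7, 3, 4, 7, 5, 2, 7, 5, 0, 5, 4, 5, 2, 3, 2, 7, 2, 7, 2, 3, 2, 5, 4, 5, 1, 5, 7, 2, 5, 7, 4, 3, 7, 1],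
  [4, 1, 1, 6, 5, 2, 7, 4, 3, 2, 1, 4, 3, 5, 4, 0, 2, 3, 1, 4, 5, 3, 4, 0, 2, 3, 4, 7, 2, 5, 6, 0, 0, 4, 0, 7, 3, 4, 7, 5, 2, 7, 5, 0, 5, 4, 5, 2, 3, 2, 7, 2, 7, 2, 3, 2, 5, 4, 5, 1, 5, 7, 2, 5, 7, 4, 3, 7, 1, 4, 1, 1, 6, 5, 2, 7, 4, 3, 2, 1, 4, 3, 5, 4, 0, 3, 2, 1, 4, 5, 3, 4, 0, 2, 3, 4, 7, 2, 5, 6],
  [0, 0, 4, 0, 7, 3, 4, 7, 5, 2, 7, 5, 0, 5, 4, 5, 2, 3, 2, 7, 2, 7, 2, 3, 2, 5, 4, 5, 1, 5, 7, 2, 5, 7, 4, 3, 7, 1, 4, 1, 1, 6, 5, 2, 7, 4, 3, 2, 1, 4, 3, 5, 4, 0, 2, 3, 1, 4, 5, 3, 4, 0, 2, 3, 4, 7, 2, 5, 6, 0, 0, 4, 0, 7, 3, 4, 7, 5, 2, 7, 5, 0, 5, 4, 5, 2, 3, 2, 7, 2, 7, 2, 3, 2, 5, 4, 5, 1, 5, 7],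
  [2, 5, 7, 4, 3, 7, 1, 4, 1, 1, 6, 5, 2, 7, 4, 3, 2, 1, 4, 3, 5, 4, 0, 3, 2, 1, 4, 5, 3, 4, 0, 2, 3, 4, 7, 2, 5, 6, 0, 0, 4, 0, 7, 3, 4, 7, 5, 2, 7, 5, 0, 5, 4, 5, 2, 3, 2, 7, 2, 7, 2, 3, 2, 5, 4, 5, 1, 5, 7, 2, 5, 7, 4, 3, 7, 1, 4, 1, 1, 6, 5, 2, 7, 4, 3, 2, 1, 4, 3, 5, 4, 0, 2, 3, 1, 4, 5, 3, 4, 0],
  [2, 3, 4, 7, 2, 5, 6, 0, 0, 4, 0, 7, 3, 4, 7, 5, 2, 7, 5, 0, 5, 4, 5, 2, 3, 2, 7, 2, 7, 2, 3, 2, 5, 4, 5, 1, 5, 7, 2, 5, 7, 4, 3, 7, 1, 4, 1, 1, 6, 5, 2, 7, 4, 3, 2, 1, 4, 3, 5, 4, 0, 3, 2, 1, 4, 5, 3, 4, 0, 2, 3, 4, 7, 2, 5, 6, 0, 0, 4, 0, 7, 3, 4, 7, 5, 2, 7, 5, 0, 5, 4, 5, 2, 3, 2, 7, 2, 7, 2, 3],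
  [2, 5, 4, 5, 1, 5, 7, 2, 5, 7, 4, 3, 7, 1, 4, 1, 1, 6, 5, 2, 7, 4, 3, 2, 1, 4, 3, 5, 4, 0, 2, 3, 1, 4, 5, 3, 4, 0, 2, 3, 4, 7, 2, 5, 6, 0, 0, 4, 0, 7, 3, 4, 7, 5, 2, 7, 5, 0, 5, 4, 5, 2, 3, 2, 7, 2, 7, 2, 3, 2, 5, 4, 5, 1, 5, 7, 2, 5, 7, 4, 3, 7, 1, 4, 1, 1, 6, 5, 2, 7, 4, 3, 2, 1, 4, 3, 5, 4, 0, 3],
  [2, 1, 4, 5, 3, 4, 0, 2, 3, 4, 7, 2, 5, 6, 0, 0, 4, 0, 7, 3, 4, 7, 5, 2, 7, 5, 0, 5, 4, 5, 2, 3, 2, 7, 2, 7, 2, 3, 2, 5, 4, 5, 1, 5, 7, 2, 5, 7, 4, 3, 7, 1, 4, 1, 1, 6, 5, 2, 7, 4, 3, 2, 1, 4, 3, 5, 4, 0, 2, 3, 1, 4, 5, 3, 4, 0, 2, 3, 4, 7, 2, 5, 6, 0, 0, 4, 0, 7, 3, 4, 7, 5, 2, 7, 5, 0, 5, 4, 5, 2],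
  [3, 2, 7, 2, 7, 2, 3, 2, 5, 4, 5, 1, 5, 7, 2, 5, 7, 4, 3, 7, 1, 4, 1, 1, 6, 5, 2, 7, 4, 3, 2, 1, 4, 3, 5, 4, 0, 3, 2, 1, 4, 5, 3, 4, 0, 2, 3, 4, 7, 2, 5, 6, 0, 0, 4, 0, 7, 3, 4, 7, 5, 2, 7, 5, 0, 5, 4, 5, 2, 3, 2, 7, 2, 7, 2, 3, 2, 5, 4, 5, 1, 5, 7, 2, 5, 7, 4, 3, 7, 1, 4, 1, 1, 6, 5, 2, 7, 4, 3, 2],
  [1, 4, 3, 5, 4, 0, 2, 3, 1, 4, 5, 3, 4, 0, 2, 3, 4, 7, 2, 5, 6, 0, 0, 4, 0, 7, 3, 4, 7, 5, 2, 7, 5, 0, 5, 4, 5, 2, 3, 2, 7, 2, 7, 2, 3, 2, 5, 4, 5, 1, 5, 7, 2, 5, 7, 4, 3, 7, 1, 4, 1, 1, 6, 5, 2, 7, 4, 3, 2, 1, 4, 3, 5, 4, 0, 3, 2, 1, 4, 5, 3, 4, 0, 2, 3, 4, 7, 2, 5, 6, 0, 0, 4, 0, 7, 3, 4, 7, 5, 2],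
  [7, 5, 0, 5, 4, 5, 2, 3, 2, 7, 2]]

/-- the generator 2 as a product of words in the letters of the O'Nan group -/
def ow2 : List (List ℕ) := [
  [2, 7, 2, 3, 2, 5, 4, 5, 1, 5, 7, 2, 5, 7, 4, 3, 7, 1, 4, 1, 1, 6, 5, 2, 7, 4, 3, 2, 1, 4, 3, 5, 4, 0, 2, 3, 1, 4, 5, 3, 4, 0, 2, 3, 4, 7, 2, 5, 6, 0, 0, 4, 0, 7, 3, 4, 7, 5, 2, 7, 5, 0, 5, 4, 5, 2, 3, 2, 7, 2, 7, 2, 3, 2, 5, 4, 5, 1, 5, 7, 2, 5, 7, 4, 3, 7, 1, 4, 1, 1, 6, 5, 2, 7, 4, 3, 2, 1, 4, 3],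
  [5, 4, 0, 3, 2, 1, 4, 5, 3, 4, 0, 2, 3, 4, 7, 2, 5, 6, 0, 0, 4, 0, 7, 3, 4, 7, 5, 2, 7, 5, 0, 5, 4, 5, 2, 3, 2, 7, 2, 7, 2, 3, 2, 5, 4, 5, 1, 5, 7, 2, 5, 7, 4, 3, 7, 1, 4, 1, 1, 6, 5, 2, 7, 4, 3, 2, 1, 4, 3, 5, 4, 0, 2, 3, 1, 4, 5, 3, 4, 0, 2, 3, 4, 7, 2, 5, 6, 0, 0, 4, 0, 7, 3, 4, 7, 5, 2, 7, 5, 0],
  [5, 4, 5, 2, 3, 2, 7, 2, 7, 2, 3, 2, 5, 4, 5, 1, 5, 7, 2, 5, 7, 4, 3, 7, 1, 4, 1, 1, 6, 5, 2, 7, 4, 3, 2, 1, 4, 3, 5, 4, 0, 3, 2, 1, 4, 5, 3, 4, 0, 2, 3, 4, 7, 2, 5, 6, 0, 0, 4, 0, 7, 3, 4, 7, 5, 2, 7, 5, 0, 5, 4, 5, 2, 3, 2, 7, 2, 7, 2, 3, 2, 5, 4, 5, 1, 5, 7, 2, 5, 7, 4, 3, 7, 1, 4, 1, 1, 6, 5, 2],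
  [7, 4, 3, 2, 1, 4, 3, 5, 4, 0, 2, 3, 1, 4, 5, 3, 4, 0, 2, 3, 4, 7, 2, 5, 6, 0, 0, 4, 0, 7, 3, 4, 7, 5, 2, 7, 5, 0, 5, 4, 5, 2, 3, 2, 7, 2, 7, 2, 3, 2, 5, 4, 5, 1, 5, 7, 2, 5, 7, 4, 3, 7, 1, 4, 1, 1, 6, 5, 2, 7, 4, 3, 2, 1, 4, 3, 5, 4, 0, 3, 2, 1, 4, 5, 3, 4, 0, 2, 3, 4, 7, 2, 5, 6, 0, 0, 4, 0, 7, 3],
  [4, 7, 5, 2, 7, 5, 0, 5, 4, 5, 2, 3, 2, 7, 2, 7, 2, 3, 2, 5, 4, 5, 1, 5, 7, 2, 5, 7, 4, 3, 7, 1, 4, 1, 1, 6, 5, 2, 7, 4, 3, 2, 1, 4, 3, 5, 4, 0, 2, 3, 1, 4, 5, 3, 4, 0, 2, 3, 4, 7, 2, 5, 6, 0, 0, 4, 0, 7, 3, 4, 7, 5, 2, 7, 5, 0, 5, 4, 5, 2, 3, 2, 7, 2, 7, 2, 3, 2, 5, 4, 5, 1, 5, 7, 2, 5, 7, 4, 3, 7],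
  [1, 4, 1, 1, 6, 5, 2, 7, 4, 3, 2, 1, 4, 3, 5, 4, 0, 3, 2, 1, 4, 5, 3, 4, 0, 2, 3, 4, 7, 2, 5, 6, 0, 0, 4, 0, 7, 3, 4, 7, 5, 2, 7, 5, 0, 5, 4, 5, 2, 3, 2, 7, 2, 7, 2, 3, 2, 5, 4, 5, 1, 5, 7, 2, 5, 7, 4, 3, 7, 1, 4, 1, 1, 6, 5, 2, 7, 4, 3, 2, 1, 4, 3, 5, 4, 0, 2, 3, 1, 4, 5, 3, 4, 0, 2, 3, 4, 7, 2, 5],
  [6, 0, 0, 4, 0, 7, 3, 4, 7, 5, 2, 7, 5, 0, 5, 4, 5, 2, 3, 2, 7, 2, 7, 2, 3, 2, 5, 4, 5, 1, 5, 7, 2, 5, 7, 4, 3, 7, 1, 4, 1, 1, 6, 5, 2, 7, 4, 3, 2, 1, 4, 3, 5, 4, 0, 3, 2, 1, 4, 5, 3, 4, 0, 2, 3, 4, 7, 2, 5, 6, 0, 0, 4, 0, 7, 3, 4, 7, 5, 2, 7, 5, 0, 5, 4, 5, 2, 3, 2, 7, 2, 7, 2, 3, 2, 5, 4, 5, 1, 5],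
  [7, 2, 5, 7, 4, 3, 7, 1, 4, 1, 1, 6, 5, 2, 7, 4, 3, 2, 1, 4, 3, 5, 4, 0, 2, 3, 1, 4, 5, 3, 4, 0, 2, 3, 4, 7, 2, 5, 6, 0, 0, 4, 0, 7, 3, 4, 7, 5, 2, 7, 5, 0, 5, 4, 5, 2, 3, 2, 7, 2, 7, 2, 3, 2, 5, 4, 5, 1, 5, 7, 2, 5, 7, 4, 3, 7, 1, 4, 1, 1, 6, 5, 2, 7, 4, 3, 2, 1, 4, 3, 5, 4, 0, 3, 2, 1, 4, 5, 3, 4],
  [0, 2, 3, 4, 7, 2, 5, 6, 0, 0, 4, 0, 7, 3, 4, 7, 5, 2, 7, 5, 0, 5, 4, 5, 2, 3, 2, 7, 2, 7, 2, 3, 2, 5, 4, 5, 1, 5, 7, 2, 5, 7, 4, 3, 7, 1, 4, 1, 1, 6, 5, 2, 7, 4, 3, 2, 1, 4, 3, 5, 4, 0, 2, 3, 1, 4, 5, 3, 4, 0, 2, 3, 4, 7, 2, 5, 6, 0, 0, 4, 0, 7, 3, 4, 7, 5, 2, 7, 5, 0, 5, 4, 5, 2, 3, 2, 7, 2, 7, 2],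
  [3, 2, 5, 4, 5, 1, 5, 7, 2, 5, 7, 4, 3, 7, 1, 4, 1, 1, 6, 5, 2, 7, 4, 3, 2, 1, 4, 3, 5, 4, 0, 3, 2, 1, 4, 5, 3, 4, 0, 2, 3, 4, 7, 2, 5, 6, 0, 0, 4, 0, 7, 3, 4, 7, 5, 2, 7, 5, 0, 5, 4, 5, 2, 3, 2, 7, 2, 7, 2, 3, 2, 5, 4, 5, 1, 5, 7, 2, 5, 7, 4, 3, 7, 1, 4, 1, 1, 6, 5, 2, 7, 4, 3, 2, 1, 4, 3, 5, 4, 0],
  [2, 3, 1, 4, 5, 3, 4, 0, 2, 3, 4, 7, 2, 5, 6, 0, 0, 4, 0, 7, 3, 4, 7, 5, 2, 7, 5, 0, 5, 4, 5, 2, 3, 2, 7, 2, 7, 2, 3, 2, 5, 4, 5, 1, 5, 7, 2, 5, 7, 4, 3, 7, 1, 4, 1, 1, 6, 5, 2, 7, 4, 3, 2, 1, 4, 3, 5, 4, 0, 3, 2, 1, 4, 5, 3, 4, 0, 2, 3, 4, 7, 2, 5, 6, 0, 0, 4, 0, 7, 3, 4, 7, 5, 2, 7, 5, 0, 5, 4, 5],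
  [2, 3, 2, 7, 2, 7, 2, 3, 2, 5, 4, 5, 1, 5, 7, 2, 5, 7, 4, 3, 7, 1, 4, 1, 1, 6, 5, 2, 7, 4, 3, 2, 1, 4, 3, 5, 4, 0, 2, 3, 1, 4, 5, 3, 4, 0, 2, 3, 4, 7, 2, 5, 6, 0, 0, 4, 0, 7, 3, 4, 7, 5, 2, 7, 5, 0, 5, 4, 5, 2, 3, 2, 7, 2, 7, 2, 3, 2, 5, 4, 5, 1, 5, 7, 2, 5, 7, 4, 3, 7, 1, 4, 1, 1, 6, 5, 2, 7, 4, 3],
  [2, 1, 4, 3, 5, 4, 0, 3, 2, 1, 4, 5, 3, 4, 0, 2, 3, 4, 7, 2, 5, 6, 0, 0, 4, 0, 7, 3, 4, 7, 5, 2, 7, 5, 0, 5, 4, 5, 2, 3, 2, 7, 2]]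

/-- the generators as products of words in the letters of the O'Nan group -/
def OW : List (List (List ℕ)) := [ow0, ow1, ow2]

end Cfsg.Agent.Lib.Helper39.OJOrd
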