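import Cfsg.Agent.Lib.Helper39.OJSD0

set_option maxRecDepth 100000
set_option maxHeartbeats 0

namespace Cfsg.Agent.Lib.Helper39.OJS
open Cfsg.Agent.Lib.Helper38

noncomputable def rTRoot : BT := .node 608 (.node 304 (.node 160 (.node 80 (.node 48 (.node 32 (.node 16 (rT0) (rT1)) (rT2)) (.node 64 (rT3) (rT4))) (.node 128 (.node 112 (.node 96 (rT5) (rT6)) (rT7)) (.node 144 (rT8) (rT9)))) (.node 240 (.node 208 (.node 192 (.node 176 (rT10) (rT11)) (rT12)) (.node 224 (rT13) (rT14))) (.node 272 (.node 256 (rT15) (rT16)) (.node 288 (rT17) (rT18))))) (.node 464 (.node 384 (.node 352 (.node 336 (.node 320 (rT19) (rT20)) (rT21)) (.node 368 (rT22) (rT23))) (.node 432 (.node 416 (.node 400 (rT24) (rT25)) (rT26)) (.node 448 (rT27) (rT28)))) (.node 544 (.node 512 (.node 496 (.node 480 (rT29) (rT30)) (rT31)) (.node 528 (rT32) (rT33))) (.node 576 (.node 560 (rT34) (rT35)) (.node 592 (rT36) (rT37)))))) (.node 912 (.node 768 (.node 688 (.node 656 (.node 640 (.node 624 (rT38) (rT39)) (rT40)) (.node 672 (rT41) (rT42))) (.node 736 (.node 720 (.node 704 (rT43)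 (rT44)) (rT45)) (.node 752 (rT46) (rT47)))) (.node 848 (.node 816 (.node 800 (.node 784 (rT48) (rT49)) (rT50)) (.node 832 (rT51) (rT52))) (.node 880 (.node 864 (rT53) (rT54)) (.node 896 (rT55) (rT56))))) (.node 1056 (.node 992 (.node 960 (.node 944 (.node 928 (rT57) (rT58)) (rT59)) (.node 976 (rT60) (rT61))) (.node 1024 (.node 1008 (rT62) (rT63)) (.node 1040 (rT64) (rT65)))) (.node 1136 (.node 1104 (.node 1088 (.node 1072 (rT66) (rT67)) (rT68)) (.node 1120 (rT69) (rT70))) (.node 1168 (.node 1152 (rT71) (rT72)) (.node 1184 (rT73) (rT74))))))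
noncomputable def nTRoot : BT := .node 160 (.node 80 (.node 48 (.node 32 (.node 16 (nT0) (nT1)) (nT2)) (.node 64 (nT3) (nT4))) (.node 128 (.node 112 (.node 96 (nT5) (nT6)) (nT7)) (.node 144 (nT8) (nT9)))) (.node 240 (.node 208 (.node 192 (.node 176 (nT10) (nT11)) (nT12)) (.node 224 (nT13) (nT14))) (.node 272 (.node 256 (nT15) (nT16)) (.node 288 (nT17) (nT18))))

/-- the certificate -/
noncomputable def cert : Cert where
  g := 3
  m := 9545
  n := 4620
  R := 18347
  fuel := 6
  nw := 11
  nrel := 6
  nsub := 9
  lg := 3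
  lmask := 7
  rW := 238
  eW := 56
  mv := 16383
  mr := 32767
  mw := 15
  mt := 127
  ml := 3
  oR := 14
  oK := 29
  oW := 31
  oT := 35
  oU := 42
  oM := 168
  oMR := 182
  oMW := 197
  oMT := 201
  oMU := 208
  oP := 222
  oL := 236
  rows := rTRoot
  wW := 217
  wt := 7
  wl := 2
  WD := 0x404000000000000000000000000000000000000000000000000000002000000000000000000000000000000000000000000000000000502000000000000000000000000000000000000000000000000000141000000000000000000000000000000000000000000000000000000800000000000000000000000000000000088888888888888888884c0000000000000000000000000c48c48c48c48c48c48c48c48c493801862491891891891891891892461892462462462462462462493331231231248c48c48c49231231231248c48c48c49231231231249a400000000000000000000000000000000000000000249249249242a00000000000000000000000000000000000000000000000004cc86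
  lgN := 4
  lmaskN := 15
  nW := 104
  wv := 14
  oCan := 42
  oPN := 56
  oLN := 70
  oComp := 72
  mc := 255
  oOP := 80
  oOW := 94
  oOD := 98
  md := 31
  oODir := 103
  ncomp := 153
  ROOTS := 0x120a48210d53b80ec732d8cab31f8c763044be426c49842598962253894c2458912244090a23d48e123448cf231c8c423088ac22688961b646cd1afc6b11a106821a0065e195c650193063a18e063318ac621186c6191858614184060817f85f812ac4a61258492123848c120847e11ec45b115444510ec43710cc4311094411103c40d10283260c783170c503120c383080bcc2f00ba42e50b7c2dd0b6c2d50b4c2cf0b242c70b142c10aec21e0870214084820f083420907f41f707d41f107ac1e7078c1dd07681d805881600568153054414f052c145050814003c80ee03a00e603700d9035c0d30268096023808c0220084018c060016805600f803a00d8027009001600380040004000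
  nrows := nTRoot

end Cfsg.Agent.Lib.Helper39.OJS
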