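import Cfsg.Agent.Lib.Helper39.OJTD0

set_option maxRecDepth 100000
set_option maxHeartbeats 0

namespace Cfsg.Agent.Lib.Helper39.OJT
open Cfsg.Agent.Lib.Helper38

noncomputable def rTRoot : BT := rT0
noncomputable def nTRoot : BT := nT0

/-- the certificate -/
noncomputable def cert : Cert where
  g := 3
  m := 9
  n := 1
  R := 18
  fuel := 4
  nw := 10
  nrel := 7
  nsub := 10
  lg := 3
  lmask := 7
  rW := 108
  eW := 26
  mv := 15
  mr := 31
  mw := 15
  mt := 127
  ml := 3
  oR := 4
  oK := 9
  oW := 11
  oT := 15
  oU := 22
  oM := 78
  oMR := 82
  oMW := 87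
  oMT := 91
  oMU := 98
  oP := 102
  oL := 106
  rows := rTRoot
  wW := 217
  wt := 7
  wl := 2
  WD := 0xa04000000000000000000000000000000000000000000000000000282000000000000000000000000000000000000000000000000000001000000000000000000000000000000000000000000000000000000400000000000000000000000000000000088888888888888888884c0000000000000000000000000c48c48c48c48c48c48c48c48c493801862491891891891891891892461892462462462462462462493331231231248c48c48c49231231231248c48c48c49231231231249a400000000000000000000000000000000000000000249249249242a00000000000000000000000000000000000000000000000004cc86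
  lgN := 4
  lmaskN := 15
  nW := 33
  wv := 4
  oCan := 12
  oPN := 16
  oLN := 20
  oComp := 22
  mc := 1
  oOP := 23
  oOW := 27
  oOD := 31
  md := 1
  oODir := 32
  ncomp := 1
  ROOTS := 0x0
  nrows := nTRoot

end Cfsg.Agent.Lib.Helper39.OJT
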