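import Cfsg.Agent.Lib.Helper39.OrdT

/-!
Data for a subgroup of the presented O'Nan group isomorphic to the Mathieu group M₁₁ (generated): a presentation
on three involutions, a maximal subgroup, a base, and words for the generators in the letters
`0 = g`, `1 = g⁻¹`, `2 … 7 = a … f` of the O'Nan group.
-/

namespace Cfsg.Agent.Lib.Helper39.OMOrd

/-- the relators on the three involutions -/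
def WQ : List (List ℕ) := [
  [1, 2, 1, 2, 1, 2, 1, 2],
  [0, 1, 2, 0, 1, 2, 0, 1, 2, 0, 1, 2, 0, 1, 2, 0, 1, 2, 0, 1, 2, 0, 1, 2, 0, 1, 2, 0, 1, 2, 0, 1, 2],
  [0, 1, 2, 1, 2, 0, 1, 2, 1, 2, 0, 1, 2, 1, 2, 0, 1, 2, 1, 2, 0, 1, 2, 1, 2, 0, 1, 2, 1, 2],
  [0, 1, 2, 0, 1, 2, 0, 2, 1, 0, 1, 2, 0, 1, 2, 1, 2, 0, 2, 1, 0, 1, 2, 0, 2, 1, 0, 2, 1],
  [2, 0, 1, 2, 0, 1, 2, 0, 1, 2, 0, 1, 2, 1, 2, 0, 2, 1, 2, 1, 0, 2, 1, 0, 2, 1, 0, 2, 1, 0],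
  [0, 1, 0, 1, 0, 1, 0, 1, 0, 1, 0, 1]]

/-- the relators of a dihedral subgroup, and the other letter -/
def WC : List (List ℕ) := [
  [0, 1, 0, 1, 0, 1, 0, 1, 0, 1, 0, 1],
  [2]]

/-- the commutators of the generators -/
def WA : List (List ℕ) := [
  [0, 1, 0, 1],
  [0, 2, 0, 2],
  [1, 2, 1, 2]]

/-- the word of the involution `t` -/
def tw : List ℕ := [0]

/-- a generator of the centraliser of `t` -/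
def bw0 : List ℕ := [1, 0, 1, 0, 1]

/-- a generator of the centraliser of `t` -/
def bw1 : List ℕ := [2, 0, 1, 2, 1, 0, 2]

/-- a generator of the centraliser of `t` -/
def bw2 : List ℕ := [2, 0, 1, 0, 1, 2, 1, 2, 0, 1, 0, 2]

/-- level 1: words fixing the earlier base points -/
def cw1 : List (List ℕ) := [
  [1, 0, 1, 0, 1],
  [2, 0, 1, 2, 1, 0, 2],
  [2, 0, 1, 0, 1, 2, 1, 2, 0, 1, 0, 2]]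

/-- level 1: orbit tree with root 33, 8 points -/
def ct1 : List (ℕ × ℕ × ℕ) := [
  (135, 33, 2), (82, 135, 0), (3, 135, 1), (118, 82, 1), (1, 3, 0), (113, 118, 0), (54, 113, 2)]

/-- level 2: words fixing the earlier base points -/
def cw2 : List (List ℕ) := [
  [1, 0, 1, 0, 1],
  [2, 0, 1, 2, 1, 0, 2]]

/-- level 2: orbit tree with root 17, 3 points -/
def ct2 : List (ℕ × ℕ × ℕ) := [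
  (94, 17, 0), (69, 94, 1)]

/-- level 3: words fixing the earlier base points -/
def cw3 : List (List ℕ) := [
  [2, 0, 1, 2, 1, 0, 2]]

/-- level 3: orbit tree with root 1, 2 points -/
def ct3 : List (ℕ × ℕ × ℕ) := [
  (113, 1, 0)]

/-- maximality data for the centraliser of `t` -/
def MDB : List (List ℕ × List (ℕ × ℕ)) := [
  ([], []),
  ([1], [(0, 0), (33, 0), (43, 0), (46, 0), (49, 0), (52, 0), (60, 0)]),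
  ([2], [(0, 0), (22, 0), (26, 0), (35, 0), (36, 0), (46, 0), (50, 0)]),
  ([2, 1], [(0, 0), (0, 1), (4, 0), (7, 1), (8, 0), (9, 1), (25, 1)]),
  ([1, 2], [(0, 0), (0, 1), (4, 1), (7, 0), (8, 1), (9, 0), (25, 0)]),
  ([2, 1, 2], [(0, 0), (15, 0), (20, 0), (23, 0), (34, 0), (39, 0), (44, 0)]),
  ([2, 1, 0, 2, 1], [(0, 0), (26, 0), (27, 0), (38, 0), (40, 0), (44, 1), (46, 1)]),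
  ([2, 0, 1, 0, 2], [(0, 0), (73, 0), (77, 0), (80, 0), (81, 0), (96, 0), (97, 0)])]

/-- the generator 0 as a product of words in the letters of the O'Nan group -/
def ow0 : List (List ℕ) := [
  [2]]

/-- the generator 1 as a product of words in the letters of the O'Nan group -/
def ow1 : List (List ℕ) := [
  [3, 5, 1, 4, 7, 2, 5, 6, 1, 7, 5, 3, 4, 0, 3, 2, 5, 7, 6, 4, 2, 5, 6, 2, 4, 7, 4, 6, 0, 6, 4, 7, 4, 2, 6, 5, 2, 4, 6, 7, 5, 2, 3, 1, 4, 3, 5, 7, 0, 6, 5, 2, 7, 4, 0, 5, 3, 2, 3, 5, 1, 4, 7, 2, 5, 6, 1, 7, 5, 3, 4, 0, 3, 2, 5, 7, 6, 4, 2, 5, 6, 2, 4, 7, 4, 6, 0, 6, 4, 7, 4, 2, 6, 5, 2, 4, 6, 7, 5, 2],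
  [3, 1, 4, 3, 5, 7, 0, 6, 5, 2, 7, 4, 0, 5, 3, 2, 3, 5, 1, 4, 7, 2, 5, 6, 1, 7, 5, 3, 4, 0, 3, 2, 5, 7, 6, 4, 2, 5, 6, 2, 4, 7, 4, 6, 0, 6, 4, 7, 4, 2, 6, 5, 2, 4, 6, 7, 5, 2, 3, 1, 4, 3, 5, 7, 0, 6, 5, 2, 7, 4, 0, 5, 3, 2, 3, 5, 1, 4, 7, 2, 5, 6, 1, 7, 5, 3, 4, 0, 3, 2, 5, 7, 6, 4, 2, 5, 6, 2, 4, 7],
  [4, 6, 0, 6, 4, 7, 4, 2, 6, 5, 2, 4, 6, 7, 5, 2, 3, 1, 4, 3, 5, 7, 0, 6, 5, 2, 7, 4, 0, 5, 3, 2, 3, 5, 1, 4, 7, 2, 5, 6, 1, 7, 5, 3, 4, 0, 3, 2, 5, 7, 6, 4, 2, 5, 6, 2, 4, 7, 4, 6, 0, 6, 4, 7, 4, 2, 6, 5, 2, 4, 6, 7, 5, 2, 3, 1, 4, 3, 5, 7, 0, 6, 5, 2, 7, 4, 0, 5, 3, 3, 5, 1, 4, 7, 2, 5, 6, 1, 7, 5],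
  [3, 4, 0, 3, 2, 5, 7, 6, 4, 2, 5, 6, 2, 4, 7, 4, 6, 0, 6, 4, 7, 4, 2, 6, 5, 2, 4, 6, 7, 5, 2, 3, 1, 4, 3, 5, 7, 0, 6, 5, 2, 7, 4, 0, 5, 3, 2, 3, 5, 1, 4, 7, 2, 5, 6, 1, 7, 5, 3, 4, 0, 3, 2, 5, 7, 6, 4, 2, 5, 6, 2, 4, 7, 4, 6, 1, 6, 4, 7, 4, 2, 6, 5, 2, 4, 6, 7, 5, 2, 3, 1, 4, 3, 5, 7, 0, 6, 5, 2, 7],
  [4, 0, 5, 3, 3, 5, 1, 4, 7, 2, 5, 6, 1, 7, 5, 3, 4, 0, 3, 2, 5, 7, 6, 4, 2, 5, 6, 2, 4, 7, 4, 6, 1, 6, 4, 7, 4, 2, 6, 5, 2, 4, 6, 7, 5, 2, 3, 1, 4, 3, 5, 7, 0, 6, 5, 2, 7, 4, 0, 5, 3, 2, 3, 5, 1, 4, 7, 2, 5, 6, 1, 7, 5, 3, 4, 0, 3, 2, 5, 7, 6, 4, 2, 5, 6, 2, 4, 7, 4, 6, 1, 6, 4, 7, 4, 2, 6, 5, 2, 4],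
  [6, 7, 5, 2, 3, 1, 4, 3, 5, 7, 0, 6, 5, 2, 7, 4, 0, 5, 3, 2, 3, 5, 1, 4, 7, 2, 5, 6, 1, 7, 5, 3, 4, 0, 3, 2, 5, 7, 6, 4, 2, 5, 6, 2, 4, 7, 4, 6, 1, 6, 4, 7, 4, 2, 6, 5, 2, 4, 6, 7, 5, 2, 3, 1, 4, 3, 5, 7, 0, 6, 5, 2, 7, 4, 0, 5, 3, 2, 3, 5, 1, 4, 7, 2, 5, 6, 1, 7, 5, 3, 4, 0, 3, 2, 5, 7, 6, 4, 2, 5],
  [6, 2, 4, 7, 4, 6, 1, 6, 4, 7, 4, 2, 6, 5, 2, 4, 6, 7, 5, 2, 3, 1, 4, 3, 5, 7, 0, 6, 5, 2, 7, 4, 0, 5, 3, 2]]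

/-- the generator 2 as a product of words in the letters of the O'Nan group -/
def ow2 : List (List ℕ) := [
  [2, 3, 5, 1, 4, 7, 2, 5, 6, 1, 7, 5, 3, 4, 0, 3, 2, 5, 7, 6, 4, 2, 5, 6, 2, 4, 7, 4, 6, 0, 6, 4, 7, 4, 2, 6, 5, 2, 4, 6, 7, 5, 2, 3, 1, 4, 3, 5, 7, 0, 6, 5, 2, 7, 4, 0, 5, 3, 2, 3, 5, 1, 4, 7, 2, 5, 6, 1, 7, 5, 3, 4, 0, 3, 2, 5, 7, 6, 4, 2, 5, 6, 2, 4, 7, 4, 6, 0, 6, 4, 7, 4, 2, 6, 5, 2, 4, 6, 7, 5],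
  [2, 3, 1, 4, 3, 5, 7, 0, 6, 5, 2, 7, 4, 0, 5, 3, 2, 3, 5, 1, 4, 7, 2, 5, 6, 1, 7, 5, 3, 4, 0, 3, 2, 5, 7, 6, 4, 2, 5, 6, 2, 4, 7, 4, 6, 0, 6, 4, 7, 4, 2, 6, 5, 2, 4, 6, 7, 5, 2, 3, 1, 4, 3, 5, 7, 0, 6, 5, 2, 7, 4, 0, 5, 3, 2, 3, 5, 1, 4, 7, 2, 5, 6, 1, 7, 5, 3, 4, 0, 3, 2, 5, 7, 6, 4, 2, 5, 6, 2, 4],
  [7, 4, 6, 0, 6, 4, 7, 4, 2, 6, 5, 2, 4, 6, 7, 5, 2, 3, 1, 4, 3, 5, 7, 0, 6, 5, 2, 7, 4, 0, 5, 3, 3, 5, 1, 4, 7, 2, 5, 6, 1, 7, 5, 3, 4, 0, 3, 2, 5, 7, 6, 4, 2, 5, 6, 2, 4, 7, 4, 6, 0, 6, 4, 7, 4, 2, 6, 5, 2, 4, 6, 7, 5, 2, 3, 1, 4, 3, 5, 7, 0, 6, 5, 2, 7, 4, 0, 5, 3, 2, 3, 5, 1, 4, 7, 2, 5, 6, 1, 7],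
  [5, 3, 4, 0, 3, 2, 5, 7, 6, 4, 2, 5, 6, 2, 4, 7, 4, 6, 1, 6, 4, 7, 4, 2, 6, 5, 2, 4, 6, 7, 5, 2, 3, 1, 4, 3, 5, 7, 0, 6, 5, 2, 7, 4, 0, 5, 3, 3, 5, 1, 4, 7, 2, 5, 6, 1, 7, 5, 3, 4, 0, 3, 2, 5, 7, 6, 4, 2, 5, 6, 2, 4, 7, 4, 6, 1, 6, 4, 7, 4, 2, 6, 5, 2, 4, 6, 7, 5, 2, 3, 1, 4, 3, 5, 7, 0, 6, 5, 2, 7],
  [4, 0, 5, 3, 2, 3, 5, 1, 4, 7, 2, 5, 6, 1, 7, 5, 3, 4, 0, 3, 2, 5, 7, 6, 4, 2, 5, 6, 2, 4, 7, 4, 6, 1, 6, 4, 7, 4, 2, 6, 5, 2, 4, 6, 7, 5, 2, 3, 1, 4, 3, 5, 7, 0, 6, 5, 2, 7, 4, 0, 5, 3, 2, 3, 5, 1, 4, 7, 2, 5, 6, 1, 7, 5, 3, 4, 0, 3, 2, 5, 7, 6, 4, 2, 5, 6, 2, 4, 7, 4, 6, 1, 6, 4, 7, 4, 2, 6, 5, 2],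
  [4, 6, 7, 5, 2, 3, 1, 4, 3, 5, 7, 0, 6, 5, 2, 7, 4, 0, 5, 3, 2, 3, 5, 1, 4, 7, 2, 5, 6, 1, 7, 5, 3, 4, 0, 3, 2, 5, 7, 6, 4, 2, 5, 6, 2, 4, 7, 4, 6, 1, 6, 4, 7, 4, 2, 6, 5, 2, 4, 6, 7, 5, 2, 3, 1, 4, 3, 5, 7, 0, 6, 5, 2, 7, 4, 0, 5, 3, 2]]

/-- the generators as products of words in the letters of the O'Nan group -/
def OW : List (List (List ℕ)) := [ow0, ow1, ow2]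

end Cfsg.Agent.Lib.Helper39.OMOrd
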