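import Cfsg.Agent.Lib.Helper39.ONBD0

set_option maxRecDepth 100000
set_option maxHeartbeats 0

namespace Cfsg.Agent.Lib.Helper39.ONB
open Cfsg.Agent.Lib.Helper38

noncomputable def rTRoot : BT := .node 208 (.node 112 (.node 64 (.node 32 (.node 16 (rT0) (rT1)) (.node 48 (rT2) (rT3))) (.node 96 (.node 80 (rT4) (rT5)) (rT6))) (.node 160 (.node 144 (.node 128 (rT7) (rT8)) (rT9)) (.node 192 (.node 176 (rT10) (rT11)) (rT12)))) (.node 304 (.node 256 (.node 240 (.node 224 (rT13) (rT14)) (rT15)) (.node 288 (.node 272 (rT16) (rT17)) (rT18))) (.node 352 (.node 336 (.node 320 (rT19) (rT20)) (rT21)) (.node 384 (.node 368 (rT22) (rT23)) (rT24))))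
noncomputable def nTRoot : BT := .node 16 (nT0) (nT1)

/-- the certificate -/
noncomputable def cert : Cert where
  g := 8
  m := 3143
  n := 456
  R := 7933
  fuel := 6
  nw := 28
  nrel := 18
  nsub := 26
  lg := 3
  lmask := 7
  rW := 454
  eW := 49
  mv := 4095
  mr := 8191
  mw := 31
  mt := 31
  ml := 7
  oR := 12
  oK := 25
  oW := 27
  oT := 32
  oU := 37
  oM := 392
  oMR := 404
  oMW := 417
  oMT := 422
  oMU := 427
  oP := 439
  oL := 451
  rows := rTRoot
  wW := 62
  wt := 5
  wl := 3
  WD := 0x51d975f2b9758d4c000000000019c640000000000001f880000000000006c200000000000016880000000000004820000000000000d880000000000002420000000000000488000000000000002000000000000008400000000000000100000012cb2cbd280000000007df7c6000000000007be900000000006baea60000000000079e1000000000001a684005965965965964000000000001df640000000000067990000000000015d6400000000011c719800000000001d7440000000000065910000000000015544000000000004511000000000034d346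
  lgN := 4
  lmaskN := 15
  nW := 147
  wv := 12
  oCan := 96
  oPN := 108
  oLN := 120
  oComp := 123
  mc := 3
  oOP := 125
  oOW := 137
  oOD := 142
  md := 15
  oODir := 146
  ncomp := 4
  ROOTS := 0x18009001000
  nrows := nTRoot

end Cfsg.Agent.Lib.Helper39.ONB
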