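import Cfsg.Agent.Lib.Helper39.ONCD0

set_option maxRecDepth 100000
set_option maxHeartbeats 0

namespace Cfsg.Agent.Lib.Helper39.ONC
open Cfsg.Agent.Lib.Helper38

noncomputable def rTRoot : BT := .node 176 (.node 96 (.node 48 (.node 32 (.node 16 (rT0) (rT1)) (rT2)) (.node 80 (.node 64 (rT3) (rT4)) (rT5))) (.node 144 (.node 128 (.node 112 (rT6) (rT7)) (rT8)) (.node 160 (rT9) (rT10)))) (.node 256 (.node 224 (.node 208 (.node 192 (rT11) (rT12)) (rT13)) (.node 240 (rT14) (rT15))) (.node 304 (.node 288 (.node 272 (rT16) (rT17)) (rT18)) (.node 320 (rT19) (rT20))))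
noncomputable def nTRoot : BT := .node 32 (.node 16 (nT0) (nT1)) (nT2)

/-- the certificate -/
noncomputable def cert : Cert where
  g := 8
  m := 2688
  n := 672
  R := 5713
  fuel := 3
  nw := 22
  nrel := 14
  nsub := 22
  lg := 3
  lmask := 7
  rW := 454
  eW := 49
  mv := 4095
  mr := 8191
  mw := 31
  mt := 31
  ml := 7
  oR := 12
  oK := 25
  oW := 27
  oT := 32
  oU := 37
  oM := 392
  oMR := 404
  oMW := 417
  oMT := 422
  oMU := 427
  oP := 439
  oL := 451
  rows := rTRoot
  wW := 53
  wt := 5
  wl := 3
  WD := 0xfc400000000006c200000000002d10000000000120800000000006c40000000000242000000000009100000000000008000000000018200000000000210000000000000800012cb2cbd28000000003df48000000001e784b2cb2cb2cb2c800000000077d90000000002bac80000000471c66000000000eba2000000000555100000000022888000000034d346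
  lgN := 4
  lmaskN := 15
  nW := 152
  wv := 12
  oCan := 96
  oPN := 108
  oLN := 120
  oComp := 123
  mc := 1023
  oOP := 133
  oOW := 145
  oOD := 150
  md := 1
  oODir := 151
  ncomp := 672
  ROOTS := 0x29f29e29d29c29b29a29929829729629529429329229129028f28e28d28c28b28a28928828728628528428328228128027f27e27d27c27b27a27927827727627527427327227127026f26e26d26c26b26a26926826726626526426326226126025f25e25d25c25b25a25925825725625525425325225125024f24e24d24c24b24a24924824724624524424324224124023f23e23d23c23b23a23923823723623523423323223123022f22e22d22c22b22a22922822722622522422322222122021f21e21d21c21b21a21921821721621521421321221121020f20e20d20c20b20a2092082072062052042032022012001ff1fe1fd1fc1fb1fa1f91f81f71f61f51f41f31f21f11f01ef1ee1ed1ec1eb1ea1e91e81e71e61e51e41e31e21e11e01df1de1dd1dc1db1da1d91d81d71d61d51d41d31d21d11d01cf1ce1cd1cc1cb1ca1c91c81c71c61c51c41c31c21c11c01bf1be1bd1bc1bb1ba1b91b81b71b61b51b41b31b21b11b01af1ae1ad1ac1ab1aa1a91a81a71a61a51a41a31a21a11a019f19e19d19c19b19a19919819719619519419319219119018f18e18d18c18b18a18918818718618518418318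218118017f17e17d17c17b17a17917817717617517417317217117016f16e16d16c16b16a16916816716616516416316216116015f15e15d15c15b15a15915815715615515415315215115014f14e14d14c14b14a14914814714614514414314214114013f13e13d13c13b13a13913813713613513413313213113012f12e12d12c12b12a12912812712612512412312212112011f11e11d11c11b11a11911811711611511411311211111010f10e10d10c10b10a1091081071061051041031021011000ff0fe0fd0fc0fb0fa0f90f80f70f60f50f40f30f20f10f00ef0ee0ed0ec0eb0ea0e90e80e70e60e50e40e30e20e10e00df0de0dd0dc0db0da0d90d80d70d60d50d40d30d20d10d00cf0ce0cd0cc0cb0ca0c90c80c70c60c50c40c30c20c10c00bf0be0bd0bc0bb0ba0b90b80b70b60b50b40b30b20b10b00af0ae0ad0ac0ab0aa0a90a80a70a60a50a40a30a20a10a009f09e09d09c09b09a09909809709609509409309209109008f08e08d08c08b08a08908808708608508408308208108007f07e07d07c07b07a07907807707607507407307207107006f06e06d06c06b06a06906806706606506406306206106005f05e05d05c05b05a05905805705605505405305205105004f04e04d04c04b04a04904804704604504404304204104003f03e03d03c03b03a03903803703603503403303203103002f02e02d02c02b02a02902802702602502402302202102001f01e01d01c01b01a01901801701601501401301201101000f00e00d00c00b00a009008007006005004003002001000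
  nrows := nTRoot

end Cfsg.Agent.Lib.Helper39.ONC
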