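import Cfsg.Agent.Lib.Helper39.ONLD0
import Cfsg.Agent.Lib.Helper39.ONLD1
import Cfsg.Agent.Lib.Helper39.ONLD2
import Cfsg.Agent.Lib.Helper39.ONLD3
import Cfsg.Agent.Lib.Helper39.ONLD4
import Cfsg.Agent.Lib.Helper39.ONLD5
import Cfsg.Agent.Lib.Helper39.ONLD6
import Cfsg.Agent.Lib.Helper39.ONLD7
import Cfsg.Agent.Lib.Helper39.ONLD8
import Cfsg.Agent.Lib.Helper39.ONLD9
import Cfsg.Agent.Lib.Helper39.ONLD10
import Cfsg.Agent.Lib.Helper39.ONLD11
import Cfsg.Agent.Lib.Helper39.ONLD12
import Cfsg.Agent.Lib.Helper39.ONLD13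
import Cfsg.Agent.Lib.Helper39.ONLD14

set_option maxRecDepth 100000
set_option maxHeartbeats 0

namespace Cfsg.Agent.Lib.Helper39.ONL
open Cfsg.Agent.Lib.Helper38

noncomputable def rTRoot : BT := .node 13968 (.node 6992 (.node 3504 (.node 1760 (.node 880 (.node 448 (.node 224 (.node 112 (.node 64 (.node 32 (.node 16 (rT0) (rT1)) (.node 48 (rT2) (rT3))) (.node 96 (.node 80 (rT4) (rT5)) (rT6))) (.node 176 (.node 144 (.node 128 (rT7) (rT8)) (.node 160 (rT9) (rT10))) (.node 208 (.node 192 (rT11) (rT12)) (rT13)))) (.node 336 (.node 288 (.node 256 (.node 240 (rT14) (rT15)) (.node 272 (rT16) (rT17))) (.node 320 (.node 304 (rT18) (rT19)) (rT20))) (.node 400 (.node 368 (.node 352 (rT21) (rT22)) (.node 384 (rT23) (rT24))) (.node 432 (.node 416 (rT25) (rT26)) (rT27))))) (.node 672 (.node 560 (.node 512 (.node 480 (.node 464 (rT28) (rT29)) (.node 496 (rT30) (rT31))) (.node 544 (.node 528 (rT32) (rT33)) (rT34))) (.node 624 (.node 592 (.node 576 (rT35) (rT36)) (.node 608 (rT37) (rT38))) (.node 656 (.node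 640 (rT39) (rT40)) (rT41)))) (.node 784 (.node 736 (.node 704 (.node 688 (rT42) (rT43)) (.node 720 (rT44) (rT45))) (.node 768 (.node 752 (rT46) (rT47)) (rT48))) (.node 832 (.node 816 (.node 800 (rT49) (rT50)) (rT51)) (.node 864 (.node 848 (rT52) (rT53)) (rT54)))))) (.node 1328 (.node 1104 (.node 992 (.node 944 (.node 912 (.node 896 (rT55) (rT56)) (.node 928 (rT57) (rT58))) (.node 976 (.node 960 (rT59) (rT60)) (rT61))) (.node 1056 (.node 1024 (.node 1008 (rT62) (rT63)) (.node 1040 (rT64) (rT65))) (.node 1088 (.node 1072 (rT66) (rT67)) (rT68)))) (.node 1216 (.node 1168 (.node 1136 (.node 1120 (rT69) (rT70)) (.node 1152 (rT71) (rT72))) (.node 1200 (.node 1184 (rT73) (rT74)) (rT75))) (.node 1280 (.node 1248 (.node 1232 (rT76) (rT77)) (.node 1264 (rT78) (rT79))) (.node 1312 (.node 1296 (rT80) (rT81)) (rT82))))) (.node 1552 (.node 1440 (.node 1392 (.node 1360 (.node 1344 (rT83) (rT84)) (.node 1376 (rT85) (rT86))) (.node 1424 (.node 1408 (rT87) (rT88)) (rT89))) (.node 1504 (.node 1472 (.node 1456 (rT90)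 (rT91)) (.node 1488 (rT92) (rT93))) (.node 1536 (.node 1520 (rT94) (rT95)) (rT96)))) (.node 1664 (.node 1616 (.node 1584 (.node 1568 (rT97) (rT98)) (.node 1600 (rT99) (rT100))) (.node 1648 (.node 1632 (rT101) (rT102)) (rT103))) (.node 1712 (.node 1696 (.node 1680 (rT104) (rT105)) (rT106)) (.node 1744 (.node 1728 (rT107) (rT108)) (rT109))))))) (.node 2640 (.node 2208 (.node 1984 (.node 1872 (.node 1824 (.node 1792 (.node 1776 (rT110) (rT111)) (.node 1808 (rT112) (rT113))) (.node 1856 (.node 1840 (rT114) (rT115)) (rT116))) (.node 1936 (.node 1904 (.node 1888 (rT117) (rT118)) (.node 1920 (rT119) (rT120))) (.node 1968 (.node 1952 (rT121) (rT122)) (rT123)))) (.node 2096 (.node 2048 (.node 2016 (.node 2000 (rT124) (rT125)) (.node 2032 (rT126) (rT127))) (.node 2080 (.node 2064 (rT128) (rT129)) (rT130))) (.node 2160 (.node 2128 (.node 2112 (rT131) (rT132)) (.node 2144 (rT133) (rT134))) (.node 2192 (.node 2176 (rT135) (rT136)) (rT137))))) (.node 2432 (.node 2320 (.node 2272 (.node 2240 (.node 2224 (rT138)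 (rT139)) (.node 2256 (rT140) (rT141))) (.node 2304 (.node 2288 (rT142) (rT143)) (rT144))) (.node 2384 (.node 2352 (.node 2336 (rT145) (rT146)) (.node 2368 (rT147) (rT148))) (.node 2416 (.node 2400 (rT149) (rT150)) (rT151)))) (.node 2544 (.node 2496 (.node 2464 (.node 2448 (rT152) (rT153)) (.node 2480 (rT154) (rT155))) (.node 2528 (.node 2512 (rT156) (rT157)) (rT158))) (.node 2592 (.node 2576 (.node 2560 (rT159) (rT160)) (rT161)) (.node 2624 (.node 2608 (rT162) (rT163)) (rT164)))))) (.node 3072 (.node 2864 (.node 2752 (.node 2704 (.node 2672 (.node 2656 (rT165) (rT166)) (.node 2688 (rT167) (rT168))) (.node 2736 (.node 2720 (rT169) (rT170)) (rT171))) (.node 2816 (.node 2784 (.node 2768 (rT172) (rT173)) (.node 2800 (rT174) (rT175))) (.node 2848 (.node 2832 (rT176) (rT177)) (rT178)))) (.node 2976 (.node 2928 (.node 2896 (.node 2880 (rT179) (rT180)) (.node 2912 (rT181) (rT182))) (.node 2960 (.node 2944 (rT183) (rT184)) (rT185))) (.node 3024 (.node 3008 (.node 2992 (rT186) (rT187)) (rT188)) (.node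 3056 (.node 3040 (rT189) (rT190)) (rT191))))) (.node 3296 (.node 3184 (.node 3136 (.node 3104 (.node 3088 (rT192) (rT193)) (.node 3120 (rT194) (rT195))) (.node 3168 (.node 3152 (rT196) (rT197)) (rT198))) (.node 3248 (.node 3216 (.node 3200 (rT199) (rT200)) (.node 3232 (rT201) (rT202))) (.node 3280 (.node 3264 (rT203) (rT204)) (rT205)))) (.node 3408 (.node 3360 (.node 3328 (.node 3312 (rT206) (rT207)) (.node 3344 (rT208) (rT209))) (.node 3392 (.node 3376 (rT210) (rT211)) (rT212))) (.node 3456 (.node 3440 (.node 3424 (rT213) (rT214)) (rT215)) (.node 3488 (.node 3472 (rT216) (rT217)) (rT218)))))))) (.node 5248 (.node 4384 (.node 3952 (.node 3728 (.node 3616 (.node 3568 (.node 3536 (.node 3520 (rT219) (rT220)) (.node 3552 (rT221) (rT222))) (.node 3600 (.node 3584 (rT223) (rT224)) (rT225))) (.node 3680 (.node 3648 (.node 3632 (rT226) (rT227)) (.node 3664 (rT228) (rT229))) (.node 3712 (.node 3696 (rT230) (rT231)) (rT232)))) (.node 3840 (.node 3792 (.node 3760 (.node 3744 (rT233) (rT234)) (.node 3776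 (rT235) (rT236))) (.node 3824 (.node 3808 (rT237) (rT238)) (rT239))) (.node 3904 (.node 3872 (.node 3856 (rT240) (rT241)) (.node 3888 (rT242) (rT243))) (.node 3936 (.node 3920 (rT244) (rT245)) (rT246))))) (.node 4176 (.node 4064 (.node 4016 (.node 3984 (.node 3968 (rT247) (rT248)) (.node 4000 (rT249) (rT250))) (.node 4048 (.node 4032 (rT251) (rT252)) (rT253))) (.node 4128 (.node 4096 (.node 4080 (rT254) (rT255)) (.node 4112 (rT256) (rT257))) (.node 4160 (.node 4144 (rT258) (rT259)) (rT260)))) (.node 4288 (.node 4240 (.node 4208 (.node 4192 (rT261) (rT262)) (.node 4224 (rT263) (rT264))) (.node 4272 (.node 4256 (rT265) (rT266)) (rT267))) (.node 4336 (.node 4320 (.node 4304 (rT268) (rT269)) (rT270)) (.node 4368 (.node 4352 (rT271) (rT272)) (rT273)))))) (.node 4816 (.node 4608 (.node 4496 (.node 4448 (.node 4416 (.node 4400 (rT274) (rT275)) (.node 4432 (rT276) (rT277))) (.node 4480 (.node 4464 (rT278) (rT279)) (rT280))) (.node 4560 (.node 4528 (.node 4512 (rT281) (rT282)) (.node 4544 (rT283) (rT284)))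 (.node 4592 (.node 4576 (rT285) (rT286)) (rT287)))) (.node 4720 (.node 4672 (.node 4640 (.node 4624 (rT288) (rT289)) (.node 4656 (rT290) (rT291))) (.node 4704 (.node 4688 (rT292) (rT293)) (rT294))) (.node 4768 (.node 4752 (.node 4736 (rT295) (rT296)) (rT297)) (.node 4800 (.node 4784 (rT298) (rT299)) (rT300))))) (.node 5040 (.node 4928 (.node 4880 (.node 4848 (.node 4832 (rT301) (rT302)) (.node 4864 (rT303) (rT304))) (.node 4912 (.node 4896 (rT305) (rT306)) (rT307))) (.node 4992 (.node 4960 (.node 4944 (rT308) (rT309)) (.node 4976 (rT310) (rT311))) (.node 5024 (.node 5008 (rT312) (rT313)) (rT314)))) (.node 5152 (.node 5104 (.node 5072 (.node 5056 (rT315) (rT316)) (.node 5088 (rT317) (rT318))) (.node 5136 (.node 5120 (rT319) (rT320)) (rT321))) (.node 5200 (.node 5184 (.node 5168 (rT322) (rT323)) (rT324)) (.node 5232 (.node 5216 (rT325) (rT326)) (rT327))))))) (.node 6128 (.node 5696 (.node 5472 (.node 5360 (.node 5312 (.node 5280 (.node 5264 (rT328) (rT329)) (.node 5296 (rT330) (rT331))) (.node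 5344 (.node 5328 (rT332) (rT333)) (rT334))) (.node 5424 (.node 5392 (.node 5376 (rT335) (rT336)) (.node 5408 (rT337) (rT338))) (.node 5456 (.node 5440 (rT339) (rT340)) (rT341)))) (.node 5584 (.node 5536 (.node 5504 (.node 5488 (rT342) (rT343)) (.node 5520 (rT344) (rT345))) (.node 5568 (.node 5552 (rT346) (rT347)) (rT348))) (.node 5648 (.node 5616 (.node 5600 (rT349) (rT350)) (.node 5632 (rT351) (rT352))) (.node 5680 (.node 5664 (rT353) (rT354)) (rT355))))) (.node 5920 (.node 5808 (.node 5760 (.node 5728 (.node 5712 (rT356) (rT357)) (.node 5744 (rT358) (rT359))) (.node 5792 (.node 5776 (rT360) (rT361)) (rT362))) (.node 5872 (.node 5840 (.node 5824 (rT363) (rT364)) (.node 5856 (rT365) (rT366))) (.node 5904 (.node 5888 (rT367) (rT368)) (rT369)))) (.node 6032 (.node 5984 (.node 5952 (.node 5936 (rT370) (rT371)) (.node 5968 (rT372) (rT373))) (.node 6016 (.node 6000 (rT374) (rT375)) (rT376))) (.node 6080 (.node 6064 (.node 6048 (rT377) (rT378)) (rT379)) (.node 6112 (.node 6096 (rT380) (rT381)) (rT382))))))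 (.node 6560 (.node 6352 (.node 6240 (.node 6192 (.node 6160 (.node 6144 (rT383) (rT384)) (.node 6176 (rT385) (rT386))) (.node 6224 (.node 6208 (rT387) (rT388)) (rT389))) (.node 6304 (.node 6272 (.node 6256 (rT390) (rT391)) (.node 6288 (rT392) (rT393))) (.node 6336 (.node 6320 (rT394) (rT395)) (rT396)))) (.node 6464 (.node 6416 (.node 6384 (.node 6368 (rT397) (rT398)) (.node 6400 (rT399) (rT400))) (.node 6448 (.node 6432 (rT401) (rT402)) (rT403))) (.node 6512 (.node 6496 (.node 6480 (rT404) (rT405)) (rT406)) (.node 6544 (.node 6528 (rT407) (rT408)) (rT409))))) (.node 6784 (.node 6672 (.node 6624 (.node 6592 (.node 6576 (rT410) (rT411)) (.node 6608 (rT412) (rT413))) (.node 6656 (.node 6640 (rT414) (rT415)) (rT416))) (.node 6736 (.node 6704 (.node 6688 (rT417) (rT418)) (.node 6720 (rT419) (rT420))) (.node 6768 (.node 6752 (rT421) (rT422)) (rT423)))) (.node 6896 (.node 6848 (.node 6816 (.node 6800 (rT424) (rT425)) (.node 6832 (rT426) (rT427))) (.node 6880 (.node 6864 (rT428) (rT429)) (rT430))) (.node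 6944 (.node 6928 (.node 6912 (rT431) (rT432)) (rT433)) (.node 6976 (.node 6960 (rT434) (rT435)) (rT436))))))))) (.node 10480 (.node 8736 (.node 7872 (.node 7440 (.node 7216 (.node 7104 (.node 7056 (.node 7024 (.node 7008 (rT437) (rT438)) (.node 7040 (rT439) (rT440))) (.node 7088 (.node 7072 (rT441) (rT442)) (rT443))) (.node 7168 (.node 7136 (.node 7120 (rT444) (rT445)) (.node 7152 (rT446) (rT447))) (.node 7200 (.node 7184 (rT448) (rT449)) (rT450)))) (.node 7328 (.node 7280 (.node 7248 (.node 7232 (rT451) (rT452)) (.node 7264 (rT453) (rT454))) (.node 7312 (.node 7296 (rT455) (rT456)) (rT457))) (.node 7392 (.node 7360 (.node 7344 (rT458) (rT459)) (.node 7376 (rT460) (rT461))) (.node 7424 (.node 7408 (rT462) (rT463)) (rT464))))) (.node 7664 (.node 7552 (.node 7504 (.node 7472 (.node 7456 (rT465) (rT466)) (.node 7488 (rT467) (rT468))) (.node 7536 (.node 7520 (rT469) (rT470)) (rT471))) (.node 7616 (.node 7584 (.node 7568 (rT472) (rT473)) (.node 7600 (rT474) (rT475))) (.node 7648 (.node 7632 (rT476)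 (rT477)) (rT478)))) (.node 7776 (.node 7728 (.node 7696 (.node 7680 (rT479) (rT480)) (.node 7712 (rT481) (rT482))) (.node 7760 (.node 7744 (rT483) (rT484)) (rT485))) (.node 7824 (.node 7808 (.node 7792 (rT486) (rT487)) (rT488)) (.node 7856 (.node 7840 (rT489) (rT490)) (rT491)))))) (.node 8304 (.node 8096 (.node 7984 (.node 7936 (.node 7904 (.node 7888 (rT492) (rT493)) (.node 7920 (rT494) (rT495))) (.node 7968 (.node 7952 (rT496) (rT497)) (rT498))) (.node 8048 (.node 8016 (.node 8000 (rT499) (rT500)) (.node 8032 (rT501) (rT502))) (.node 8080 (.node 8064 (rT503) (rT504)) (rT505)))) (.node 8208 (.node 8160 (.node 8128 (.node 8112 (rT506) (rT507)) (.node 8144 (rT508) (rT509))) (.node 8192 (.node 8176 (rT510) (rT511)) (rT512))) (.node 8256 (.node 8240 (.node 8224 (rT513) (rT514)) (rT515)) (.node 8288 (.node 8272 (rT516) (rT517)) (rT518))))) (.node 8528 (.node 8416 (.node 8368 (.node 8336 (.node 8320 (rT519) (rT520)) (.node 8352 (rT521) (rT522))) (.node 8400 (.node 8384 (rT523) (rT524)) (rT525)))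 (.node 8480 (.node 8448 (.node 8432 (rT526) (rT527)) (.node 8464 (rT528) (rT529))) (.node 8512 (.node 8496 (rT530) (rT531)) (rT532)))) (.node 8640 (.node 8592 (.node 8560 (.node 8544 (rT533) (rT534)) (.node 8576 (rT535) (rT536))) (.node 8624 (.node 8608 (rT537) (rT538)) (rT539))) (.node 8688 (.node 8672 (.node 8656 (rT540) (rT541)) (rT542)) (.node 8720 (.node 8704 (rT543) (rT544)) (rT545))))))) (.node 9616 (.node 9184 (.node 8960 (.node 8848 (.node 8800 (.node 8768 (.node 8752 (rT546) (rT547)) (.node 8784 (rT548) (rT549))) (.node 8832 (.node 8816 (rT550) (rT551)) (rT552))) (.node 8912 (.node 8880 (.node 8864 (rT553) (rT554)) (.node 8896 (rT555) (rT556))) (.node 8944 (.node 8928 (rT557) (rT558)) (rT559)))) (.node 9072 (.node 9024 (.node 8992 (.node 8976 (rT560) (rT561)) (.node 9008 (rT562) (rT563))) (.node 9056 (.node 9040 (rT564) (rT565)) (rT566))) (.node 9136 (.node 9104 (.node 9088 (rT567) (rT568)) (.node 9120 (rT569) (rT570))) (.node 9168 (.node 9152 (rT571) (rT572)) (rT573))))) (.node 9408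 (.node 9296 (.node 9248 (.node 9216 (.node 9200 (rT574) (rT575)) (.node 9232 (rT576) (rT577))) (.node 9280 (.node 9264 (rT578) (rT579)) (rT580))) (.node 9360 (.node 9328 (.node 9312 (rT581) (rT582)) (.node 9344 (rT583) (rT584))) (.node 9392 (.node 9376 (rT585) (rT586)) (rT587)))) (.node 9520 (.node 9472 (.node 9440 (.node 9424 (rT588) (rT589)) (.node 9456 (rT590) (rT591))) (.node 9504 (.node 9488 (rT592) (rT593)) (rT594))) (.node 9568 (.node 9552 (.node 9536 (rT595) (rT596)) (rT597)) (.node 9600 (.node 9584 (rT598) (rT599)) (rT600)))))) (.node 10048 (.node 9840 (.node 9728 (.node 9680 (.node 9648 (.node 9632 (rT601) (rT602)) (.node 9664 (rT603) (rT604))) (.node 9712 (.node 9696 (rT605) (rT606)) (rT607))) (.node 9792 (.node 9760 (.node 9744 (rT608) (rT609)) (.node 9776 (rT610) (rT611))) (.node 9824 (.node 9808 (rT612) (rT613)) (rT614)))) (.node 9952 (.node 9904 (.node 9872 (.node 9856 (rT615) (rT616)) (.node 9888 (rT617) (rT618))) (.node 9936 (.node 9920 (rT619) (rT620)) (rT621))) (.node 10000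 (.node 9984 (.node 9968 (rT622) (rT623)) (rT624)) (.node 10032 (.node 10016 (rT625) (rT626)) (rT627))))) (.node 10272 (.node 10160 (.node 10112 (.node 10080 (.node 10064 (rT628) (rT629)) (.node 10096 (rT630) (rT631))) (.node 10144 (.node 10128 (rT632) (rT633)) (rT634))) (.node 10224 (.node 10192 (.node 10176 (rT635) (rT636)) (.node 10208 (rT637) (rT638))) (.node 10256 (.node 10240 (rT639) (rT640)) (rT641)))) (.node 10384 (.node 10336 (.node 10304 (.node 10288 (rT642) (rT643)) (.node 10320 (rT644) (rT645))) (.node 10368 (.node 10352 (rT646) (rT647)) (rT648))) (.node 10432 (.node 10416 (.node 10400 (rT649) (rT650)) (rT651)) (.node 10464 (.node 10448 (rT652) (rT653)) (rT654)))))))) (.node 12224 (.node 11360 (.node 10928 (.node 10704 (.node 10592 (.node 10544 (.node 10512 (.node 10496 (rT655) (rT656)) (.node 10528 (rT657) (rT658))) (.node 10576 (.node 10560 (rT659) (rT660)) (rT661))) (.node 10656 (.node 10624 (.node 10608 (rT662) (rT663)) (.node 10640 (rT664) (rT665))) (.node 10688 (.node 10672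 (rT666) (rT667)) (rT668)))) (.node 10816 (.node 10768 (.node 10736 (.node 10720 (rT669) (rT670)) (.node 10752 (rT671) (rT672))) (.node 10800 (.node 10784 (rT673) (rT674)) (rT675))) (.node 10880 (.node 10848 (.node 10832 (rT676) (rT677)) (.node 10864 (rT678) (rT679))) (.node 10912 (.node 10896 (rT680) (rT681)) (rT682))))) (.node 11152 (.node 11040 (.node 10992 (.node 10960 (.node 10944 (rT683) (rT684)) (.node 10976 (rT685) (rT686))) (.node 11024 (.node 11008 (rT687) (rT688)) (rT689))) (.node 11104 (.node 11072 (.node 11056 (rT690) (rT691)) (.node 11088 (rT692) (rT693))) (.node 11136 (.node 11120 (rT694) (rT695)) (rT696)))) (.node 11264 (.node 11216 (.node 11184 (.node 11168 (rT697) (rT698)) (.node 11200 (rT699) (rT700))) (.node 11248 (.node 11232 (rT701) (rT702)) (rT703))) (.node 11312 (.node 11296 (.node 11280 (rT704) (rT705)) (rT706)) (.node 11344 (.node 11328 (rT707) (rT708)) (rT709)))))) (.node 11792 (.node 11584 (.node 11472 (.node 11424 (.node 11392 (.node 11376 (rT710) (rT711)) (.node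 11408 (rT712) (rT713))) (.node 11456 (.node 11440 (rT714) (rT715)) (rT716))) (.node 11536 (.node 11504 (.node 11488 (rT717) (rT718)) (.node 11520 (rT719) (rT720))) (.node 11568 (.node 11552 (rT721) (rT722)) (rT723)))) (.node 11696 (.node 11648 (.node 11616 (.node 11600 (rT724) (rT725)) (.node 11632 (rT726) (rT727))) (.node 11680 (.node 11664 (rT728) (rT729)) (rT730))) (.node 11744 (.node 11728 (.node 11712 (rT731) (rT732)) (rT733)) (.node 11776 (.node 11760 (rT734) (rT735)) (rT736))))) (.node 12016 (.node 11904 (.node 11856 (.node 11824 (.node 11808 (rT737) (rT738)) (.node 11840 (rT739) (rT740))) (.node 11888 (.node 11872 (rT741) (rT742)) (rT743))) (.node 11968 (.node 11936 (.node 11920 (rT744) (rT745)) (.node 11952 (rT746) (rT747))) (.node 12000 (.node 11984 (rT748) (rT749)) (rT750)))) (.node 12128 (.node 12080 (.node 12048 (.node 12032 (rT751) (rT752)) (.node 12064 (rT753) (rT754))) (.node 12112 (.node 12096 (rT755) (rT756)) (rT757))) (.node 12176 (.node 12160 (.node 12144 (rT758) (rT759))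 (rT760)) (.node 12208 (.node 12192 (rT761) (rT762)) (rT763))))))) (.node 13104 (.node 12672 (.node 12448 (.node 12336 (.node 12288 (.node 12256 (.node 12240 (rT764) (rT765)) (.node 12272 (rT766) (rT767))) (.node 12320 (.node 12304 (rT768) (rT769)) (rT770))) (.node 12400 (.node 12368 (.node 12352 (rT771) (rT772)) (.node 12384 (rT773) (rT774))) (.node 12432 (.node 12416 (rT775) (rT776)) (rT777)))) (.node 12560 (.node 12512 (.node 12480 (.node 12464 (rT778) (rT779)) (.node 12496 (rT780) (rT781))) (.node 12544 (.node 12528 (rT782) (rT783)) (rT784))) (.node 12624 (.node 12592 (.node 12576 (rT785) (rT786)) (.node 12608 (rT787) (rT788))) (.node 12656 (.node 12640 (rT789) (rT790)) (rT791))))) (.node 12896 (.node 12784 (.node 12736 (.node 12704 (.node 12688 (rT792) (rT793)) (.node 12720 (rT794) (rT795))) (.node 12768 (.node 12752 (rT796) (rT797)) (rT798))) (.node 12848 (.node 12816 (.node 12800 (rT799) (rT800)) (.node 12832 (rT801) (rT802))) (.node 12880 (.node 12864 (rT803) (rT804)) (rT805)))) (.node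 13008 (.node 12960 (.node 12928 (.node 12912 (rT806) (rT807)) (.node 12944 (rT808) (rT809))) (.node 12992 (.node 12976 (rT810) (rT811)) (rT812))) (.node 13056 (.node 13040 (.node 13024 (rT813) (rT814)) (rT815)) (.node 13088 (.node 13072 (rT816) (rT817)) (rT818)))))) (.node 13536 (.node 13328 (.node 13216 (.node 13168 (.node 13136 (.node 13120 (rT819) (rT820)) (.node 13152 (rT821) (rT822))) (.node 13200 (.node 13184 (rT823) (rT824)) (rT825))) (.node 13280 (.node 13248 (.node 13232 (rT826) (rT827)) (.node 13264 (rT828) (rT829))) (.node 13312 (.node 13296 (rT830) (rT831)) (rT832)))) (.node 13440 (.node 13392 (.node 13360 (.node 13344 (rT833) (rT834)) (.node 13376 (rT835) (rT836))) (.node 13424 (.node 13408 (rT837) (rT838)) (rT839))) (.node 13488 (.node 13472 (.node 13456 (rT840) (rT841)) (rT842)) (.node 13520 (.node 13504 (rT843) (rT844)) (rT845))))) (.node 13760 (.node 13648 (.node 13600 (.node 13568 (.node 13552 (rT846) (rT847)) (.node 13584 (rT848) (rT849))) (.node 13632 (.node 13616 (rT850)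 (rT851)) (rT852))) (.node 13712 (.node 13680 (.node 13664 (rT853) (rT854)) (.node 13696 (rT855) (rT856))) (.node 13744 (.node 13728 (rT857) (rT858)) (rT859)))) (.node 13872 (.node 13824 (.node 13792 (.node 13776 (rT860) (rT861)) (.node 13808 (rT862) (rT863))) (.node 13856 (.node 13840 (rT864) (rT865)) (rT866))) (.node 13920 (.node 13904 (.node 13888 (rT867) (rT868)) (rT869)) (.node 13952 (.node 13936 (rT870) (rT871)) (rT872)))))))))) (.node 20944 (.node 17456 (.node 15712 (.node 14848 (.node 14416 (.node 14192 (.node 14080 (.node 14032 (.node 14000 (.node 13984 (rT873) (rT874)) (.node 14016 (rT875) (rT876))) (.node 14064 (.node 14048 (rT877) (rT878)) (rT879))) (.node 14144 (.node 14112 (.node 14096 (rT880) (rT881)) (.node 14128 (rT882) (rT883))) (.node 14176 (.node 14160 (rT884) (rT885)) (rT886)))) (.node 14304 (.node 14256 (.node 14224 (.node 14208 (rT887) (rT888)) (.node 14240 (rT889) (rT890))) (.node 14288 (.node 14272 (rT891) (rT892)) (rT893))) (.node 14368 (.node 14336 (.node 14320 (rT894)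 (rT895)) (.node 14352 (rT896) (rT897))) (.node 14400 (.node 14384 (rT898) (rT899)) (rT900))))) (.node 14640 (.node 14528 (.node 14480 (.node 14448 (.node 14432 (rT901) (rT902)) (.node 14464 (rT903) (rT904))) (.node 14512 (.node 14496 (rT905) (rT906)) (rT907))) (.node 14592 (.node 14560 (.node 14544 (rT908) (rT909)) (.node 14576 (rT910) (rT911))) (.node 14624 (.node 14608 (rT912) (rT913)) (rT914)))) (.node 14752 (.node 14704 (.node 14672 (.node 14656 (rT915) (rT916)) (.node 14688 (rT917) (rT918))) (.node 14736 (.node 14720 (rT919) (rT920)) (rT921))) (.node 14800 (.node 14784 (.node 14768 (rT922) (rT923)) (rT924)) (.node 14832 (.node 14816 (rT925) (rT926)) (rT927)))))) (.node 15280 (.node 15072 (.node 14960 (.node 14912 (.node 14880 (.node 14864 (rT928) (rT929)) (.node 14896 (rT930) (rT931))) (.node 14944 (.node 14928 (rT932) (rT933)) (rT934))) (.node 15024 (.node 14992 (.node 14976 (rT935) (rT936)) (.node 15008 (rT937) (rT938))) (.node 15056 (.node 15040 (rT939) (rT940)) (rT941)))) (.node 15184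 (.node 15136 (.node 15104 (.node 15088 (rT942) (rT943)) (.node 15120 (rT944) (rT945))) (.node 15168 (.node 15152 (rT946) (rT947)) (rT948))) (.node 15232 (.node 15216 (.node 15200 (rT949) (rT950)) (rT951)) (.node 15264 (.node 15248 (rT952) (rT953)) (rT954))))) (.node 15504 (.node 15392 (.node 15344 (.node 15312 (.node 15296 (rT955) (rT956)) (.node 15328 (rT957) (rT958))) (.node 15376 (.node 15360 (rT959) (rT960)) (rT961))) (.node 15456 (.node 15424 (.node 15408 (rT962) (rT963)) (.node 15440 (rT964) (rT965))) (.node 15488 (.node 15472 (rT966) (rT967)) (rT968)))) (.node 15616 (.node 15568 (.node 15536 (.node 15520 (rT969) (rT970)) (.node 15552 (rT971) (rT972))) (.node 15600 (.node 15584 (rT973) (rT974)) (rT975))) (.node 15664 (.node 15648 (.node 15632 (rT976) (rT977)) (rT978)) (.node 15696 (.node 15680 (rT979) (rT980)) (rT981))))))) (.node 16592 (.node 16160 (.node 15936 (.node 15824 (.node 15776 (.node 15744 (.node 15728 (rT982) (rT983)) (.node 15760 (rT984) (rT985))) (.node 15808 (.node 15792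 (rT986) (rT987)) (rT988))) (.node 15888 (.node 15856 (.node 15840 (rT989) (rT990)) (.node 15872 (rT991) (rT992))) (.node 15920 (.node 15904 (rT993) (rT994)) (rT995)))) (.node 16048 (.node 16000 (.node 15968 (.node 15952 (rT996) (rT997)) (.node 15984 (rT998) (rT999))) (.node 16032 (.node 16016 (rT1000) (rT1001)) (rT1002))) (.node 16112 (.node 16080 (.node 16064 (rT1003) (rT1004)) (.node 16096 (rT1005) (rT1006))) (.node 16144 (.node 16128 (rT1007) (rT1008)) (rT1009))))) (.node 16384 (.node 16272 (.node 16224 (.node 16192 (.node 16176 (rT1010) (rT1011)) (.node 16208 (rT1012) (rT1013))) (.node 16256 (.node 16240 (rT1014) (rT1015)) (rT1016))) (.node 16336 (.node 16304 (.node 16288 (rT1017) (rT1018)) (.node 16320 (rT1019) (rT1020))) (.node 16368 (.node 16352 (rT1021) (rT1022)) (rT1023)))) (.node 16496 (.node 16448 (.node 16416 (.node 16400 (rT1024) (rT1025)) (.node 16432 (rT1026) (rT1027))) (.node 16480 (.node 16464 (rT1028) (rT1029)) (rT1030))) (.node 16544 (.node 16528 (.node 16512 (rT1031) (rT1032))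 (rT1033)) (.node 16576 (.node 16560 (rT1034) (rT1035)) (rT1036)))))) (.node 17024 (.node 16816 (.node 16704 (.node 16656 (.node 16624 (.node 16608 (rT1037) (rT1038)) (.node 16640 (rT1039) (rT1040))) (.node 16688 (.node 16672 (rT1041) (rT1042)) (rT1043))) (.node 16768 (.node 16736 (.node 16720 (rT1044) (rT1045)) (.node 16752 (rT1046) (rT1047))) (.node 16800 (.node 16784 (rT1048) (rT1049)) (rT1050)))) (.node 16928 (.node 16880 (.node 16848 (.node 16832 (rT1051) (rT1052)) (.node 16864 (rT1053) (rT1054))) (.node 16912 (.node 16896 (rT1055) (rT1056)) (rT1057))) (.node 16976 (.node 16960 (.node 16944 (rT1058) (rT1059)) (rT1060)) (.node 17008 (.node 16992 (rT1061) (rT1062)) (rT1063))))) (.node 17248 (.node 17136 (.node 17088 (.node 17056 (.node 17040 (rT1064) (rT1065)) (.node 17072 (rT1066) (rT1067))) (.node 17120 (.node 17104 (rT1068) (rT1069)) (rT1070))) (.node 17200 (.node 17168 (.node 17152 (rT1071) (rT1072)) (.node 17184 (rT1073) (rT1074))) (.node 17232 (.node 17216 (rT1075) (rT1076)) (rT1077))))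 (.node 17360 (.node 17312 (.node 17280 (.node 17264 (rT1078) (rT1079)) (.node 17296 (rT1080) (rT1081))) (.node 17344 (.node 17328 (rT1082) (rT1083)) (rT1084))) (.node 17408 (.node 17392 (.node 17376 (rT1085) (rT1086)) (rT1087)) (.node 17440 (.node 17424 (rT1088) (rT1089)) (rT1090)))))))) (.node 19200 (.node 18336 (.node 17904 (.node 17680 (.node 17568 (.node 17520 (.node 17488 (.node 17472 (rT1091) (rT1092)) (.node 17504 (rT1093) (rT1094))) (.node 17552 (.node 17536 (rT1095) (rT1096)) (rT1097))) (.node 17632 (.node 17600 (.node 17584 (rT1098) (rT1099)) (.node 17616 (rT1100) (rT1101))) (.node 17664 (.node 17648 (rT1102) (rT1103)) (rT1104)))) (.node 17792 (.node 17744 (.node 17712 (.node 17696 (rT1105) (rT1106)) (.node 17728 (rT1107) (rT1108))) (.node 17776 (.node 17760 (rT1109) (rT1110)) (rT1111))) (.node 17856 (.node 17824 (.node 17808 (rT1112) (rT1113)) (.node 17840 (rT1114) (rT1115))) (.node 17888 (.node 17872 (rT1116) (rT1117)) (rT1118))))) (.node 18128 (.node 18016 (.node 17968 (.node 17936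 (.node 17920 (rT1119) (rT1120)) (.node 17952 (rT1121) (rT1122))) (.node 18000 (.node 17984 (rT1123) (rT1124)) (rT1125))) (.node 18080 (.node 18048 (.node 18032 (rT1126) (rT1127)) (.node 18064 (rT1128) (rT1129))) (.node 18112 (.node 18096 (rT1130) (rT1131)) (rT1132)))) (.node 18240 (.node 18192 (.node 18160 (.node 18144 (rT1133) (rT1134)) (.node 18176 (rT1135) (rT1136))) (.node 18224 (.node 18208 (rT1137) (rT1138)) (rT1139))) (.node 18288 (.node 18272 (.node 18256 (rT1140) (rT1141)) (rT1142)) (.node 18320 (.node 18304 (rT1143) (rT1144)) (rT1145)))))) (.node 18768 (.node 18560 (.node 18448 (.node 18400 (.node 18368 (.node 18352 (rT1146) (rT1147)) (.node 18384 (rT1148) (rT1149))) (.node 18432 (.node 18416 (rT1150) (rT1151)) (rT1152))) (.node 18512 (.node 18480 (.node 18464 (rT1153) (rT1154)) (.node 18496 (rT1155) (rT1156))) (.node 18544 (.node 18528 (rT1157) (rT1158)) (rT1159)))) (.node 18672 (.node 18624 (.node 18592 (.node 18576 (rT1160) (rT1161)) (.node 18608 (rT1162) (rT1163))) (.node 18656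 (.node 18640 (rT1164) (rT1165)) (rT1166))) (.node 18720 (.node 18704 (.node 18688 (rT1167) (rT1168)) (rT1169)) (.node 18752 (.node 18736 (rT1170) (rT1171)) (rT1172))))) (.node 18992 (.node 18880 (.node 18832 (.node 18800 (.node 18784 (rT1173) (rT1174)) (.node 18816 (rT1175) (rT1176))) (.node 18864 (.node 18848 (rT1177) (rT1178)) (rT1179))) (.node 18944 (.node 18912 (.node 18896 (rT1180) (rT1181)) (.node 18928 (rT1182) (rT1183))) (.node 18976 (.node 18960 (rT1184) (rT1185)) (rT1186)))) (.node 19104 (.node 19056 (.node 19024 (.node 19008 (rT1187) (rT1188)) (.node 19040 (rT1189) (rT1190))) (.node 19088 (.node 19072 (rT1191) (rT1192)) (rT1193))) (.node 19152 (.node 19136 (.node 19120 (rT1194) (rT1195)) (rT1196)) (.node 19184 (.node 19168 (rT1197) (rT1198)) (rT1199))))))) (.node 20080 (.node 19648 (.node 19424 (.node 19312 (.node 19264 (.node 19232 (.node 19216 (rT1200) (rT1201)) (.node 19248 (rT1202) (rT1203))) (.node 19296 (.node 19280 (rT1204) (rT1205)) (rT1206))) (.node 19376 (.node 19344 (.node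 19328 (rT1207) (rT1208)) (.node 19360 (rT1209) (rT1210))) (.node 19408 (.node 19392 (rT1211) (rT1212)) (rT1213)))) (.node 19536 (.node 19488 (.node 19456 (.node 19440 (rT1214) (rT1215)) (.node 19472 (rT1216) (rT1217))) (.node 19520 (.node 19504 (rT1218) (rT1219)) (rT1220))) (.node 19600 (.node 19568 (.node 19552 (rT1221) (rT1222)) (.node 19584 (rT1223) (rT1224))) (.node 19632 (.node 19616 (rT1225) (rT1226)) (rT1227))))) (.node 19872 (.node 19760 (.node 19712 (.node 19680 (.node 19664 (rT1228) (rT1229)) (.node 19696 (rT1230) (rT1231))) (.node 19744 (.node 19728 (rT1232) (rT1233)) (rT1234))) (.node 19824 (.node 19792 (.node 19776 (rT1235) (rT1236)) (.node 19808 (rT1237) (rT1238))) (.node 19856 (.node 19840 (rT1239) (rT1240)) (rT1241)))) (.node 19984 (.node 19936 (.node 19904 (.node 19888 (rT1242) (rT1243)) (.node 19920 (rT1244) (rT1245))) (.node 19968 (.node 19952 (rT1246) (rT1247)) (rT1248))) (.node 20032 (.node 20016 (.node 20000 (rT1249) (rT1250)) (rT1251)) (.node 20064 (.node 20048 (rT1252)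 (rT1253)) (rT1254)))))) (.node 20512 (.node 20304 (.node 20192 (.node 20144 (.node 20112 (.node 20096 (rT1255) (rT1256)) (.node 20128 (rT1257) (rT1258))) (.node 20176 (.node 20160 (rT1259) (rT1260)) (rT1261))) (.node 20256 (.node 20224 (.node 20208 (rT1262) (rT1263)) (.node 20240 (rT1264) (rT1265))) (.node 20288 (.node 20272 (rT1266) (rT1267)) (rT1268)))) (.node 20416 (.node 20368 (.node 20336 (.node 20320 (rT1269) (rT1270)) (.node 20352 (rT1271) (rT1272))) (.node 20400 (.node 20384 (rT1273) (rT1274)) (rT1275))) (.node 20464 (.node 20448 (.node 20432 (rT1276) (rT1277)) (rT1278)) (.node 20496 (.node 20480 (rT1279) (rT1280)) (rT1281))))) (.node 20736 (.node 20624 (.node 20576 (.node 20544 (.node 20528 (rT1282) (rT1283)) (.node 20560 (rT1284) (rT1285))) (.node 20608 (.node 20592 (rT1286) (rT1287)) (rT1288))) (.node 20688 (.node 20656 (.node 20640 (rT1289) (rT1290)) (.node 20672 (rT1291) (rT1292))) (.node 20720 (.node 20704 (rT1293) (rT1294)) (rT1295)))) (.node 20848 (.node 20800 (.node 20768 (.node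 20752 (rT1296) (rT1297)) (.node 20784 (rT1298) (rT1299))) (.node 20832 (.node 20816 (rT1300) (rT1301)) (rT1302))) (.node 20896 (.node 20880 (.node 20864 (rT1303) (rT1304)) (rT1305)) (.node 20928 (.node 20912 (rT1306) (rT1307)) (rT1308))))))))) (.node 24432 (.node 22688 (.node 21824 (.node 21392 (.node 21168 (.node 21056 (.node 21008 (.node 20976 (.node 20960 (rT1309) (rT1310)) (.node 20992 (rT1311) (rT1312))) (.node 21040 (.node 21024 (rT1313) (rT1314)) (rT1315))) (.node 21120 (.node 21088 (.node 21072 (rT1316) (rT1317)) (.node 21104 (rT1318) (rT1319))) (.node 21152 (.node 21136 (rT1320) (rT1321)) (rT1322)))) (.node 21280 (.node 21232 (.node 21200 (.node 21184 (rT1323) (rT1324)) (.node 21216 (rT1325) (rT1326))) (.node 21264 (.node 21248 (rT1327) (rT1328)) (rT1329))) (.node 21344 (.node 21312 (.node 21296 (rT1330) (rT1331)) (.node 21328 (rT1332) (rT1333))) (.node 21376 (.node 21360 (rT1334) (rT1335)) (rT1336))))) (.node 21616 (.node 21504 (.node 21456 (.node 21424 (.node 21408 (rT1337) (rT1338))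 (.node 21440 (rT1339) (rT1340))) (.node 21488 (.node 21472 (rT1341) (rT1342)) (rT1343))) (.node 21568 (.node 21536 (.node 21520 (rT1344) (rT1345)) (.node 21552 (rT1346) (rT1347))) (.node 21600 (.node 21584 (rT1348) (rT1349)) (rT1350)))) (.node 21728 (.node 21680 (.node 21648 (.node 21632 (rT1351) (rT1352)) (.node 21664 (rT1353) (rT1354))) (.node 21712 (.node 21696 (rT1355) (rT1356)) (rT1357))) (.node 21776 (.node 21760 (.node 21744 (rT1358) (rT1359)) (rT1360)) (.node 21808 (.node 21792 (rT1361) (rT1362)) (rT1363)))))) (.node 22256 (.node 22048 (.node 21936 (.node 21888 (.node 21856 (.node 21840 (rT1364) (rT1365)) (.node 21872 (rT1366) (rT1367))) (.node 21920 (.node 21904 (rT1368) (rT1369)) (rT1370))) (.node 22000 (.node 21968 (.node 21952 (rT1371) (rT1372)) (.node 21984 (rT1373) (rT1374))) (.node 22032 (.node 22016 (rT1375) (rT1376)) (rT1377)))) (.node 22160 (.node 22112 (.node 22080 (.node 22064 (rT1378) (rT1379)) (.node 22096 (rT1380) (rT1381))) (.node 22144 (.node 22128 (rT1382) (rT1383))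 (rT1384))) (.node 22208 (.node 22192 (.node 22176 (rT1385) (rT1386)) (rT1387)) (.node 22240 (.node 22224 (rT1388) (rT1389)) (rT1390))))) (.node 22480 (.node 22368 (.node 22320 (.node 22288 (.node 22272 (rT1391) (rT1392)) (.node 22304 (rT1393) (rT1394))) (.node 22352 (.node 22336 (rT1395) (rT1396)) (rT1397))) (.node 22432 (.node 22400 (.node 22384 (rT1398) (rT1399)) (.node 22416 (rT1400) (rT1401))) (.node 22464 (.node 22448 (rT1402) (rT1403)) (rT1404)))) (.node 22592 (.node 22544 (.node 22512 (.node 22496 (rT1405) (rT1406)) (.node 22528 (rT1407) (rT1408))) (.node 22576 (.node 22560 (rT1409) (rT1410)) (rT1411))) (.node 22640 (.node 22624 (.node 22608 (rT1412) (rT1413)) (rT1414)) (.node 22672 (.node 22656 (rT1415) (rT1416)) (rT1417))))))) (.node 23568 (.node 23136 (.node 22912 (.node 22800 (.node 22752 (.node 22720 (.node 22704 (rT1418) (rT1419)) (.node 22736 (rT1420) (rT1421))) (.node 22784 (.node 22768 (rT1422) (rT1423)) (rT1424))) (.node 22864 (.node 22832 (.node 22816 (rT1425) (rT1426)) (.node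 22848 (rT1427) (rT1428))) (.node 22896 (.node 22880 (rT1429) (rT1430)) (rT1431)))) (.node 23024 (.node 22976 (.node 22944 (.node 22928 (rT1432) (rT1433)) (.node 22960 (rT1434) (rT1435))) (.node 23008 (.node 22992 (rT1436) (rT1437)) (rT1438))) (.node 23088 (.node 23056 (.node 23040 (rT1439) (rT1440)) (.node 23072 (rT1441) (rT1442))) (.node 23120 (.node 23104 (rT1443) (rT1444)) (rT1445))))) (.node 23360 (.node 23248 (.node 23200 (.node 23168 (.node 23152 (rT1446) (rT1447)) (.node 23184 (rT1448) (rT1449))) (.node 23232 (.node 23216 (rT1450) (rT1451)) (rT1452))) (.node 23312 (.node 23280 (.node 23264 (rT1453) (rT1454)) (.node 23296 (rT1455) (rT1456))) (.node 23344 (.node 23328 (rT1457) (rT1458)) (rT1459)))) (.node 23472 (.node 23424 (.node 23392 (.node 23376 (rT1460) (rT1461)) (.node 23408 (rT1462) (rT1463))) (.node 23456 (.node 23440 (rT1464) (rT1465)) (rT1466))) (.node 23520 (.node 23504 (.node 23488 (rT1467) (rT1468)) (rT1469)) (.node 23552 (.node 23536 (rT1470) (rT1471)) (rT1472)))))) (.node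 24000 (.node 23792 (.node 23680 (.node 23632 (.node 23600 (.node 23584 (rT1473) (rT1474)) (.node 23616 (rT1475) (rT1476))) (.node 23664 (.node 23648 (rT1477) (rT1478)) (rT1479))) (.node 23744 (.node 23712 (.node 23696 (rT1480) (rT1481)) (.node 23728 (rT1482) (rT1483))) (.node 23776 (.node 23760 (rT1484) (rT1485)) (rT1486)))) (.node 23904 (.node 23856 (.node 23824 (.node 23808 (rT1487) (rT1488)) (.node 23840 (rT1489) (rT1490))) (.node 23888 (.node 23872 (rT1491) (rT1492)) (rT1493))) (.node 23952 (.node 23936 (.node 23920 (rT1494) (rT1495)) (rT1496)) (.node 23984 (.node 23968 (rT1497) (rT1498)) (rT1499))))) (.node 24224 (.node 24112 (.node 24064 (.node 24032 (.node 24016 (rT1500) (rT1501)) (.node 24048 (rT1502) (rT1503))) (.node 24096 (.node 24080 (rT1504) (rT1505)) (rT1506))) (.node 24176 (.node 24144 (.node 24128 (rT1507) (rT1508)) (.node 24160 (rT1509) (rT1510))) (.node 24208 (.node 24192 (rT1511) (rT1512)) (rT1513)))) (.node 24336 (.node 24288 (.node 24256 (.node 24240 (rT1514) (rT1515)) (.node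 24272 (rT1516) (rT1517))) (.node 24320 (.node 24304 (rT1518) (rT1519)) (rT1520))) (.node 24384 (.node 24368 (.node 24352 (rT1521) (rT1522)) (rT1523)) (.node 24416 (.node 24400 (rT1524) (rT1525)) (rT1526)))))))) (.node 26176 (.node 25312 (.node 24880 (.node 24656 (.node 24544 (.node 24496 (.node 24464 (.node 24448 (rT1527) (rT1528)) (.node 24480 (rT1529) (rT1530))) (.node 24528 (.node 24512 (rT1531) (rT1532)) (rT1533))) (.node 24608 (.node 24576 (.node 24560 (rT1534) (rT1535)) (.node 24592 (rT1536) (rT1537))) (.node 24640 (.node 24624 (rT1538) (rT1539)) (rT1540)))) (.node 24768 (.node 24720 (.node 24688 (.node 24672 (rT1541) (rT1542)) (.node 24704 (rT1543) (rT1544))) (.node 24752 (.node 24736 (rT1545) (rT1546)) (rT1547))) (.node 24832 (.node 24800 (.node 24784 (rT1548) (rT1549)) (.node 24816 (rT1550) (rT1551))) (.node 24864 (.node 24848 (rT1552) (rT1553)) (rT1554))))) (.node 25104 (.node 24992 (.node 24944 (.node 24912 (.node 24896 (rT1555) (rT1556)) (.node 24928 (rT1557) (rT1558))) (.node 24976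 (.node 24960 (rT1559) (rT1560)) (rT1561))) (.node 25056 (.node 25024 (.node 25008 (rT1562) (rT1563)) (.node 25040 (rT1564) (rT1565))) (.node 25088 (.node 25072 (rT1566) (rT1567)) (rT1568)))) (.node 25216 (.node 25168 (.node 25136 (.node 25120 (rT1569) (rT1570)) (.node 25152 (rT1571) (rT1572))) (.node 25200 (.node 25184 (rT1573) (rT1574)) (rT1575))) (.node 25264 (.node 25248 (.node 25232 (rT1576) (rT1577)) (rT1578)) (.node 25296 (.node 25280 (rT1579) (rT1580)) (rT1581)))))) (.node 25744 (.node 25536 (.node 25424 (.node 25376 (.node 25344 (.node 25328 (rT1582) (rT1583)) (.node 25360 (rT1584) (rT1585))) (.node 25408 (.node 25392 (rT1586) (rT1587)) (rT1588))) (.node 25488 (.node 25456 (.node 25440 (rT1589) (rT1590)) (.node 25472 (rT1591) (rT1592))) (.node 25520 (.node 25504 (rT1593) (rT1594)) (rT1595)))) (.node 25648 (.node 25600 (.node 25568 (.node 25552 (rT1596) (rT1597)) (.node 25584 (rT1598) (rT1599))) (.node 25632 (.node 25616 (rT1600) (rT1601)) (rT1602))) (.node 25696 (.node 25680 (.node 25664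 (rT1603) (rT1604)) (rT1605)) (.node 25728 (.node 25712 (rT1606) (rT1607)) (rT1608))))) (.node 25968 (.node 25856 (.node 25808 (.node 25776 (.node 25760 (rT1609) (rT1610)) (.node 25792 (rT1611) (rT1612))) (.node 25840 (.node 25824 (rT1613) (rT1614)) (rT1615))) (.node 25920 (.node 25888 (.node 25872 (rT1616) (rT1617)) (.node 25904 (rT1618) (rT1619))) (.node 25952 (.node 25936 (rT1620) (rT1621)) (rT1622)))) (.node 26080 (.node 26032 (.node 26000 (.node 25984 (rT1623) (rT1624)) (.node 26016 (rT1625) (rT1626))) (.node 26064 (.node 26048 (rT1627) (rT1628)) (rT1629))) (.node 26128 (.node 26112 (.node 26096 (rT1630) (rT1631)) (rT1632)) (.node 26160 (.node 26144 (rT1633) (rT1634)) (rT1635))))))) (.node 27056 (.node 26624 (.node 26400 (.node 26288 (.node 26240 (.node 26208 (.node 26192 (rT1636) (rT1637)) (.node 26224 (rT1638) (rT1639))) (.node 26272 (.node 26256 (rT1640) (rT1641)) (rT1642))) (.node 26352 (.node 26320 (.node 26304 (rT1643) (rT1644)) (.node 26336 (rT1645) (rT1646))) (.node 26384 (.node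 26368 (rT1647) (rT1648)) (rT1649)))) (.node 26512 (.node 26464 (.node 26432 (.node 26416 (rT1650) (rT1651)) (.node 26448 (rT1652) (rT1653))) (.node 26496 (.node 26480 (rT1654) (rT1655)) (rT1656))) (.node 26576 (.node 26544 (.node 26528 (rT1657) (rT1658)) (.node 26560 (rT1659) (rT1660))) (.node 26608 (.node 26592 (rT1661) (rT1662)) (rT1663))))) (.node 26848 (.node 26736 (.node 26688 (.node 26656 (.node 26640 (rT1664) (rT1665)) (.node 26672 (rT1666) (rT1667))) (.node 26720 (.node 26704 (rT1668) (rT1669)) (rT1670))) (.node 26800 (.node 26768 (.node 26752 (rT1671) (rT1672)) (.node 26784 (rT1673) (rT1674))) (.node 26832 (.node 26816 (rT1675) (rT1676)) (rT1677)))) (.node 26960 (.node 26912 (.node 26880 (.node 26864 (rT1678) (rT1679)) (.node 26896 (rT1680) (rT1681))) (.node 26944 (.node 26928 (rT1682) (rT1683)) (rT1684))) (.node 27008 (.node 26992 (.node 26976 (rT1685) (rT1686)) (rT1687)) (.node 27040 (.node 27024 (rT1688) (rT1689)) (rT1690)))))) (.node 27488 (.node 27280 (.node 27168 (.node 27120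 (.node 27088 (.node 27072 (rT1691) (rT1692)) (.node 27104 (rT1693) (rT1694))) (.node 27152 (.node 27136 (rT1695) (rT1696)) (rT1697))) (.node 27232 (.node 27200 (.node 27184 (rT1698) (rT1699)) (.node 27216 (rT1700) (rT1701))) (.node 27264 (.node 27248 (rT1702) (rT1703)) (rT1704)))) (.node 27392 (.node 27344 (.node 27312 (.node 27296 (rT1705) (rT1706)) (.node 27328 (rT1707) (rT1708))) (.node 27376 (.node 27360 (rT1709) (rT1710)) (rT1711))) (.node 27440 (.node 27424 (.node 27408 (rT1712) (rT1713)) (rT1714)) (.node 27472 (.node 27456 (rT1715) (rT1716)) (rT1717))))) (.node 27712 (.node 27600 (.node 27552 (.node 27520 (.node 27504 (rT1718) (rT1719)) (.node 27536 (rT1720) (rT1721))) (.node 27584 (.node 27568 (rT1722) (rT1723)) (rT1724))) (.node 27664 (.node 27632 (.node 27616 (rT1725) (rT1726)) (.node 27648 (rT1727) (rT1728))) (.node 27696 (.node 27680 (rT1729) (rT1730)) (rT1731)))) (.node 27824 (.node 27776 (.node 27744 (.node 27728 (rT1732) (rT1733)) (.node 27760 (rT1734) (rT1735))) (.node 27808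 (.node 27792 (rT1736) (rT1737)) (rT1738))) (.node 27872 (.node 27856 (.node 27840 (rT1739) (rT1740)) (rT1741)) (.node 27904 (.node 27888 (rT1742) (rT1743)) (rT1744))))))))))
noncomputable def nTRoot : BT := .node 3840 (.node 1920 (.node 960 (.node 480 (.node 240 (.node 128 (.node 64 (.node 32 (.node 16 (nT0) (nT1)) (.node 48 (nT2) (nT3))) (.node 96 (.node 80 (nT4) (nT5)) (.node 112 (nT6) (nT7)))) (.node 192 (.node 160 (.node 144 (nT8) (nT9)) (.node 176 (nT10) (nT11))) (.node 224 (.node 208 (nT12) (nT13)) (nT14)))) (.node 368 (.node 304 (.node 272 (.node 256 (nT15) (nT16)) (.node 288 (nT17) (nT18))) (.node 336 (.node 320 (nT19) (nT20)) (.node 352 (nT21) (nT22)))) (.node 432 (.node 400 (.node 384 (nT23) (nT24)) (.node 416 (nT25) (nT26))) (.node 464 (.node 448 (nT27) (nT28)) (nT29))))) (.node 720 (.node 608 (.node 544 (.node 512 (.node 496 (nT30) (nT31)) (.node 528 (nT32) (nT33))) (.node 576 (.node 560 (nT34) (nT35)) (.node 592 (nT36) (nT37)))) (.node 672 (.node 640 (.node 624 (nT38) (nT39)) (.node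 656 (nT40) (nT41))) (.node 704 (.node 688 (nT42) (nT43)) (nT44)))) (.node 848 (.node 784 (.node 752 (.node 736 (nT45) (nT46)) (.node 768 (nT47) (nT48))) (.node 816 (.node 800 (nT49) (nT50)) (.node 832 (nT51) (nT52)))) (.node 912 (.node 880 (.node 864 (nT53) (nT54)) (.node 896 (nT55) (nT56))) (.node 944 (.node 928 (nT57) (nT58)) (nT59)))))) (.node 1440 (.node 1200 (.node 1088 (.node 1024 (.node 992 (.node 976 (nT60) (nT61)) (.node 1008 (nT62) (nT63))) (.node 1056 (.node 1040 (nT64) (nT65)) (.node 1072 (nT66) (nT67)))) (.node 1152 (.node 1120 (.node 1104 (nT68) (nT69)) (.node 1136 (nT70) (nT71))) (.node 1184 (.node 1168 (nT72) (nT73)) (nT74)))) (.node 1328 (.node 1264 (.node 1232 (.node 1216 (nT75) (nT76)) (.node 1248 (nT77) (nT78))) (.node 1296 (.node 1280 (nT79) (nT80)) (.node 1312 (nT81) (nT82)))) (.node 1392 (.node 1360 (.node 1344 (nT83) (nT84)) (.node 1376 (nT85) (nT86))) (.node 1424 (.node 1408 (nT87) (nT88)) (nT89))))) (.node 1680 (.node 1568 (.node 1504 (.node 1472 (.node 1456 (nT90)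 (nT91)) (.node 1488 (nT92) (nT93))) (.node 1536 (.node 1520 (nT94) (nT95)) (.node 1552 (nT96) (nT97)))) (.node 1632 (.node 1600 (.node 1584 (nT98) (nT99)) (.node 1616 (nT100) (nT101))) (.node 1664 (.node 1648 (nT102) (nT103)) (nT104)))) (.node 1808 (.node 1744 (.node 1712 (.node 1696 (nT105) (nT106)) (.node 1728 (nT107) (nT108))) (.node 1776 (.node 1760 (nT109) (nT110)) (.node 1792 (nT111) (nT112)))) (.node 1872 (.node 1840 (.node 1824 (nT113) (nT114)) (.node 1856 (nT115) (nT116))) (.node 1904 (.node 1888 (nT117) (nT118)) (nT119))))))) (.node 2880 (.node 2400 (.node 2160 (.node 2048 (.node 1984 (.node 1952 (.node 1936 (nT120) (nT121)) (.node 1968 (nT122) (nT123))) (.node 2016 (.node 2000 (nT124) (nT125)) (.node 2032 (nT126) (nT127)))) (.node 2112 (.node 2080 (.node 2064 (nT128) (nT129)) (.node 2096 (nT130) (nT131))) (.node 2144 (.node 2128 (nT132) (nT133)) (nT134)))) (.node 2288 (.node 2224 (.node 2192 (.node 2176 (nT135) (nT136)) (.node 2208 (nT137) (nT138))) (.node 2256 (.node 2240 (nT139)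 (nT140)) (.node 2272 (nT141) (nT142)))) (.node 2352 (.node 2320 (.node 2304 (nT143) (nT144)) (.node 2336 (nT145) (nT146))) (.node 2384 (.node 2368 (nT147) (nT148)) (nT149))))) (.node 2640 (.node 2528 (.node 2464 (.node 2432 (.node 2416 (nT150) (nT151)) (.node 2448 (nT152) (nT153))) (.node 2496 (.node 2480 (nT154) (nT155)) (.node 2512 (nT156) (nT157)))) (.node 2592 (.node 2560 (.node 2544 (nT158) (nT159)) (.node 2576 (nT160) (nT161))) (.node 2624 (.node 2608 (nT162) (nT163)) (nT164)))) (.node 2768 (.node 2704 (.node 2672 (.node 2656 (nT165) (nT166)) (.node 2688 (nT167) (nT168))) (.node 2736 (.node 2720 (nT169) (nT170)) (.node 2752 (nT171) (nT172)))) (.node 2832 (.node 2800 (.node 2784 (nT173) (nT174)) (.node 2816 (nT175) (nT176))) (.node 2864 (.node 2848 (nT177) (nT178)) (nT179)))))) (.node 3360 (.node 3120 (.node 3008 (.node 2944 (.node 2912 (.node 2896 (nT180) (nT181)) (.node 2928 (nT182) (nT183))) (.node 2976 (.node 2960 (nT184) (nT185)) (.node 2992 (nT186) (nT187)))) (.node 3072 (.node 3040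 (.node 3024 (nT188) (nT189)) (.node 3056 (nT190) (nT191))) (.node 3104 (.node 3088 (nT192) (nT193)) (nT194)))) (.node 3248 (.node 3184 (.node 3152 (.node 3136 (nT195) (nT196)) (.node 3168 (nT197) (nT198))) (.node 3216 (.node 3200 (nT199) (nT200)) (.node 3232 (nT201) (nT202)))) (.node 3312 (.node 3280 (.node 3264 (nT203) (nT204)) (.node 3296 (nT205) (nT206))) (.node 3344 (.node 3328 (nT207) (nT208)) (nT209))))) (.node 3600 (.node 3488 (.node 3424 (.node 3392 (.node 3376 (nT210) (nT211)) (.node 3408 (nT212) (nT213))) (.node 3456 (.node 3440 (nT214) (nT215)) (.node 3472 (nT216) (nT217)))) (.node 3552 (.node 3520 (.node 3504 (nT218) (nT219)) (.node 3536 (nT220) (nT221))) (.node 3584 (.node 3568 (nT222) (nT223)) (nT224)))) (.node 3728 (.node 3664 (.node 3632 (.node 3616 (nT225) (nT226)) (.node 3648 (nT227) (nT228))) (.node 3696 (.node 3680 (nT229) (nT230)) (.node 3712 (nT231) (nT232)))) (.node 3792 (.node 3760 (.node 3744 (nT233) (nT234)) (.node 3776 (nT235) (nT236))) (.node 3824 (.node 3808 (nT237)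 (nT238)) (nT239)))))))) (.node 5760 (.node 4800 (.node 4320 (.node 4080 (.node 3968 (.node 3904 (.node 3872 (.node 3856 (nT240) (nT241)) (.node 3888 (nT242) (nT243))) (.node 3936 (.node 3920 (nT244) (nT245)) (.node 3952 (nT246) (nT247)))) (.node 4032 (.node 4000 (.node 3984 (nT248) (nT249)) (.node 4016 (nT250) (nT251))) (.node 4064 (.node 4048 (nT252) (nT253)) (nT254)))) (.node 4208 (.node 4144 (.node 4112 (.node 4096 (nT255) (nT256)) (.node 4128 (nT257) (nT258))) (.node 4176 (.node 4160 (nT259) (nT260)) (.node 4192 (nT261) (nT262)))) (.node 4272 (.node 4240 (.node 4224 (nT263) (nT264)) (.node 4256 (nT265) (nT266))) (.node 4304 (.node 4288 (nT267) (nT268)) (nT269))))) (.node 4560 (.node 4448 (.node 4384 (.node 4352 (.node 4336 (nT270) (nT271)) (.node 4368 (nT272) (nT273))) (.node 4416 (.node 4400 (nT274) (nT275)) (.node 4432 (nT276) (nT277)))) (.node 4512 (.node 4480 (.node 4464 (nT278) (nT279)) (.node 4496 (nT280) (nT281))) (.node 4544 (.node 4528 (nT282) (nT283)) (nT284)))) (.node 4688 (.node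 4624 (.node 4592 (.node 4576 (nT285) (nT286)) (.node 4608 (nT287) (nT288))) (.node 4656 (.node 4640 (nT289) (nT290)) (.node 4672 (nT291) (nT292)))) (.node 4752 (.node 4720 (.node 4704 (nT293) (nT294)) (.node 4736 (nT295) (nT296))) (.node 4784 (.node 4768 (nT297) (nT298)) (nT299)))))) (.node 5280 (.node 5040 (.node 4928 (.node 4864 (.node 4832 (.node 4816 (nT300) (nT301)) (.node 4848 (nT302) (nT303))) (.node 4896 (.node 4880 (nT304) (nT305)) (.node 4912 (nT306) (nT307)))) (.node 4992 (.node 4960 (.node 4944 (nT308) (nT309)) (.node 4976 (nT310) (nT311))) (.node 5024 (.node 5008 (nT312) (nT313)) (nT314)))) (.node 5168 (.node 5104 (.node 5072 (.node 5056 (nT315) (nT316)) (.node 5088 (nT317) (nT318))) (.node 5136 (.node 5120 (nT319) (nT320)) (.node 5152 (nT321) (nT322)))) (.node 5232 (.node 5200 (.node 5184 (nT323) (nT324)) (.node 5216 (nT325) (nT326))) (.node 5264 (.node 5248 (nT327) (nT328)) (nT329))))) (.node 5520 (.node 5408 (.node 5344 (.node 5312 (.node 5296 (nT330) (nT331)) (.node 5328 (nT332)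 (nT333))) (.node 5376 (.node 5360 (nT334) (nT335)) (.node 5392 (nT336) (nT337)))) (.node 5472 (.node 5440 (.node 5424 (nT338) (nT339)) (.node 5456 (nT340) (nT341))) (.node 5504 (.node 5488 (nT342) (nT343)) (nT344)))) (.node 5648 (.node 5584 (.node 5552 (.node 5536 (nT345) (nT346)) (.node 5568 (nT347) (nT348))) (.node 5616 (.node 5600 (nT349) (nT350)) (.node 5632 (nT351) (nT352)))) (.node 5712 (.node 5680 (.node 5664 (nT353) (nT354)) (.node 5696 (nT355) (nT356))) (.node 5744 (.node 5728 (nT357) (nT358)) (nT359))))))) (.node 6720 (.node 6240 (.node 6000 (.node 5888 (.node 5824 (.node 5792 (.node 5776 (nT360) (nT361)) (.node 5808 (nT362) (nT363))) (.node 5856 (.node 5840 (nT364) (nT365)) (.node 5872 (nT366) (nT367)))) (.node 5952 (.node 5920 (.node 5904 (nT368) (nT369)) (.node 5936 (nT370) (nT371))) (.node 5984 (.node 5968 (nT372) (nT373)) (nT374)))) (.node 6128 (.node 6064 (.node 6032 (.node 6016 (nT375) (nT376)) (.node 6048 (nT377) (nT378))) (.node 6096 (.node 6080 (nT379) (nT380)) (.node 6112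 (nT381) (nT382)))) (.node 6192 (.node 6160 (.node 6144 (nT383) (nT384)) (.node 6176 (nT385) (nT386))) (.node 6224 (.node 6208 (nT387) (nT388)) (nT389))))) (.node 6480 (.node 6368 (.node 6304 (.node 6272 (.node 6256 (nT390) (nT391)) (.node 6288 (nT392) (nT393))) (.node 6336 (.node 6320 (nT394) (nT395)) (.node 6352 (nT396) (nT397)))) (.node 6432 (.node 6400 (.node 6384 (nT398) (nT399)) (.node 6416 (nT400) (nT401))) (.node 6464 (.node 6448 (nT402) (nT403)) (nT404)))) (.node 6608 (.node 6544 (.node 6512 (.node 6496 (nT405) (nT406)) (.node 6528 (nT407) (nT408))) (.node 6576 (.node 6560 (nT409) (nT410)) (.node 6592 (nT411) (nT412)))) (.node 6672 (.node 6640 (.node 6624 (nT413) (nT414)) (.node 6656 (nT415) (nT416))) (.node 6704 (.node 6688 (nT417) (nT418)) (nT419)))))) (.node 7200 (.node 6960 (.node 6848 (.node 6784 (.node 6752 (.node 6736 (nT420) (nT421)) (.node 6768 (nT422) (nT423))) (.node 6816 (.node 6800 (nT424) (nT425)) (.node 6832 (nT426) (nT427)))) (.node 6912 (.node 6880 (.node 6864 (nT428)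 (nT429)) (.node 6896 (nT430) (nT431))) (.node 6944 (.node 6928 (nT432) (nT433)) (nT434)))) (.node 7088 (.node 7024 (.node 6992 (.node 6976 (nT435) (nT436)) (.node 7008 (nT437) (nT438))) (.node 7056 (.node 7040 (nT439) (nT440)) (.node 7072 (nT441) (nT442)))) (.node 7152 (.node 7120 (.node 7104 (nT443) (nT444)) (.node 7136 (nT445) (nT446))) (.node 7184 (.node 7168 (nT447) (nT448)) (nT449))))) (.node 7440 (.node 7328 (.node 7264 (.node 7232 (.node 7216 (nT450) (nT451)) (.node 7248 (nT452) (nT453))) (.node 7296 (.node 7280 (nT454) (nT455)) (.node 7312 (nT456) (nT457)))) (.node 7392 (.node 7360 (.node 7344 (nT458) (nT459)) (.node 7376 (nT460) (nT461))) (.node 7424 (.node 7408 (nT462) (nT463)) (nT464)))) (.node 7568 (.node 7504 (.node 7472 (.node 7456 (nT465) (nT466)) (.node 7488 (nT467) (nT468))) (.node 7536 (.node 7520 (nT469) (nT470)) (.node 7552 (nT471) (nT472)))) (.node 7632 (.node 7600 (.node 7584 (nT473) (nT474)) (.node 7616 (nT475) (nT476))) (.node 7664 (.node 7648 (nT477) (nT478)) (nT479))))))))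

/-- the certificate -/
noncomputable def cert : Cert where
  g := 8
  m := 223274
  n := 122760
  R := 833444
  fuel := 7
  nw := 36
  nrel := 22
  nsub := 30
  lg := 3
  lmask := 7
  rW := 640
  eW := 69
  mv := 262143
  mr := 1048575
  mw := 63
  mt := 31
  ml := 7
  oR := 18
  oK := 38
  oW := 40
  oT := 46
  oU := 51
  oM := 552
  oMR := 570
  oMW := 590
  oMT := 596
  oMU := 601
  oP := 619
  oL := 637
  rows := rTRoot
  wW := 65
  wt := 5
  wl := 3
  WD := 0x7080000000000000304000000000000014200000000000000810000000000000030800000000000001040000000000000fc400000000000006c200000000000002d10000000000000120800000000000006c400000000000002420000000000000011000000000000004080000005170d45c16000000208c38230b163163163163163a000000002096186a8000000014594d31400000004b2cb2f4a00000000000027a200000000001f7df18000000000003df4800000000006baea6000000000000f3c200000000000069a10002cb2cb2cb2cb20000000000001df64000000000000cf320000000000005759000000000008e38cc000000000001d744000000000000cb22000000000000555100000000000022888000000000034d346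
  lgN := 4
  lmaskN := 15
  nW := 217
  wv := 18
  oCan := 144
  oPN := 162
  oLN := 180
  oComp := 183
  mc := 7
  oOP := 186
  oOW := 204
  oOD := 210
  md := 63
  oODir := 216
  ncomp := 5
  ROOTS := 0x20000300006000040000
  nrows := nTRoot

end Cfsg.Agent.Lib.Helper39.ONL
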