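import Cfsg.Agent.Lib.Helper39.ONLN0
import Cfsg.Agent.Lib.Helper39.ONLN1
import Cfsg.Agent.Lib.Helper39.ONLN2
import Cfsg.Agent.Lib.Helper39.ONLN3
import Cfsg.Agent.Lib.Helper39.ONLN4
import Cfsg.Agent.Lib.Helper39.ONLN5
import Cfsg.Agent.Lib.Helper39.ONLN6
import Cfsg.Agent.Lib.Helper39.ONLN7
import Cfsg.Agent.Lib.Helper39.ONLN8
import Cfsg.Agent.Lib.Helper39.ONLN9
import Cfsg.Agent.Lib.Helper39.ONLN10
import Cfsg.Agent.Lib.Helper39.ONLN11
import Cfsg.Agent.Lib.Helper39.ONLN12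
import Cfsg.Agent.Lib.Helper39.ONLN13
import Cfsg.Agent.Lib.Helper39.ONLN14
import Cfsg.Agent.Lib.Helper39.ONLN15
import Cfsg.Agent.Lib.Helper39.ONLN16
import Cfsg.Agent.Lib.Helper39.ONLN17
import Cfsg.Agent.Lib.Helper39.ONLN18
import Cfsg.Agent.Lib.Helper39.ONLN19
import Cfsg.Agent.Lib.Helper39.ONLN20
import Cfsg.Agent.Lib.Helper39.ONLN21
import Cfsg.Agent.Lib.Helper39.ONLN22
import Cfsg.Agent.Lib.Helper39.ONLN23
import Cfsg.Agent.Lib.Helper39.ONLN24
import Cfsg.Agent.Lib.Helper39.ONLN25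
import Cfsg.Agent.Lib.Helper39.ONLN26
import Cfsg.Agent.Lib.Helper39.ONLN27
import Cfsg.Agent.Lib.Helper39.ONLN28
import Cfsg.Agent.Lib.Helper39.ONLN29
import Cfsg.Agent.Lib.Helper39.ONLN30

set_option maxRecDepth 100000
set_option maxHeartbeats 0

namespace Cfsg.Agent.Lib.Helper39.ONL
open Cfsg.Agent.Lib.Helper38 Cfsg.Agent.Lib.Helper39

theorem chkN_all : ∀ v < 122760, (chkNI cert 1) v = true := by
  have h : allFrom 0 122760 (chkNI cert 1) = true :=
    (allFrom_join (lo := 0) (a := 120000) (b := 2760) (allFrom_join (lo := 0) (a := 116000) (b := 4000) (allFrom_join (lo := 0) (a := 112000) (b := 4000) (allFrom_join (lo := 0) (a := 108000) (b := 4000) (allFrom_join (lo := 0) (a := 104000) (b := 4000) (allFrom_join (lo := 0) (a := 100000) (b := 4000) (allFrom_join (lo := 0) (a := 96000) (b := 4000) (allFrom_join (lo := 0) (a := 92000) (b := 4000) (allFrom_join (lo := 0) (a := 88000) (b := 4000) (allFrom_join (lo := 0) (a := 84000) (b := 4000)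 (allFrom_join (lo := 0) (a := 80000) (b := 4000) (allFrom_join (lo := 0) (a := 76000) (b := 4000) (allFrom_join (lo := 0) (a := 72000) (b := 4000) (allFrom_join (lo := 0) (a := 68000) (b := 4000) (allFrom_join (lo := 0) (a := 64000) (b := 4000) (allFrom_join (lo := 0) (a := 60000) (b := 4000) (allFrom_join (lo := 0) (a := 56000) (b := 4000) (allFrom_join (lo := 0) (a := 52000) (b := 4000) (allFrom_join (lo := 0) (a := 48000) (b := 4000) (allFrom_join (lo := 0) (a := 44000) (b := 4000) (allFrom_join (lo := 0) (a := 40000) (b := 4000) (allFrom_join (lo := 0) (a := 36000) (b := 4000) (allFrom_join (lo := 0) (a := 32000) (b := 4000) (allFrom_join (lo := 0) (a := 28000) (b := 4000) (allFrom_join (lo := 0) (a := 24000) (b := 4000) (allFrom_join (lo := 0) (a := 20000) (b := 4000) (allFrom_join (lo := 0) (a := 16000) (b := 4000) (allFrom_join (lo := 0) (a := 12000) (b := 4000) (allFrom_join (lo := 0) (a := 8000) (b := 4000) (allFrom_join (lo := 0)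 (a := 4000) (b := 4000) chkN_f0 chkN_f1) chkN_f2) chkN_f3) chkN_f4) chkN_f5) chkN_f6) chkN_f7) chkN_f8) chkN_f9) chkN_f10) chkN_f11) chkN_f12) chkN_f13) chkN_f14) chkN_f15) chkN_f16) chkN_f17) chkN_f18) chkN_f19) chkN_f20) chkN_f21) chkN_f22) chkN_f23) chkN_f24) chkN_f25) chkN_f26) chkN_f27) chkN_f28) chkN_f29) chkN_f30)
  intro v hv
  exact allFrom_iff.mp h v (Nat.zero_le _) (by omega)

end Cfsg.Agent.Lib.Helper39.ONL
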