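import Cfsg.Agent.Lib.Helper39.ONLO0
import Cfsg.Agent.Lib.Helper39.ONLO1
import Cfsg.Agent.Lib.Helper39.ONLO2
import Cfsg.Agent.Lib.Helper39.ONLO3
import Cfsg.Agent.Lib.Helper39.ONLO4
import Cfsg.Agent.Lib.Helper39.ONLO5
import Cfsg.Agent.Lib.Helper39.ONLO6
import Cfsg.Agent.Lib.Helper39.ONLO7
import Cfsg.Agent.Lib.Helper39.ONLO8
import Cfsg.Agent.Lib.Helper39.ONLO9
import Cfsg.Agent.Lib.Helper39.ONLO10
import Cfsg.Agent.Lib.Helper39.ONLO11
import Cfsg.Agent.Lib.Helper39.ONLO12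
import Cfsg.Agent.Lib.Helper39.ONLO13
import Cfsg.Agent.Lib.Helper39.ONLO14
import Cfsg.Agent.Lib.Helper39.ONLO15
import Cfsg.Agent.Lib.Helper39.ONLO16
import Cfsg.Agent.Lib.Helper39.ONLO17
import Cfsg.Agent.Lib.Helper39.ONLO18
import Cfsg.Agent.Lib.Helper39.ONLO19
import Cfsg.Agent.Lib.Helper39.ONLO20
import Cfsg.Agent.Lib.Helper39.ONLO21
import Cfsg.Agent.Lib.Helper39.ONLO22
import Cfsg.Agent.Lib.Helper39.ONLO23
import Cfsg.Agent.Lib.Helper39.ONLO24
import Cfsg.Agent.Lib.Helper39.ONLO25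
import Cfsg.Agent.Lib.Helper39.ONLO26
import Cfsg.Agent.Lib.Helper39.ONLO27
import Cfsg.Agent.Lib.Helper39.ONLO28
import Cfsg.Agent.Lib.Helper39.ONLO29
import Cfsg.Agent.Lib.Helper39.ONLO30

set_option maxRecDepth 100000
set_option maxHeartbeats 0

namespace Cfsg.Agent.Lib.Helper39.ONL
open Cfsg.Agent.Lib.Helper38 

theorem chkO_all : ∀ v < 122760, cert.chkO v = true := by
  have h : allFrom 0 122760 cert.chkO = true :=
    (allFrom_join (lo := 0) (a := 120000) (b := 2760) (allFrom_join (lo := 0) (a := 116000) (b := 4000) (allFrom_join (lo := 0) (a := 112000) (b := 4000) (allFrom_join (lo := 0) (a := 108000) (b := 4000) (allFrom_join (lo := 0) (a := 104000) (b := 4000) (allFrom_join (lo := 0) (a := 100000) (b := 4000) (allFrom_join (lo := 0) (a := 96000) (b := 4000) (allFrom_join (lo := 0) (a := 92000) (b := 4000) (allFrom_join (lo := 0) (a := 88000) (b := 4000) (allFrom_join (lo := 0) (a := 84000) (b := 4000) (allFrom_join (lo := 0) (a := 80000)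 (b := 4000) (allFrom_join (lo := 0) (a := 76000) (b := 4000) (allFrom_join (lo := 0) (a := 72000) (b := 4000) (allFrom_join (lo := 0) (a := 68000) (b := 4000) (allFrom_join (lo := 0) (a := 64000) (b := 4000) (allFrom_join (lo := 0) (a := 60000) (b := 4000) (allFrom_join (lo := 0) (a := 56000) (b := 4000) (allFrom_join (lo := 0) (a := 52000) (b := 4000) (allFrom_join (lo := 0) (a := 48000) (b := 4000) (allFrom_join (lo := 0) (a := 44000) (b := 4000) (allFrom_join (lo := 0) (a := 40000) (b := 4000) (allFrom_join (lo := 0) (a := 36000) (b := 4000) (allFrom_join (lo := 0) (a := 32000) (b := 4000) (allFrom_join (lo := 0) (a := 28000) (b := 4000) (allFrom_join (lo := 0) (a := 24000) (b := 4000) (allFrom_join (lo := 0) (a := 20000) (b := 4000) (allFrom_join (lo := 0) (a := 16000) (b := 4000) (allFrom_join (lo := 0) (a := 12000) (b := 4000) (allFrom_join (lo := 0) (a := 8000) (b := 4000) (allFrom_join (lo := 0) (a := 4000) (b := 4000) chkO_f0 chkO_f1)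 chkO_f2) chkO_f3) chkO_f4) chkO_f5) chkO_f6) chkO_f7) chkO_f8) chkO_f9) chkO_f10) chkO_f11) chkO_f12) chkO_f13) chkO_f14) chkO_f15) chkO_f16) chkO_f17) chkO_f18) chkO_f19) chkO_f20) chkO_f21) chkO_f22) chkO_f23) chkO_f24) chkO_f25) chkO_f26) chkO_f27) chkO_f28) chkO_f29) chkO_f30)
  intro v hv
  exact allFrom_iff.mp h v (Nat.zero_le _) (by omega)

end Cfsg.Agent.Lib.Helper39.ONL
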