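import Cfsg.Agent.Lib.Helper39.ONLV0
import Cfsg.Agent.Lib.Helper39.ONLV1
import Cfsg.Agent.Lib.Helper39.ONLV2
import Cfsg.Agent.Lib.Helper39.ONLV3
import Cfsg.Agent.Lib.Helper39.ONLV4
import Cfsg.Agent.Lib.Helper39.ONLV5
import Cfsg.Agent.Lib.Helper39.ONLV6
import Cfsg.Agent.Lib.Helper39.ONLV7
import Cfsg.Agent.Lib.Helper39.ONLV8
import Cfsg.Agent.Lib.Helper39.ONLV9
import Cfsg.Agent.Lib.Helper39.ONLV10
import Cfsg.Agent.Lib.Helper39.ONLV11
import Cfsg.Agent.Lib.Helper39.ONLV12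
import Cfsg.Agent.Lib.Helper39.ONLV13
import Cfsg.Agent.Lib.Helper39.ONLV14
import Cfsg.Agent.Lib.Helper39.ONLV15
import Cfsg.Agent.Lib.Helper39.ONLV16
import Cfsg.Agent.Lib.Helper39.ONLV17
import Cfsg.Agent.Lib.Helper39.ONLV18
import Cfsg.Agent.Lib.Helper39.ONLV19
import Cfsg.Agent.Lib.Helper39.ONLV20
import Cfsg.Agent.Lib.Helper39.ONLV21
import Cfsg.Agent.Lib.Helper39.ONLV22
import Cfsg.Agent.Lib.Helper39.ONLV23
import Cfsg.Agent.Lib.Helper39.ONLV24
import Cfsg.Agent.Lib.Helper39.ONLV25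
import Cfsg.Agent.Lib.Helper39.ONLV26
import Cfsg.Agent.Lib.Helper39.ONLV27
import Cfsg.Agent.Lib.Helper39.ONLV28
import Cfsg.Agent.Lib.Helper39.ONLV29
import Cfsg.Agent.Lib.Helper39.ONLV30
import Cfsg.Agent.Lib.Helper39.ONLV31
import Cfsg.Agent.Lib.Helper39.ONLV32
import Cfsg.Agent.Lib.Helper39.ONLV33
import Cfsg.Agent.Lib.Helper39.ONLV34
import Cfsg.Agent.Lib.Helper39.ONLV35
import Cfsg.Agent.Lib.Helper39.ONLV36
import Cfsg.Agent.Lib.Helper39.ONLV37
import Cfsg.Agent.Lib.Helper39.ONLV38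
import Cfsg.Agent.Lib.Helper39.ONLV39
import Cfsg.Agent.Lib.Helper39.ONLV40
import Cfsg.Agent.Lib.Helper39.ONLV41
import Cfsg.Agent.Lib.Helper39.ONLV42
import Cfsg.Agent.Lib.Helper39.ONLV43
import Cfsg.Agent.Lib.Helper39.ONLV44
import Cfsg.Agent.Lib.Helper39.ONLV45
import Cfsg.Agent.Lib.Helper39.ONLV46
import Cfsg.Agent.Lib.Helper39.ONLV47
import Cfsg.Agent.Lib.Helper39.ONLV48
import Cfsg.Agent.Lib.Helper39.ONLV49
import Cfsg.Agent.Lib.Helper39.ONLV50
import Cfsg.Agent.Lib.Helper39.ONLV51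
import Cfsg.Agent.Lib.Helper39.ONLV52
import Cfsg.Agent.Lib.Helper39.ONLV53
import Cfsg.Agent.Lib.Helper39.ONLV54
import Cfsg.Agent.Lib.Helper39.ONLV55

set_option maxRecDepth 100000
set_option maxHeartbeats 0

namespace Cfsg.Agent.Lib.Helper39.ONL
open Cfsg.Agent.Lib.Helper38 Cfsg.Agent.Lib.Helper39

theorem chkV_all : ∀ v < 223274, (chkVI cert 1) v = true := by
  have h : allFrom 0 223274 (chkVI cert 1) = true :=
    (allFrom_join (lo := 0) (a := 220000) (b := 3274) (allFrom_join (lo := 0) (a := 216000) (b := 4000) (allFrom_join (lo := 0) (a := 212000) (b := 4000) (allFrom_join (lo := 0) (a := 208000) (b := 4000) (allFrom_join (lo := 0) (a := 204000) (b := 4000) (allFrom_join (lo := 0) (a := 200000) (b := 4000) (allFrom_join (lo := 0) (a := 196000) (b := 4000) (allFrom_join (lo := 0) (a := 192000) (b := 4000) (allFrom_join (lo := 0) (a := 188000) (b := 4000) (allFrom_join (lo := 0) (a := 184000) (b := 4000) (allFrom_join (lo := 0) (a := 180000)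 (b := 4000) (allFrom_join (lo := 0) (a := 176000) (b := 4000) (allFrom_join (lo := 0) (a := 172000) (b := 4000) (allFrom_join (lo := 0) (a := 168000) (b := 4000) (allFrom_join (lo := 0) (a := 164000) (b := 4000) (allFrom_join (lo := 0) (a := 160000) (b := 4000) (allFrom_join (lo := 0) (a := 156000) (b := 4000) (allFrom_join (lo := 0) (a := 152000) (b := 4000) (allFrom_join (lo := 0) (a := 148000) (b := 4000) (allFrom_join (lo := 0) (a := 144000) (b := 4000) (allFrom_join (lo := 0) (a := 140000) (b := 4000) (allFrom_join (lo := 0) (a := 136000) (b := 4000) (allFrom_join (lo := 0) (a := 132000) (b := 4000) (allFrom_join (lo := 0) (a := 128000) (b := 4000) (allFrom_join (lo := 0) (a := 124000) (b := 4000) (allFrom_join (lo := 0) (a := 120000) (b := 4000) (allFrom_join (lo := 0) (a := 116000) (b := 4000) (allFrom_join (lo := 0) (a := 112000) (b := 4000) (allFrom_join (lo := 0) (a := 108000) (b := 4000) (allFrom_join (lo := 0) (a := 104000) (b := 4000)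 (allFrom_join (lo := 0) (a := 100000) (b := 4000) (allFrom_join (lo := 0) (a := 96000) (b := 4000) (allFrom_join (lo := 0) (a := 92000) (b := 4000) (allFrom_join (lo := 0) (a := 88000) (b := 4000) (allFrom_join (lo := 0) (a := 84000) (b := 4000) (allFrom_join (lo := 0) (a := 80000) (b := 4000) (allFrom_join (lo := 0) (a := 76000) (b := 4000) (allFrom_join (lo := 0) (a := 72000) (b := 4000) (allFrom_join (lo := 0) (a := 68000) (b := 4000) (allFrom_join (lo := 0) (a := 64000) (b := 4000) (allFrom_join (lo := 0) (a := 60000) (b := 4000) (allFrom_join (lo := 0) (a := 56000) (b := 4000) (allFrom_join (lo := 0) (a := 52000) (b := 4000) (allFrom_join (lo := 0) (a := 48000) (b := 4000) (allFrom_join (lo := 0) (a := 44000) (b := 4000) (allFrom_join (lo := 0) (a := 40000) (b := 4000) (allFrom_join (lo := 0) (a := 36000) (b := 4000) (allFrom_join (lo := 0) (a := 32000) (b := 4000) (allFrom_join (lo := 0) (a := 28000) (b := 4000) (allFrom_join (lo := 0) (a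 := 24000) (b := 4000) (allFrom_join (lo := 0) (a := 20000) (b := 4000) (allFrom_join (lo := 0) (a := 16000) (b := 4000) (allFrom_join (lo := 0) (a := 12000) (b := 4000) (allFrom_join (lo := 0) (a := 8000) (b := 4000) (allFrom_join (lo := 0) (a := 4000) (b := 4000) chkV_f0 chkV_f1) chkV_f2) chkV_f3) chkV_f4) chkV_f5) chkV_f6) chkV_f7) chkV_f8) chkV_f9) chkV_f10) chkV_f11) chkV_f12) chkV_f13) chkV_f14) chkV_f15) chkV_f16) chkV_f17) chkV_f18) chkV_f19) chkV_f20) chkV_f21) chkV_f22) chkV_f23) chkV_f24) chkV_f25) chkV_f26) chkV_f27) chkV_f28) chkV_f29) chkV_f30) chkV_f31) chkV_f32) chkV_f33) chkV_f34) chkV_f35) chkV_f36) chkV_f37) chkV_f38) chkV_f39) chkV_f40) chkV_f41) chkV_f42) chkV_f43) chkV_f44) chkV_f45) chkV_f46) chkV_f47) chkV_f48) chkV_f49) chkV_f50) chkV_f51) chkV_f52) chkV_f53) chkV_f54) chkV_f55)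
  intro v hv
  exact allFrom_iff.mp h v (Nat.zero_le _) (by omega)

end Cfsg.Agent.Lib.Helper39.ONL
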