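import Cfsg.Agent.Lib.Helper39.OrdT

/-!
Data for the order and the simplicity of the presented O'Nan group (generated).
Letters: `0 = g`, `1 = g⁻¹`, `2 … 7 = a … f`.
-/

namespace Cfsg.Agent.Lib.Helper39.ONOrd

/-- the relators on `a, …, f`, and the letters `g`, `g⁻¹` -/
def WH : List (List ℕ) := [
  [2, 3, 2, 3, 2, 3],
  [2, 4, 2, 4],
  [2, 5, 2, 5],
  [2, 6, 2, 6],
  [2, 7, 2, 7],
  [3, 4, 3, 4, 3, 4],
  [3, 5, 3, 5],
  [3, 6, 3, 6],
  [3, 7, 3, 7],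
  [4, 5, 4, 5, 4, 5, 4, 5, 4, 5, 4, 5, 4, 5, 4, 5],
  [4, 6, 4, 6],
  [4, 7, 4, 7],
  [5, 6, 5, 6, 5, 6],
  [5, 7, 5, 7],
  [6, 7, 6, 7, 6, 7],
  [2, 7, 5, 4, 5, 4, 5, 4, 5, 4],
  [0],
  [1]]

/-- the relators on `a, b, c, d, f`, and the other letters -/
def WC : List (List ℕ) := [
  [2, 3, 2, 3, 2, 3],
  [2, 4, 2, 4],
  [2, 5, 2, 5],
  [2, 7, 2, 7],
  [3, 4, 3, 4, 3, 4],
  [3, 5, 3, 5],
  [3, 7, 3, 7],
  [4, 5, 4, 5, 4, 5, 4, 5, 4, 5, 4, 5, 4, 5, 4, 5],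
  [4, 7, 4, 7],
  [5, 7, 5, 7],
  [2, 7, 5, 4, 5, 4, 5, 4, 5, 4],
  [0],
  [1],
  [6]]

/-- a word for an element `t` of order 7 -/
def tw : List ℕ := [3, 4, 5, 6, 3, 4, 5, 6]

/-- a generator of the normaliser of `⟨t⟩` -/
def bw0 : List ℕ := [3, 4, 3, 6]

/-- a generator of the normaliser of `⟨t⟩` -/
def bw1 : List ℕ := [2, 3, 4, 5, 6, 5, 4, 3, 5, 4, 7, 5, 6, 5, 4, 5, 3, 4, 2]

/-- conjugating words with `t = [u t⁴ u⁻¹, v t v⁻¹]` -/
def uw : List ℕ := [5, 2]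

/-- conjugating words with `t = [u t⁴ u⁻¹, v t v⁻¹]` -/
def vw : List ℕ := [7, 4]

/-- level 1: words fixing the earlier base points -/
def cw1 : List (List ℕ) := [
  [3, 4, 3, 6],
  [2, 3, 4, 5, 6, 5, 4, 3, 5, 4, 7, 5, 6, 5, 4, 5, 3, 4, 2]]

/-- level 1: orbit tree with root 5, 343 points -/
def ct1 : List (ℕ × ℕ × ℕ) := [
  (45, 5, 1), (6, 45, 0), (401, 45, 1), (429, 6, 1), (452, 401, 0), (211, 401, 1), (433, 429, 0),
  (68, 429, 1), (219, 452, 1), (379, 211, 0), (158, 211, 1), (22, 433, 1), (70, 68, 0), (445, 68, 1),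
  (221, 219, 0), (270, 219, 1), (212, 379, 1), (83, 158, 0), (405, 158, 1), (21, 22, 0), (430, 22, 1),
  (440, 70, 1), (409, 445, 0), (246, 445, 1), (77, 221, 1), (274, 270, 0), (1, 270, 1), (51, 212, 0),
  (276, 212, 1), (247, 83, 1), (392, 405, 0), (65, 405, 1), (375, 21, 1), (432, 430, 0), (148, 430, 1),
  (411, 440, 0), (124, 440, 1), (144, 409, 1), (406, 246, 0), (82, 246, 1), (95, 77, 0), (312, 77, 1),
  (23, 274, 1), (80, 1, 0), (179, 1, 1), (313, 51, 1), (96, 276, 0), (20, 276, 1), (199, 247, 1),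
  (54, 392, 1), (230, 65, 0), (410, 65, 1), (450, 375, 0), (87, 375, 1), (152, 432, 1), (147, 148, 0),
  (267, 148, 1), (176, 411, 1), (29, 124, 0), (12, 124, 1), (73, 144, 0), (275, 144, 1), (162, 406, 1),
  (35, 82, 0), (293, 82, 1), (277, 95, 1), (280, 312, 0), (97, 312, 1), (107, 23, 1), (106, 80, 1),
  (265, 179, 0), (260, 179, 1), (281, 313, 0), (118, 313, 1), (69, 96, 1), (88, 20, 0), (109, 199, 0),
  (205, 199, 1), (44, 54, 0), (168, 54, 1), (425, 230, 1), (333, 410, 0), (254, 410, 1), (160, 450, 1),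
  (31, 87, 0), (426, 87, 1), (420, 152, 0), (252, 152, 1), (146, 147, 1), (418, 267, 0), (150, 267, 1),
  (224, 176, 0), (321, 176, 1), (7, 29, 1), (47, 12, 0), (10, 12, 1), (303, 73, 1), (279, 275, 0),
  (32, 275, 1), (291, 162, 0), (57, 162, 1), (306, 35, 1), (305, 293, 0), (151, 293, 1), (319, 277, 0),
  (177, 277, 1), (196, 280, 1), (171, 97, 0), (201, 107, 0), (202, 107, 1), (100, 106, 0), (11, 106, 1),
  (330, 260, 0), (193, 260, 1), (119, 281, 1), (390, 118, 1), (142, 69, 0), (315, 69, 1), (89, 88, 1),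
  (227, 109, 1), (355, 205, 0), (130, 44, 1), (238, 168, 0), (448, 168, 1), (307, 425, 0), (216, 425, 1),
  (139, 333, 1), (337, 254, 0), (143, 254, 1), (81, 160, 0), (4, 160, 1), (172, 31, 1), (358, 426, 1),
  (133, 420, 1), (2, 252, 1), (149, 418, 1), (298, 150, 1), (399, 321, 0), (19, 321, 1), (37, 7, 1),
  (42, 47, 1), (50, 10, 0), (138, 10, 1), (242, 303, 0), (49, 303, 1), (90, 279, 1), (71, 32, 0),
  (241, 32, 1), (60, 291, 1), (99, 57, 1), (361, 306, 1), (273, 305, 1), (268, 151, 0), (402, 151, 1),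
  (123, 319, 1), (244, 196, 0), (183, 196, 1), (357, 202, 0), (93, 202, 1), (126, 100, 1), (253, 11, 1),
  (250, 330, 1), (113, 193, 0), (115, 119, 0), (344, 390, 0), (86, 390, 1), (318, 315, 0), (346, 315, 1),
  (58, 89, 0), (209, 89, 1), (323, 227, 0), (339, 227, 1), (34, 130, 0), (236, 130, 1), (366, 448, 0),
  (372, 448, 1), (53, 307, 1), (228, 216, 0), (314, 216, 1), (389, 139, 0), (128, 139, 1), (134, 337, 1),
  (327, 143, 0), (226, 143, 1), (127, 4, 1), (180, 172, 0), (140, 172, 1), (39, 358, 1), (206, 133, 0),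
  (229, 133, 1), (3, 2, 0), (36, 149, 0), (249, 149, 1), (16, 298, 1), (26, 399, 1), (17, 19, 1),
  (41, 37, 0), (137, 37, 1), (63, 42, 1), (255, 50, 1), (72, 138, 0), (103, 242, 1), (112, 49, 0),
  (350, 49, 1), (178, 90, 0), (335, 90, 1), (163, 71, 1), (120, 60, 1), (185, 99, 0), (367, 361, 0),
  (336, 361, 1), (423, 273, 0), (421, 402, 0), (343, 402, 1), (320, 123, 0), (263, 244, 1), (8, 357, 1),
  (27, 93, 0), (386, 93, 1), (234, 253, 0), (220, 253, 1), (257, 250, 0), (292, 113, 1), (78, 115, 1),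
  (240, 344, 1), (413, 318, 1), (283, 58, 1), (111, 209, 1), (261, 323, 1), (310, 339, 0), (442, 339, 1),
  (381, 34, 1), (397, 236, 0), (135, 236, 1), (285, 372, 0), (62, 372, 1), (61, 53, 0), (369, 53, 1),
  (341, 228, 1), (424, 314, 0), (125, 314, 1), (391, 389, 1), (131, 128, 0), (282, 128, 1), (101, 134, 1),
  (91, 327, 1), (325, 226, 0), (245, 127, 0), (184, 127, 1), (114, 39, 1), (382, 206, 1), (398, 229, 0),
  (186, 229, 1), (194, 36, 1), (258, 249, 0), (13, 16, 0), (297, 16, 1), (28, 26, 0), (362, 26, 1),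
  (74, 137, 0), (286, 137, 1), (368, 63, 1), (207, 103, 0), (198, 112, 1), (446, 350, 0), (455, 335, 0),
  (259, 335, 1), (385, 163, 1), (322, 423, 1), (208, 421, 1), (33, 343, 1), (316, 263, 1), (52, 8, 0),
  (235, 386, 0), (256, 386, 1), (225, 234, 1), (384, 220, 1), (161, 292, 0), (79, 78, 0), (284, 78, 1),
  (304, 240, 0), (218, 413, 1), (213, 283, 0), (40, 283, 1), (192, 111, 1), (182, 261, 0), (439, 310, 1),
  (415, 442, 0), (351, 381, 1), (347, 397, 1), (56, 285, 1), (43, 62, 0), (122, 62, 1), (237, 369, 0),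
  (428, 369, 1), (231, 341, 1), (117, 424, 1), (378, 125, 0), (64, 125, 1), (25, 391, 1), (210, 131, 1),
  (85, 282, 0), (104, 101, 0), (222, 101, 1), (197, 91, 1), (262, 245, 1), (380, 382, 0), (181, 398, 1),
  (334, 186, 0), (388, 194, 1), (167, 13, 1), (294, 297, 0), (15, 297, 1), (453, 368, 1), (153, 207, 1),
  (110, 198, 0), (84, 446, 1), (98, 259, 0), (364, 259, 1), (377, 385, 0), (272, 322, 1), (233, 208, 0),
  (75, 33, 0), (317, 316, 0), (345, 235, 1), (175, 225, 0), (302, 284, 0), (217, 218, 0), (326, 192, 1),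
  (94, 439, 1), (204, 351, 0), (173, 347, 1), (59, 56, 0), (311, 237, 1), (436, 428, 0), (116, 117, 0),
  (14, 25, 0), (157, 210, 1), (239, 167, 0), (271, 110, 1), (136, 157, 1), (419, 271, 1)]

/-- level 2: words fixing the earlier base points -/
def cw2 : List (List ℕ) := [
  [3, 4, 3, 6],
  [2, 4, 3, 5, 4, 5, 6, 5, 7, 4, 5, 3, 4, 5, 6, 5, 4, 3, 2, 2, 4, 3, 5, 4, 5, 6, 5, 7, 4, 5, 3, 4, 5, 6, 5, 4, 3, 2, 6, 3, 4, 3, 2, 4, 3, 5, 4, 5, 6, 5, 7, 4, 5, 3, 4, 5, 6, 5, 4, 3, 2, 6, 3, 4, 3, 2, 3, 4, 5, 6, 5, 4, 3, 5, 4, 7, 5, 6, 5, 4, 5, 3, 4, 2, 3, 4, 3, 6, 2, 3, 4, 5, 6, 5, 4, 3, 5, 4, 7, 5, 6, 5, 4, 5, 3, 4, 2, 2, 3, 4, 5, 6, 5, 4, 3, 5, 4, 7, 5, 6, 5, 4, 5, 3, 4, 2, 2, 3, 4, 5, 6, 5, 4, 3, 5, 4, 7, 5, 6, 5, 4, 5, 3, 4, 2, 3, 4, 3, 6, 2, 3, 4, 5, 6, 5, 4, 3, 5, 4, 7, 5, 6, 5, 4, 5, 3, 4, 2, 2, 3, 4, 5, 6, 5, 4, 3, 5, 4, 7, 5, 6, 5, 4, 5, 3, 4, 2, 2, 3, 4, 5, 6, 5, 4, 3, 5,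 4, 7, 5, 6, 5, 4, 5, 3, 4, 2, 2, 3, 4, 5, 6, 5, 4, 3, 5, 4, 7, 5, 6, 5, 4, 5, 3, 4, 2]]

/-- level 2: orbit tree with root 9, 12 points -/
def ct2 : List (ℕ × ℕ × ℕ) := [
  (394, 9, 1), (393, 394, 0), (48, 394, 1), (359, 393, 1), (67, 48, 1), (18, 359, 1), (328, 67, 1),
  (329, 18, 1), (266, 328, 1), (76, 329, 1), (105, 266, 1)]

/-- level 3: words fixing the earlier base points -/
def cw3 : List (List ℕ) := [
  [3, 4, 3, 6]]

/-- level 3: orbit tree with root 1, 2 points -/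
def ct3 : List (ℕ × ℕ × ℕ) := [
  (80, 1, 0)]

/-- maximality data for the normaliser of `⟨t⟩` in `⟨a, …, f⟩` -/
def MDB : List (List ℕ × List (ℕ × ℕ)) := [
  ([], []),
  ([2], [(0, 0), (4, 0), (16, 0)]),
  ([5, 2], [(0, 0), (18, 0), (38, 0)]),
  ([4, 3, 2], [(0, 0), (24, 0), (38, 0)])]

/-- maximality data for `⟨a, …, f⟩` -/
def MDG : List (List ℕ × List (ℕ × ℕ)) := [
  ([], []),
  ([0], [(0, 0), (2, 0), (3, 0), (10, 0)]),
  ([0, 3, 0], [(0, 0), (22, 1), (51, 0), (88, 1)]),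
  ([0, 4, 0], [(0, 0), (16, 0), (27, 0), (36, 0)]),
  ([0, 5, 3, 0], [(0, 0), (32, 0), (36, 1), (40, 0)])]

end Cfsg.Agent.Lib.Helper39.ONOrd
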