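import Cfsg.Agent.Lib.Helper39.ONSD0

set_option maxRecDepth 100000
set_option maxHeartbeats 0

namespace Cfsg.Agent.Lib.Helper39.ONS
open Cfsg.Agent.Lib.Helper38

noncomputable def rTRoot : BT := .node 1056 (.node 528 (.node 272 (.node 144 (.node 80 (.node 48 (.node 32 (.node 16 (rT0) (rT1)) (rT2)) (.node 64 (rT3) (rT4))) (.node 112 (.node 96 (rT5) (rT6)) (.node 128 (rT7) (rT8)))) (.node 208 (.node 176 (.node 160 (rT9) (rT10)) (.node 192 (rT11) (rT12))) (.node 240 (.node 224 (rT13) (rT14)) (.node 256 (rT15) (rT16))))) (.node 400 (.node 336 (.node 304 (.node 288 (rT17) (rT18)) (.node 320 (rT19) (rT20))) (.node 368 (.node 352 (rT21) (rT22)) (.node 384 (rT23) (rT24)))) (.node 464 (.node 432 (.node 416 (rT25) (rT26)) (.node 448 (rT27) (rT28))) (.node 496 (.node 480 (rT29) (rT30)) (.node 512 (rT31) (rT32)))))) (.node 800 (.node 672 (.node 608 (.node 576 (.node 560 (.node 544 (rT33) (rT34)) (rT35)) (.node 592 (rT36) (rT37))) (.node 640 (.node 624 (rT38) (rT39)) (.node 656 (rT40) (rT41)))) (.node 736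 (.node 704 (.node 688 (rT42) (rT43)) (.node 720 (rT44) (rT45))) (.node 768 (.node 752 (rT46) (rT47)) (.node 784 (rT48) (rT49))))) (.node 928 (.node 864 (.node 832 (.node 816 (rT50) (rT51)) (.node 848 (rT52) (rT53))) (.node 896 (.node 880 (rT54) (rT55)) (.node 912 (rT56) (rT57)))) (.node 992 (.node 960 (.node 944 (rT58) (rT59)) (.node 976 (rT60) (rT61))) (.node 1024 (.node 1008 (rT62) (rT63)) (.node 1040 (rT64) (rT65))))))) (.node 1584 (.node 1328 (.node 1200 (.node 1136 (.node 1104 (.node 1088 (.node 1072 (rT66) (rT67)) (rT68)) (.node 1120 (rT69) (rT70))) (.node 1168 (.node 1152 (rT71) (rT72)) (.node 1184 (rT73) (rT74)))) (.node 1264 (.node 1232 (.node 1216 (rT75) (rT76)) (.node 1248 (rT77) (rT78))) (.node 1296 (.node 1280 (rT79) (rT80)) (.node 1312 (rT81) (rT82))))) (.node 1456 (.node 1392 (.node 1360 (.node 1344 (rT83) (rT84)) (.node 1376 (rT85) (rT86))) (.node 1424 (.node 1408 (rT87) (rT88)) (.node 1440 (rT89) (rT90)))) (.node 1520 (.node 1488 (.node 1472 (rT91) (rT92)) (.node 1504 (rT93)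 (rT94))) (.node 1552 (.node 1536 (rT95) (rT96)) (.node 1568 (rT97) (rT98)))))) (.node 1840 (.node 1712 (.node 1648 (.node 1616 (.node 1600 (rT99) (rT100)) (.node 1632 (rT101) (rT102))) (.node 1680 (.node 1664 (rT103) (rT104)) (.node 1696 (rT105) (rT106)))) (.node 1776 (.node 1744 (.node 1728 (rT107) (rT108)) (.node 1760 (rT109) (rT110))) (.node 1808 (.node 1792 (rT111) (rT112)) (.node 1824 (rT113) (rT114))))) (.node 1968 (.node 1904 (.node 1872 (.node 1856 (rT115) (rT116)) (.node 1888 (rT117) (rT118))) (.node 1936 (.node 1920 (rT119) (rT120)) (.node 1952 (rT121) (rT122)))) (.node 2032 (.node 2000 (.node 1984 (rT123) (rT124)) (.node 2016 (rT125) (rT126))) (.node 2064 (.node 2048 (rT127) (rT128)) (.node 2080 (rT129) (rT130)))))))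
noncomputable def nTRoot : BT := .node 176 (.node 96 (.node 48 (.node 32 (.node 16 (nT0) (nT1)) (nT2)) (.node 80 (.node 64 (nT3) (nT4)) (nT5))) (.node 144 (.node 128 (.node 112 (nT6) (nT7)) (nT8)) (.node 160 (nT9) (nT10)))) (.node 272 (.node 224 (.node 208 (.node 192 (nT11) (nT12)) (nT13)) (.node 256 (.node 240 (nT14) (nT15)) (nT16))) (.node 320 (.node 304 (.node 288 (nT17) (nT18)) (nT19)) (.node 336 (nT20) (nT21))))

/-- the certificate -/
noncomputable def cert : Cert where
  g := 8
  m := 16766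
  n := 5586
  R := 39279
  fuel := 3
  nw := 31
  nrel := 18
  nsub := 26
  lg := 3
  lmask := 7
  rW := 538
  eW := 58
  mv := 32767
  mr := 65535
  mw := 31
  mt := 31
  ml := 7
  oR := 15
  oK := 31
  oW := 33
  oT := 38
  oU := 43
  oM := 464
  oMR := 479
  oMW := 495
  oMT := 500
  oMU := 505
  oP := 520
  oL := 535
  rows := rTRoot
  wW := 53
  wt := 5
  wl := 3
  WD := 0x384000000000014200000000000810000000000030800000000001040000000000fc400000000006c200000000002d10000000000120800000000006c400000000002420000000000091000000000000080000000000042000000000000100002596597a500000001f7df18000000003df4800000006baea6000000000f3c200000000069a12cb2cb2cb2cb20000000001df64000000000cf320000000005759000000008e38cc000000001d744000000000cb22000000000555100000000022888000000034d346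
  lgN := 4
  lmaskN := 15
  nW := 183
  wv := 15
  oCan := 120
  oPN := 135
  oLN := 150
  oComp := 153
  mc := 31
  oOP := 158
  oOW := 173
  oOD := 178
  md := 15
  oODir := 182
  ncomp := 24
  ROOTS := 0x2b4c44648048fad1ee0147021e03fc07820e4c19682c3052009a411c80f6019001cc0368030001c00240008000
  nrows := nTRoot

end Cfsg.Agent.Lib.Helper39.ONS
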