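import Cfsg.Agent.Lib.Helper39.OrdCore

/-!
Orders and simplicity of groups presented by involutions, from verified coset-enumeration
certificates: words and orbit trees on the final table of a certificate.
-/

namespace Cfsg.Agent.Lib.Helper39.Ord

open Cfsg.Agent.Lib.Helper38

section Gen

variable {G : Type*} [Group G]

/-- the subgroup generated by the first `k` generators -/
def Sk (γ : ℕ → G) (k : ℕ) : Subgroup G := Subgroup.closure (γ '' {s | s < k})

theorem Sk_zero (γ : ℕ → G) : Sk γ 0 = ⊥ := by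
  unfold Sk
  rw [Subgroup.closure_eq_bot_iff]
  rintro _ ⟨s, hs, -⟩
  exact absurd hs (Nat.not_lt_zero s)

theorem Sk_mono (γ : ℕ → G) {k' k : ℕ} (h : k' ≤ k) : Sk γ k' ≤ Sk γ k := by
  apply Subgroup.closure_mono
  rintro _ ⟨s, hs, rfl⟩
  exact ⟨s, lt_of_lt_of_le hs h, rfl⟩

theorem gen_mem_Sk (γ : ℕ → G) {s k : ℕ} (h : s < k) : γ s ∈ Sk γ k :=
  Subgroup.subset_closure ⟨s, h, rfl⟩

theorem word_mem_Sk (γ : ℕ → G) {k : ℕ} : ∀ (w : List ℕ), (∀ s ∈ w, s < k) →
    (w.map γ).prod ∈ Sk γ k
  | [], _ => by simp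
  | a :: w, h => by
    rw [List.map_cons, List.prod_cons]
    exact mul_mem (gen_mem_Sk γ (h a List.mem_cons_self))
      (word_mem_Sk γ w (fun s hs => h s (List.mem_cons_of_mem _ hs)))

/-- if the subgroup words of the certificate are the first `k` letters, the subgroup is `Sk γ k` -/
theorem subgp_eq_Sk {C : Cert} {γ : ℕ → G} {H : Subgroup G} (hP : Cert.Pres C γ H) (k : ℕ)
    (hnw : C.nw = C.nsub + k) (hw : ∀ j < k, C.wordL (C.nsub + j) = [j]) : H = Sk γ k := by
  rw [hP.hH]
  unfold Sk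
  congr 1
  ext x
  constructor
  · rintro ⟨wid, h1, h2, rfl⟩
    obtain ⟨j, rfl⟩ := Nat.exists_eq_add_of_le h1
    have hj : j < k := by omega
    refine ⟨j, hj, ?_⟩
    rw [hw j hj]
    simp
  · rintro ⟨j, hj', rfl⟩
    have hj : j < k := hj'
    refine ⟨C.nsub + j, Nat.le_add_right _ _, by omega, ?_⟩
    rw [hw j hj]
    simp

end Gen

/-- image of the class `c` under the word `w` (the last letter acts first); `C.n` on failure -/
noncomputable def ev (C : Cert) (w : List ℕ) (c : ℕ) : ℕ := w.foldr (fun s c => C.pstep c s) c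

theorem ev_cons (C : Cert) (s : ℕ) (w : List ℕ) (c : ℕ) :
    ev C (s :: w) c = C.pstep (ev C w c) s := rfl

theorem pstep_lt {C : Cert} {c s : ℕ} (h : C.pstep c s < C.n) :
    c < C.n ∧ s < C.g ∧ C.pstep c s = C.tn c s := by
  by_cases hc : c < C.n ∧ s < C.g
  · refine ⟨hc.1, hc.2, ?_⟩
    unfold Cert.pstep; rw [sel_eq_ite, if_pos]; rw [band_iff, blt_iff, blt_iff]; exact hc
  · have e : C.pstep c s = C.n := by
      unfold Cert.pstep; rw [sel_eq_ite, if_neg]; rw [band_iff, blt_iff, blt_iff]; exact hc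
    rw [e] at h
    exact absurd h (lt_irrefl _)

/-- a labelling of the points of a `G`-set by the classes of a certificate, compatible with the
final table -/
structure TAct (C : Cert) {G : Type*} [Group G] (γ : ℕ → G) {X : Type*} [MulAction G X]
    (F : ℕ → X) : Prop where
  step : ∀ c < C.n, ∀ s < C.g, γ s • F c = F (C.tn c s)
  lt : ∀ c < C.n, ∀ s < C.g, C.tn c s < C.n
  inj : ∀ c1 < C.n, ∀ c2 < C.n, F c1 = F c2 → c1 = c2
  surj : ∀ x : X, ∃ c < C.n, F c = x

section Act

variable {C : Cert} {G : Type*} [Group G] {γ : ℕ → G}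

/-- the cosets of the subgroup of a certificate -/
theorem tact_of {H : Subgroup G} (hP : Cert.Pres C γ H) (hC : Cert.Checks C) :
    TAct C γ (C.F γ H) := by
  obtain ⟨φ, hφ⟩ := hP.hφ
  have hH0 := Cert.phi_fix hP hC φ hφ
  have hInv := Cert.hInv_of hC
  refine ⟨fun c hc s hs => Cert.F_step hP hC hc hs, fun c hc s hs => (C.σ_of_lt hInv hs hc).2,
    ?_, Cert.F_surj hP hC⟩
  intro c1 h1 c2 h2 h
  have h3 := congrArg (Cert.psi φ hH0) h
  rw [Cert.psi_F hP hC φ hφ hH0 c1 h1, Cert.psi_F hP hC φ hφ hH0 c2 h2] at h3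
  exact h3

variable {X : Type*} [MulAction G X] {F : ℕ → X}

theorem ev_smul (hA : TAct C γ F) : ∀ (w : List ℕ) (c : ℕ), c < C.n → ev C w c < C.n →
    (w.map γ).prod • F c = F (ev C w c)
  | [], c, _, _ => by simp [ev]
  | s :: w, c, hc, h => by
    rw [ev_cons] at h ⊢
    obtain ⟨h1, h2, h3⟩ := pstep_lt h
    rw [List.map_cons, List.prod_cons, mul_smul, ev_smul hA w c hc h1, hA.step _ h1 _ h2, h3]

/-- the word `w` fixes the class `p` -/
noncomputable def fixB (C : Cert) (w : List ℕ) (p : ℕ) : Bool :=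
  band (Nat.blt p C.n) (Nat.beq (ev C w p) p)

theorem fix_of (hA : TAct C γ F) {w : List ℕ} {p : ℕ} (h : fixB C w p = true) :
    (w.map γ).prod • F p = F p := by
  unfold fixB at h
  rw [band_iff, blt_iff, beq_iff] at h
  have h2 := ev_smul hA w p h.1 (by rw [h.2]; exact h.1)
  rw [h.2] at h2
  exact h2

/-- the first `k'` generators fix the class `root` -/
theorem Sk_fix (hA : TAct C γ F) {k' root : ℕ} (hk' : k' ≤ C.g) (hroot : root < C.n)
    (hfix : ∀ s < k', C.tn root s = root) : ∀ x ∈ Sk γ k', x • F root = F root := by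
  intro x hx
  induction hx using Subgroup.closure_induction with
  | mem y hy =>
    obtain ⟨s, hs, rfl⟩ := hy
    rw [hA.step _ hroot _ (lt_of_lt_of_le hs hk'), hfix s hs]
  | one => exact one_smul _ _
  | mul a b _ _ ha hb => rw [mul_smul, hb, ha]
  | inv a _ ha =>
    calc a⁻¹ • F root = a⁻¹ • (a • F root) := by rw [ha]
      _ = F root := inv_smul_smul a _

/-! ### Orbit trees -/

/-- an orbit tree: the entries `(c, p, s)` say that the new class `c` is the image of the earlier
class `p` under the generator `s < k` -/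
noncomputable def chkTreeL (C : Cert) (k : ℕ) : List (ℕ × ℕ × ℕ) → List ℕ → Bool
  | [], _ => true
  | (c, p, s) :: L, seen =>
    band (seen.contains p) (band (Nat.blt s k) (band (Nat.beq (C.tn p s) c)
      (band (!seen.contains c) (chkTreeL C k L (c :: seen)))))

theorem chkTreeL_sound (hA : TAct C γ F) (k root : ℕ) (hk : k ≤ C.g) :
    ∀ (L : List (ℕ × ℕ × ℕ)) (seen : List ℕ), chkTreeL C k L seen = true → seen.Nodup →
      (∀ c ∈ seen, c < C.n ∧ F c ∈ MulAction.orbit (Sk γ k) (F root)) →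
      ∃ fin : List ℕ, fin.Nodup ∧ fin.length = seen.length + L.length ∧
        ∀ c ∈ fin, c < C.n ∧ F c ∈ MulAction.orbit (Sk γ k) (F root)
  | [], seen, _, hnd, hs => ⟨seen, hnd, by simp, hs⟩
  | (c, p, s) :: L, seen, h, hnd, hs => by
    unfold chkTreeL at h
    simp only [band_iff, blt_iff, beq_iff] at h
    obtain ⟨h1, h2, h3, h4, h5⟩ := h
    have hp : p ∈ seen := by simpa using h1
    have hc : c ∉ seen := by simpa using h4
    obtain ⟨hpn, hpo⟩ := hs p hp
    have hsg : s < C.g := lt_of_lt_of_le h2 hk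
    have hcn : c < C.n := by rw [← h3]; exact hA.lt p hpn s hsg
    have hco : F c ∈ MulAction.orbit (Sk γ k) (F root) := by
      have e : F c = (⟨γ s, gen_mem_Sk γ h2⟩ : Sk γ k) • F p := by
        show F c = γ s • F p
        rw [hA.step p hpn s hsg, h3]
      rw [e]
      exact MulAction.mem_orbit_of_mem_orbit _ hpo
    obtain ⟨fin, f1, f2, f3⟩ := chkTreeL_sound hA k root hk L (c :: seen) h5
      (List.nodup_cons.mpr ⟨hc, hnd⟩) (by
        intro c' hc'
        rcases List.mem_cons.mp hc' with rfl | hc'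
        · exact ⟨hcn, hco⟩
        · exact hs c' hc')
    refine ⟨fin, f1, ?_, f3⟩
    rw [f2]
    simp only [List.length_cons]
    omega

/-- an orbit tree gives a lower bound for the length of the orbit -/
theorem tree_orbit [Finite X] (hA : TAct C γ F) (k root : ℕ) (hk : k ≤ C.g) (hroot : root < C.n)
    (L : List (ℕ × ℕ × ℕ)) (h : chkTreeL C k L [root] = true) :
    L.length + 1 ≤ (MulAction.orbit (Sk γ k) (F root)).ncard := by
  classical
  obtain ⟨fin, f1, f2, f3⟩ := chkTreeL_sound hA k root hk L [root] h (List.nodup_singleton _) (by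
    intro c hc
    rw [List.mem_singleton] at hc
    subst hc
    exact ⟨hroot, MulAction.mem_orbit_self _⟩)
  have hsub : ((fin.toFinset.image F : Finset X) : Set X) ⊆ MulAction.orbit (Sk γ k) (F root) := by
    intro x hx
    rw [Finset.mem_coe, Finset.mem_image] at hx
    obtain ⟨c, hc, rfl⟩ := hx
    exact (f3 c (List.mem_toFinset.mp hc)).2
  have hcard : (fin.toFinset.image F).card = L.length + 1 := by
    rw [Finset.card_image_of_injOn, List.toFinset_card_of_nodup f1, f2]
    · simp; omega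
    · intro a ha b hb hab
      exact hA.inj a (f3 a (List.mem_toFinset.mp ha)).1 b (f3 b (List.mem_toFinset.mp hb)).1 hab
  have h2 := Set.ncard_le_ncard hsub (Set.toFinite _)
  rw [Set.ncard_coe_finset, hcard] at h2
  exact h2

/-- lower bound for the order of `Sk γ k` from an orbit tree -/
theorem lb_tree [Finite G] [Finite X] (hA : TAct C γ F) (k root : ℕ) (hk : k ≤ C.g)
    (hroot : root < C.n) (L : List (ℕ × ℕ × ℕ)) (h : chkTreeL C k L [root] = true)
    (k' : ℕ) (hk' : k' ≤ k) (hfix : ∀ s < k', C.tn root s = root) {n M : ℕ}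
    (hn : L.length + 1 = n) (hK : M ≤ Nat.card (Sk γ k')) : n * M ≤ Nat.card (Sk γ k) := by
  subst hn
  exact lb_step' (Sk γ k) (Sk γ k') (Sk_mono γ hk') (F root)
    (Sk_fix hA (hk'.trans hk) hroot hfix) (tree_orbit hA k root hk hroot L h) hK

/-- if the bound is attained, the stabiliser of the root in `Sk γ k` is `Sk γ k'` -/
theorem ex_tree [Finite G] [Finite X] (hA : TAct C γ F) (k root : ℕ) (hk : k ≤ C.g)
    (hroot : root < C.n) (L : List (ℕ × ℕ × ℕ)) (h : chkTreeL C k L [root] = true)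
    (k' : ℕ) (hk' : k' ≤ k) (hfix : ∀ s < k', C.tn root s = root) {n M : ℕ}
    (hn : L.length + 1 = n) (hK : M ≤ Nat.card (Sk γ k')) (hS : Nat.card (Sk γ k) ≤ n * M) :
    Nat.card (Sk γ k') = M ∧ ∀ g ∈ Sk γ k, g • F root = F root → g ∈ Sk γ k' := by
  subst hn
  exact level (Sk γ k) (Sk γ k') (Sk_mono γ hk') (F root)
    (Sk_fix hA (hk'.trans hk) hroot hfix) (Nat.succ_pos _) (tree_orbit hA k root hk hroot L h) hK hS

end Act

end Cfsg.Agent.Lib.Helper39.Ord
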