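import Cfsg.Agent.Lib.Helper38.CosetSimple

/-!
Orders and simplicity of groups presented by involutions, from verified coset-enumeration
certificates: pure group theory (orbit-stabiliser steps, a hand version of Iwasawa's criterion).
-/

namespace Cfsg.Agent.Lib.Helper39.Ord

open Cfsg.Agent.Lib.Helper38

section Pure

variable {G : Type*} [Group G]

theorem orbit_mul_stab {X : Type*} [MulAction G X] (S : Subgroup G) (x : X) :
    (MulAction.orbit S x).ncard * Nat.card (MulAction.stabilizer S x) = Nat.card S := by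
  rw [← MulAction.index_stabilizer]
  exact Subgroup.index_mul_card _

/-- the map of a subgroup fixing `x` into the stabiliser -/
def toStab {X : Type*} [MulAction G X] (S K : Subgroup G) (hKS : K ≤ S) (x : X)
    (hfix : ∀ k ∈ K, k • x = x) : K → MulAction.stabilizer S x :=
  fun k => ⟨⟨k.1, hKS k.2⟩, hfix k.1 k.2⟩

theorem toStab_inj {X : Type*} [MulAction G X] (S K : Subgroup G) (hKS : K ≤ S) (x : X)
    (hfix : ∀ k ∈ K, k • x = x) : Function.Injective (toStab S K hKS x hfix) := by
  intro a b hab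
  have h1 : ((toStab S K hKS x hfix a : MulAction.stabilizer S x) : S) =
      ((toStab S K hKS x hfix b : MulAction.stabilizer S x) : S) := congrArg Subtype.val hab
  have h2 : (a : G) = (b : G) := congrArg (fun t : S => (t : G)) h1
  exact Subtype.ext h2

/-- lower bound for the order of `S` from an orbit and a subgroup of the stabiliser -/
theorem lb_step' [Finite G] {X : Type*} [MulAction G X] (S K : Subgroup G) (hKS : K ≤ S) (x : X)
    (hfix : ∀ k ∈ K, k • x = x) {n M : ℕ} (hn : n ≤ (MulAction.orbit S x).ncard)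
    (hK : M ≤ Nat.card K) : n * M ≤ Nat.card S := by
  rw [← orbit_mul_stab S x]
  exact Nat.mul_le_mul hn
    (hK.trans (Nat.card_le_card_of_injective _ (toStab_inj S K hKS x hfix)))

/-- if the bound is attained, the subgroup is the whole stabiliser -/
theorem level [Finite G] {X : Type*} [MulAction G X] (S K : Subgroup G) (hKS : K ≤ S) (x : X)
    (hfix : ∀ k ∈ K, k • x = x) {n M : ℕ} (hn0 : 0 < n) (hn : n ≤ (MulAction.orbit S x).ncard)
    (hK : M ≤ Nat.card K) (hS : Nat.card S ≤ n * M) :
    Nat.card K = M ∧ ∀ g ∈ S, g • x = x → g ∈ K := by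
  have h1 := orbit_mul_stab S x
  have h2 := Nat.card_le_card_of_injective _ (toStab_inj S K hKS x hfix)
  have h3 : n * Nat.card (MulAction.stabilizer S x) ≤ n * M := by
    calc n * Nat.card (MulAction.stabilizer S x)
        ≤ (MulAction.orbit S x).ncard * Nat.card (MulAction.stabilizer S x) :=
          Nat.mul_le_mul_right _ hn
      _ = Nat.card S := h1
      _ ≤ n * M := hS
  have h4 : Nat.card (MulAction.stabilizer S x) ≤ M := Nat.le_of_mul_le_mul_left h3 hn0
  have h5 : Nat.card K = M := le_antisymm (h2.trans h4) hK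
  refine ⟨h5, ?_⟩
  have hbij := (toStab_inj S K hKS x hfix).bijective_of_nat_card_le (by rw [h5]; exact h4)
  intro g hg hgx
  obtain ⟨k, hk⟩ := hbij.2 (⟨⟨g, hg⟩, hgx⟩ : MulAction.stabilizer S x)
  have h6 : ((toStab S K hKS x hfix k : MulAction.stabilizer S x) : S) = ⟨g, hg⟩ :=
    congrArg Subtype.val hk
  have h7 : (k : G) = g := congrArg (fun t : S => (t : G)) h6
  rw [← h7]
  exact k.2

/-- a normal subgroup inside `H` fixes every coset of `H` -/
theorem normal_le_fix (N H : Subgroup G) [hN : N.Normal] (hNH : N ≤ H) {n : G} (hn : n ∈ N)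
    (q : G ⧸ H) : n • q = q := by
  refine QuotientGroup.induction_on q (fun g => ?_)
  rw [MulAction.Quotient.smul_mk, smul_eq_mul, QuotientGroup.eq]
  have h := hN.conj_mem n⁻¹ (inv_mem hn) g⁻¹
  rw [inv_inv] at h
  have e : (n * g)⁻¹ * g = g⁻¹ * n⁻¹ * g := by group
  rw [e]
  exact hNH h

/-- a subgroup which is transitive on a set has order divisible by the size of the set -/
theorem card_dvd_of_transitive {X : Type*} [MulAction G X] (N : Subgroup G) (x : X)
    (h : ∀ y : X, ∃ n ∈ N, n • x = y) : Nat.card X ∣ Nat.card N := by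
  have h1 := orbit_mul_stab N x
  have horb : MulAction.orbit N x = Set.univ := by
    rw [Set.eq_univ_iff_forall]
    intro y
    obtain ⟨n, hn, rfl⟩ := h y
    exact ⟨⟨n, hn⟩, rfl⟩
  rw [horb, Set.ncard_univ] at h1
  exact Dvd.intro _ h1

/-- a normal subgroup supplementing `H` has order divisible by the index of `H` -/
theorem index_dvd_of_sup_top (N H : Subgroup G) [hN : N.Normal] (h : N ⊔ H = ⊤) :
    H.index ∣ Nat.card N := by
  rw [Subgroup.index_eq_card]
  apply card_dvd_of_transitive N ((1 : G) : G ⧸ H)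
  intro q
  refine QuotientGroup.induction_on q (fun g => ?_)
  have hg : g ∈ N ⊔ H := by rw [h]; exact Subgroup.mem_top g
  obtain ⟨n, hn, k, hk, rfl⟩ := Subgroup.mem_sup_of_normal_left.mp hg
  refine ⟨n, hn, ?_⟩
  rw [MulAction.Quotient.smul_mk, smul_eq_mul, mul_one, QuotientGroup.eq]
  have e : n⁻¹ * (n * k) = k := by group
  rw [e]
  exact hk

/-- **Iwasawa's criterion**, by hand: a perfect group with a maximal subgroup `H` of trivial core
normalising a cyclic subgroup whose conjugates generate the group is simple. -/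
theorem simple_of_iwasawa [Nontrivial G] (H : Subgroup G)
    (hmax : ∀ M : Subgroup G, H ≤ M → M = H ∨ M = ⊤)
    (z : G) (hz : ∀ h ∈ H, h * z * h⁻¹ ∈ Subgroup.zpowers z)
    (hncl : Subgroup.normalClosure {z} = ⊤)
    (hperf : ∀ N : Subgroup G, N.Normal → (∀ a b : G, a * b * a⁻¹ * b⁻¹ ∈ N) → N = ⊤)
    (hcore : ∀ N : Subgroup G, N.Normal → N ≤ H → N = ⊥) : IsSimpleGroup G := by
  refine { toNontrivial := ‹Nontrivial G›, eq_bot_or_eq_top_of_normal := fun N hN => ?_ }
  rcases hmax (N ⊔ H) le_sup_right with hM | hM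
  · left
    exact hcore N hN (by rw [← hM]; exact le_sup_left)
  · right
    apply hperf N hN
    -- every conjugate of `z` lies in `N ⊔ zpowers z`
    have hconj : ∀ g : G, g * z * g⁻¹ ∈ N ⊔ Subgroup.zpowers z := by
      intro g
      have hg : g ∈ N ⊔ H := by rw [hM]; exact Subgroup.mem_top g
      obtain ⟨n, hn, k, hk, rfl⟩ := Subgroup.mem_sup_of_normal_left.mp hg
      have ha := hz k hk
      have e : n * k * z * (n * k)⁻¹ =
          (n * ((k * z * k⁻¹) * n⁻¹ * (k * z * k⁻¹)⁻¹)) * (k * z * k⁻¹) := by group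
      rw [e]
      exact Subgroup.mul_mem_sup (mul_mem hn (hN.conj_mem _ (inv_mem hn) _)) ha
    have htop : N ⊔ Subgroup.zpowers z = ⊤ := by
      rw [eq_top_iff, ← hncl]
      show Subgroup.closure (Group.conjugatesOfSet {z}) ≤ _
      rw [Subgroup.closure_le]
      intro x hx
      rw [Group.mem_conjugatesOfSet_iff] at hx
      obtain ⟨a, ha, hax⟩ := hx
      rw [Set.mem_singleton_iff] at ha
      subst ha
      obtain ⟨c, rfl⟩ := isConj_iff.mp hax
      exact hconj c
    have hcomm : ∀ a b : G, (QuotientGroup.mk a : G ⧸ N) * QuotientGroup.mk b =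
        QuotientGroup.mk b * QuotientGroup.mk a := by
      intro a b
      have ha : a ∈ N ⊔ Subgroup.zpowers z := by rw [htop]; exact Subgroup.mem_top a
      have hb : b ∈ N ⊔ Subgroup.zpowers z := by rw [htop]; exact Subgroup.mem_top b
      obtain ⟨n1, hn1, z1, hz1, rfl⟩ := Subgroup.mem_sup_of_normal_left.mp ha
      obtain ⟨n2, hn2, z2, hz2, rfl⟩ := Subgroup.mem_sup_of_normal_left.mp hb
      obtain ⟨i, rfl⟩ := Subgroup.mem_zpowers_iff.mp hz1
      obtain ⟨j, rfl⟩ := Subgroup.mem_zpowers_iff.mp hz2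
      have e1 : (QuotientGroup.mk n1 : G ⧸ N) = 1 := (QuotientGroup.eq_one_iff n1).mpr hn1
      have e2 : (QuotientGroup.mk n2 : G ⧸ N) = 1 := (QuotientGroup.eq_one_iff n2).mpr hn2
      rw [QuotientGroup.mk_mul, QuotientGroup.mk_mul, e1, e2, one_mul, one_mul,
        ← QuotientGroup.mk_mul, ← QuotientGroup.mk_mul, ← zpow_add, ← zpow_add, add_comm]
    intro a b
    rw [← QuotientGroup.eq_one_iff, QuotientGroup.mk_mul, QuotientGroup.mk_mul,
      QuotientGroup.mk_mul, hcomm a b, QuotientGroup.mk_inv, QuotientGroup.mk_inv]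
    group

end Pure

end Cfsg.Agent.Lib.Helper39.Ord
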