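import Cfsg.Agent.Lib.Helper39.OrdCert

/-!
Maximality of a subgroup with five orbits on its cosets, and subgroups normalising a cyclic
subgroup.
-/

namespace Cfsg.Agent.Lib.Helper39.Ord

open Cfsg.Agent.Lib.Helper38

/-- **Maximality (rank 5).** A subgroup with a point orbit and four further orbits on its cosets,
such that no proper union of orbits containing the point has a size dividing the index, is
maximal. -/
theorem maximal_of_rank5 {C : Cert} {G : Type*} [Group G] {γ : ℕ → G} {H : Subgroup G}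
    (hP : Cert.Pres C γ H) (hC : Cert.Checks C) (hO : Cert.OChecks C)
    (h5 : C.ncomp = 5) (h00 : C.comp 0 = 0) (c1 c2 c3 c4 : ℕ)
    (hc0 : C.cnt 0 = 1) (hc1 : C.cnt 1 = c1) (hc2 : C.cnt 2 = c2) (hc3 : C.cnt 3 = c3)
    (hc4 : C.cnt 4 = c4)
    (hdec : ∀ b1 b2 b3 b4 : Bool,
      (1 + (bif b1 then c1 else 0) + (bif b2 then c2 else 0) + (bif b3 then c3 else 0) +
        (bif b4 then c4 else 0)) ∣ C.n →
      (1 + (bif b1 then c1 else 0) + (bif b2 then c2 else 0) + (bif b3 then c3 else 0) +
        (bif b4 then c4 else 0) = 1) ∨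
      (1 + (bif b1 then c1 else 0) + (bif b2 then c2 else 0) + (bif b3 then c3 else 0) +
        (bif b4 then c4 else 0) = C.n))
    (M : Subgroup G) (hHM : H ≤ M) : M = H ∨ M = ⊤ := by
  classical
  obtain ⟨B, h0B, hBn, hB, hcard⟩ := Cert.overgroup_classes hP hC hO M hHM
  have hmaps : ((B : Finset ℕ) : Set ℕ).MapsTo C.comp (Finset.range 5) := by
    intro c hc
    rw [Finset.mem_coe] at hc
    rw [Finset.mem_coe, Finset.mem_range, ← h5]
    exact (Cert.chkO_spec hO (hBn c hc)).2.1
  have hfib : ∀ k, (B.filter (fun c => C.comp c = k)).card =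
      bif decide (∃ c ∈ B, C.comp c = k) then C.cnt k else 0 := by
    intro k
    by_cases hk : ∃ c ∈ B, C.comp c = k
    · rw [decide_eq_true hk, cond_true]
      obtain ⟨c, hc, rfl⟩ := hk
      show _ = C.cntUpTo _ C.n
      rw [C.cntUpTo_eq]
      congr 1
      ext c'
      simp only [Finset.mem_filter, Finset.mem_range]
      constructor
      · rintro ⟨a1, a2⟩; exact ⟨hBn c' a1, a2⟩
      · rintro ⟨a1, a2⟩; exact ⟨hB c hc c' a1 a2, a2⟩
    · rw [decide_eq_false hk, cond_false, Finset.card_eq_zero, Finset.filter_eq_empty_iff]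
      intro c hc hck
      exact hk ⟨c, hc, hck⟩
  have hsumB := Finset.card_eq_sum_card_fiberwise hmaps
  rw [Finset.sum_range_succ, Finset.sum_range_succ, Finset.sum_range_succ, Finset.sum_range_succ,
    Finset.sum_range_succ, Finset.sum_range_zero, hfib 0, hfib 1, hfib 2, hfib 3, hfib 4,
    decide_eq_true (⟨0, h0B, h00⟩ : ∃ c ∈ B, C.comp c = 0), cond_true, hc0, hc1, hc2, hc3, hc4,
    hcard, zero_add] at hsumB
  have hdvd : H.relIndex M ∣ C.n := by
    rw [← Cert.index_eq hP hC]; exact Subgroup.relIndex_dvd_index_of_le hHM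
  have hn : 0 < C.n := (C.chkG_spec hC.hG).2.2.1
  rw [hsumB] at hdvd
  rcases hdec _ _ _ _ hdvd with h | h
  · left
    rw [← hsumB] at h
    exact le_antisymm (Subgroup.relIndex_eq_one.mp h) hHM
  · right
    rw [← hsumB] at h
    have h4 := Subgroup.relIndex_mul_index hHM
    rw [Cert.index_eq hP hC, h] at h4
    have h5' : M.index = 1 := by
      have h6 : C.n * M.index = C.n * 1 := by rw [h4, mul_one]
      exact Nat.eq_of_mul_eq_mul_left hn h6
    exact Subgroup.index_eq_one.mp h5'

section Norm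

variable {G : Type*} [Group G]

/-- a subgroup generated by involutions which centralise or invert `z` normalises `⟨z⟩` -/
theorem conj_mem_zpowers_of_closure {T : Set G} {z : G}
    (hT : ∀ t ∈ T, t * t = 1 ∧ (t * z * t⁻¹ = z ∨ t * z * t⁻¹ = z⁻¹)) :
    ∀ h ∈ Subgroup.closure T, h * z * h⁻¹ ∈ Subgroup.zpowers z := by
  have hle : Subgroup.closure T ≤ Subgroup.normalizer (Subgroup.zpowers z : Set G) := by
    rw [Subgroup.closure_le]
    intro t ht
    obtain ⟨ht2, htz⟩ := hT t ht
    have htinv : t⁻¹ = t := inv_eq_of_mul_eq_one_left ht2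
    have key : ∀ x ∈ Subgroup.zpowers z, t * x * t⁻¹ ∈ Subgroup.zpowers z := by
      intro x hx
      obtain ⟨i, rfl⟩ := Subgroup.mem_zpowers_iff.mp hx
      have e : t * z ^ i * t⁻¹ = (t * z * t⁻¹) ^ i := by
        rw [conj_zpow]
      rw [e]
      rcases htz with h | h
      · rw [h]; exact zpow_mem (Subgroup.mem_zpowers z) i
      · rw [h]; exact zpow_mem (inv_mem (Subgroup.mem_zpowers z)) i
    rw [SetLike.mem_coe, Subgroup.mem_normalizer_iff]
    intro x
    constructor
    · exact key x
    · intro hx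
      have h2 := key _ hx
      have e : t * (t * x * t⁻¹) * t⁻¹ = x := by
        rw [htinv]
        calc t * (t * x * t) * t = (t * t) * x * (t * t) := by group
          _ = x := by rw [ht2, one_mul, mul_one]
      rw [e] at h2
      exact h2
  intro h hh
  exact (Subgroup.mem_normalizer_iff.mp (hle hh) z).mp (Subgroup.mem_zpowers z)

end Norm

end Cfsg.Agent.Lib.Helper39.Ord
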