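import Mathlib
import Cfsg.Agent.Lib.Helper44.PU3Defs

/-!
# PU3 project (helper44, S2784 + S2786): piece ARI (helper39)
-/

set_option autoImplicit false

namespace Cfsg.Agent.Lib.Helper44.PU3

open Matrix

theorem pu3_ari : ARIStmt := by
  intro p n r hp hn hr hdvd hprim
  have hq1 : 1 ≤ p ^ n := Nat.one_le_pow _ _ hp.pos
  have e6 : p ^ (6 * n) = (p ^ n) ^ 6 := by rw [← pow_mul, mul_comm]
  have e3 : p ^ (3 * n) = (p ^ n) ^ 3 := by rw [← pow_mul, mul_comm]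
  have e2 : p ^ (2 * n) = (p ^ n) ^ 2 := by rw [← pow_mul, mul_comm]
  have e4 : p ^ (4 * n) = ((p ^ n) ^ 2) ^ 2 := by
    rw [← pow_mul, ← pow_mul]
    congr 1
    ring
  have hrp : r ≠ p := by
    rintro rfl
    have h1 : r ∣ r ^ (6 * n) := dvd_pow_self r (by omega)
    have h2 : 1 ≤ r ^ (6 * n) := Nat.one_le_pow _ _ hp.pos
    have h3 : r ∣ r ^ (6 * n) - (r ^ (6 * n) - 1) := Nat.dvd_sub h1 hdvd
    rw [Nat.sub_sub_self h2] at h3
    exact hr.one_lt.ne' (Nat.dvd_one.1 h3)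
  refine ⟨hrp, ?_, ?_, ?_, ?_⟩
  · have h3 : 1 ≤ (p ^ n) ^ 3 := Nat.one_le_pow _ _ hq1
    have h6 : 1 ≤ (p ^ n) ^ 6 := Nat.one_le_pow _ _ hq1
    have hfac : (p ^ n) ^ 6 - 1 = ((p ^ n) ^ 3 - 1) * ((p ^ n) ^ 3 + 1) := by
      zify [h3, h6]
      ring
    rw [e6, hfac] at hdvd
    rcases (Nat.Prime.dvd_mul hr).1 hdvd with h | h
    · exfalso
      rw [← e3] at h
      have := hprim (3 * n) (by omega) h
      omega
    · exact h
  · intro h
    have h2 : r ∣ p ^ (2 * n) - 1 := by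
      rw [e2]
      have h2' : 1 ≤ (p ^ n) ^ 2 := Nat.one_le_pow _ _ hq1
      have hfac : (p ^ n) ^ 2 - 1 = (p ^ n + 1) * (p ^ n - 1) := by
        zify [hq1, h2']
        ring
      rw [hfac]
      exact Dvd.dvd.mul_right h _
    have := hprim (2 * n) (by omega) h2
    omega
  · intro h
    have h1 : r ∣ p ^ n := hr.dvd_of_dvd_pow h
    have h2 : r ∣ p := hr.dvd_of_dvd_pow h1
    exact hrp ((Nat.prime_dvd_prime_iff_eq hr hp).1 h2)
  · intro h
    rw [← e4] at h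
    have := hprim (4 * n) (by omega) h
    omega

end Cfsg.Agent.Lib.Helper44.PU3
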