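import Mathlib
import Cfsg.Agent.Lib.Helper44.PU3Defs

/-!
# PU3 project (helper44, S2784 + S2786): piece EIG (helper39)
-/

set_option autoImplicit false

namespace Cfsg.Agent.Lib.Helper44.PU3

open Matrix

theorem pu3_eig {F : Type*} [Field F] [Fintype F] : EigStmt F := by
  classical
  intro r g hr hrQ hrQ2 hgr hg1 μ hdet
  have : Fact r.Prime := ⟨hr⟩
  have hQ1 : 1 < Fintype.card F := Fintype.one_lt_card
  have hQ1' : 1 ≤ Fintype.card F := by omega
  have hrQ1 : ¬ r ∣ Fintype.card F - 1 := by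
    intro h
    apply hrQ2
    have h2 : 1 ≤ Fintype.card F ^ 2 := Nat.one_le_pow _ _ hQ1'
    have h3 : Fintype.card F ^ 2 - 1 = (Fintype.card F - 1) * (Fintype.card F + 1) := by
      zify [hQ1', h2]
      ring
    rw [h3]
    exact Dvd.dvd.mul_right h _
  -- an eigenvector
  obtain ⟨v, hv0, hv⟩ := Matrix.exists_mulVec_eq_zero_iff.2 hdet
  have hgv : g *ᵥ v = μ • v := by
    rw [Matrix.sub_mulVec, Matrix.smul_mulVec, Matrix.one_mulVec, sub_eq_zero] at hv
    exact hv
  have hpowv : ∀ k : ℕ, (g ^ k) *ᵥ v = μ ^ k • v := by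
    intro k
    induction k with
    | zero => simp
    | succ k ih =>
      rw [pow_succ, ← Matrix.mulVec_mulVec, hgv, Matrix.mulVec_smul, ih, smul_smul, pow_succ,
        mul_comm]
  have hμr : μ ^ r = 1 := by
    have h1 := hpowv r
    rw [hgr, Matrix.one_mulVec] at h1
    by_contra hne
    apply hv0
    have h2 : (μ ^ r - 1) • v = 0 := by rw [sub_smul, one_smul, ← h1, sub_self]
    rcases smul_eq_zero.1 h2 with h3 | h3
    · exact absurd (sub_eq_zero.1 h3) hne
    · exact h3
  have hμ0 : μ ≠ 0 := by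
    rintro rfl
    rw [zero_pow hr.ne_zero] at hμr
    exact zero_ne_one hμr
  have hμQ : μ ^ (Fintype.card F - 1) = 1 := FiniteField.pow_card_sub_one_eq_one μ hμ0
  have hμ1 : μ = 1 := by
    have h1 : orderOf μ ∣ r := orderOf_dvd_of_pow_eq_one hμr
    have h2 : orderOf μ ∣ Fintype.card F - 1 := orderOf_dvd_of_pow_eq_one hμQ
    rcases (Nat.dvd_prime hr).1 h1 with h3 | h3
    · exact orderOf_eq_one_iff.1 h3
    · rw [h3] at h2
      exact absurd h2 hrQ1
  rw [hμ1, one_smul] at hgv
  -- the fixed space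
  set W : Submodule F (Fin 3 → F) := LinearMap.ker (Matrix.toLin' (g - 1)) with hW
  have hmemW : ∀ x : Fin 3 → F, x ∈ W ↔ g *ᵥ x = x := by
    intro x
    rw [hW, LinearMap.mem_ker, Matrix.toLin'_apply, Matrix.sub_mulVec, Matrix.one_mulVec,
      sub_eq_zero]
  have hWbot : W ≠ ⊥ := by
    intro h
    apply hv0
    have h1 : v ∈ W := (hmemW v).2 hgv
    rw [h] at h1
    exact (Submodule.mem_bot F).1 h1
  have hWtop : W ≠ ⊤ := by
    intro h
    apply hg1
    have h1 : ∀ x : Fin 3 → F, g *ᵥ x = x := fun x => (hmemW x).1 (h ▸ Submodule.mem_top)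
    have h2 : Matrix.toLin' g = Matrix.toLin' (1 : Matrix (Fin 3) (Fin 3) F) := by
      apply LinearMap.ext
      intro x
      rw [Matrix.toLin'_apply, Matrix.toLin'_apply, h1 x, Matrix.one_mulVec]
    exact Matrix.toLin'.injective h2
  have hd0 : 0 < Module.finrank F W :=
    Nat.pos_of_ne_zero (fun h => hWbot (Submodule.finrank_eq_zero.1 h))
  have hd3 : Module.finrank F W < 3 := by
    have h1 := Submodule.finrank_lt hWtop
    rwa [Module.finrank_fin_fun] at h1
  have hcW : Nat.card W = Fintype.card F ^ Module.finrank F W := by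
    have h1 := Module.natCard_eq_pow_finrank (K := F) (V := W)
    rwa [Nat.card_eq_fintype_card (α := F)] at h1
  -- the permutation
  let f : Function.End (Fin 3 → F) := fun x => g *ᵥ x
  have hfpow : ∀ k : ℕ, ∀ x, (f ^ k) x = (g ^ k) *ᵥ x := by
    intro k
    induction k with
    | zero =>
      intro x
      rw [pow_zero, pow_zero, Matrix.one_mulVec]
      rfl
    | succ k ih =>
      intro x
      rw [pow_succ, pow_succ]
      show (f ^ k) (f x) = _
      rw [ih, ← Matrix.mulVec_mulVec]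
  have hfr : f ^ r ^ 1 = 1 := by
    rw [pow_one]
    funext x
    rw [hfpow, hgr, Matrix.one_mulVec]
    rfl
  have hmod := Equiv.Perm.card_fixedPoints_modEq (f := f) (p := r) (n := 1) hfr
  have hc1 : Fintype.card (Fin 3 → F) = Fintype.card F ^ 3 := by
    rw [Fintype.card_fun, Fintype.card_fin]
  have hc2 : Fintype.card (Function.fixedPoints f) = Fintype.card F ^ Module.finrank F W := by
    rw [← Nat.card_eq_fintype_card, ← hcW]
    have hset : (Function.fixedPoints f) = (W : Set (Fin 3 → F)) := by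
      ext x
      exact (hmemW x).symm
    rw [hset]
    rfl
  rw [hc1, hc2] at hmod
  have hd12 : Module.finrank F W = 1 ∨ Module.finrank F W = 2 := by omega
  rcases hd12 with h | h
  · rw [h] at hmod
    have hle : Fintype.card F ^ 1 ≤ Fintype.card F ^ 3 := Nat.pow_le_pow_right hQ1' (by norm_num)
    have h1 : r ∣ Fintype.card F ^ 3 - Fintype.card F ^ 1 := (Nat.modEq_iff_dvd' hle).1 hmod.symm
    have h2 : 1 ≤ Fintype.card F ^ 2 := Nat.one_le_pow _ _ hQ1'
    have h3 : Fintype.card F ^ 3 - Fintype.card F ^ 1 =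
        Fintype.card F * (Fintype.card F ^ 2 - 1) := by
      zify [hle, h2]
      ring
    rw [h3] at h1
    rcases (Nat.Prime.dvd_mul hr).1 h1 with h4 | h4
    · exact hrQ h4
    · exact hrQ2 h4
  · rw [h] at hmod
    have hle : Fintype.card F ^ 2 ≤ Fintype.card F ^ 3 := Nat.pow_le_pow_right hQ1' (by norm_num)
    have h1 : r ∣ Fintype.card F ^ 3 - Fintype.card F ^ 2 := (Nat.modEq_iff_dvd' hle).1 hmod.symm
    have h3 : Fintype.card F ^ 3 - Fintype.card F ^ 2 =
        Fintype.card F ^ 2 * (Fintype.card F - 1) := by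
      zify [hle, hQ1']
      ring
    rw [h3] at h1
    rcases (Nat.Prime.dvd_mul hr).1 h1 with h4 | h4
    · exact hrQ (hr.dvd_of_dvd_pow h4)
    · exact hrQ1 h4

end Cfsg.Agent.Lib.Helper44.PU3
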