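import Cfsg.Agent.Lib.Helper39.PkData

set_option autoImplicit false
set_option maxRecDepth 100000

/-!
# Exhaustive check of the lift identity (generator C, part 1)
-/

namespace Cfsg.Agent.Lib.Helper39.Pk

theorem chkC_16 : blockN QCB TCP 1024 64 = true := by decide +kernel

theorem chkC_17 : blockN QCB TCP 1088 64 = true := by decide +kernel

theorem chkC_18 : blockN QCB TCP 1152 64 = true := by decide +kernel

theorem chkC_19 : blockN QCB TCP 1216 64 = true := by decide +kernel

theorem chkC_20 : blockN QCB TCP 1280 64 = true := by decide +kernel

theorem chkC_21 : blockN QCB TCP 1344 64 = true := by decide +kernel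

theorem chkC_22 : blockN QCB TCP 1408 64 = true := by decide +kernel

theorem chkC_23 : blockN QCB TCP 1472 64 = true := by decide +kernel

theorem chkC_24 : blockN QCB TCP 1536 64 = true := by decide +kernel

theorem chkC_25 : blockN QCB TCP 1600 64 = true := by decide +kernel

theorem chkC_26 : blockN QCB TCP 1664 64 = true := by decide +kernel

theorem chkC_27 : blockN QCB TCP 1728 64 = true := by decide +kernel

theorem chkC_28 : blockN QCB TCP 1792 64 = true := by decide +kernel

theorem chkC_29 : blockN QCB TCP 1856 64 = true := by decide +kernel

theorem chkC_30 : blockN QCB TCP 1920 64 = true := by decide +kernel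

theorem chkC_31 : blockN QCB TCP 1984 64 = true := by decide +kernel

end Cfsg.Agent.Lib.Helper39.Pk
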