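import Cfsg.Agent.Lib.Helper39.PkChkC0
import Cfsg.Agent.Lib.Helper39.PkChkC1

set_option autoImplicit false

/-!
# Exhaustive check of the lift identity (generator C)
-/

namespace Cfsg.Agent.Lib.Helper39.Pk

theorem chkC (x y : ℕ) (hx : x < 2048) (hy : y < 2048) : pairN QCB TCP x y = 0 := by
  have hc : x / 64 < 32 := by omega
  interval_cases hq : x / 64
  · exact blockN_spec _ _ _ _ chkC_0 x y (by omega) (by omega) hy
  · exact blockN_spec _ _ _ _ chkC_1 x y (by omega) (by omega) hy
  · exact blockN_spec _ _ _ _ chkC_2 x y (by omega) (by omega) hy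
  · exact blockN_spec _ _ _ _ chkC_3 x y (by omega) (by omega) hy
  · exact blockN_spec _ _ _ _ chkC_4 x y (by omega) (by omega) hy
  · exact blockN_spec _ _ _ _ chkC_5 x y (by omega) (by omega) hy
  · exact blockN_spec _ _ _ _ chkC_6 x y (by omega) (by omega) hy
  · exact blockN_spec _ _ _ _ chkC_7 x y (by omega) (by omega) hy
  · exact blockN_spec _ _ _ _ chkC_8 x y (by omega) (by omega) hy
  · exact blockN_spec _ _ _ _ chkC_9 x y (by omega) (by omega) hy
  · exact blockN_spec _ _ _ _ chkC_10 x y (by omega) (by omega) hy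
  · exact blockN_spec _ _ _ _ chkC_11 x y (by omega) (by omega) hy
  · exact blockN_spec _ _ _ _ chkC_12 x y (by omega) (by omega) hy
  · exact blockN_spec _ _ _ _ chkC_13 x y (by omega) (by omega) hy
  · exact blockN_spec _ _ _ _ chkC_14 x y (by omega) (by omega) hy
  · exact blockN_spec _ _ _ _ chkC_15 x y (by omega) (by omega) hy
  · exact blockN_spec _ _ _ _ chkC_16 x y (by omega) (by omega) hy
  · exact blockN_spec _ _ _ _ chkC_17 x y (by omega) (by omega) hy
  · exact blockN_spec _ _ _ _ chkC_18 x y (by omega) (by omega) hy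
  · exact blockN_spec _ _ _ _ chkC_19 x y (by omega) (by omega) hy
  · exact blockN_spec _ _ _ _ chkC_20 x y (by omega) (by omega) hy
  · exact blockN_spec _ _ _ _ chkC_21 x y (by omega) (by omega) hy
  · exact blockN_spec _ _ _ _ chkC_22 x y (by omega) (by omega) hy
  · exact blockN_spec _ _ _ _ chkC_23 x y (by omega) (by omega) hy
  · exact blockN_spec _ _ _ _ chkC_24 x y (by omega) (by omega) hy
  · exact blockN_spec _ _ _ _ chkC_25 x y (by omega) (by omega) hy
  · exact blockN_spec _ _ _ _ chkC_26 x y (by omega) (by omega) hy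
  · exact blockN_spec _ _ _ _ chkC_27 x y (by omega) (by omega) hy
  · exact blockN_spec _ _ _ _ chkC_28 x y (by omega) (by omega) hy
  · exact blockN_spec _ _ _ _ chkC_29 x y (by omega) (by omega) hy
  · exact blockN_spec _ _ _ _ chkC_30 x y (by omega) (by omega) hy
  · exact blockN_spec _ _ _ _ chkC_31 x y (by omega) (by omega) hy

end Cfsg.Agent.Lib.Helper39.Pk
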