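import Cfsg.Agent.Lib.Helper39.PkData

set_option autoImplicit false
set_option maxRecDepth 100000

/-!
# Exhaustive check of the lift identity (generator S, part 1)
-/

namespace Cfsg.Agent.Lib.Helper39.Pk

theorem chkS_16 : blockN QSB TSP 1024 64 = true := by decide +kernel

theorem chkS_17 : blockN QSB TSP 1088 64 = true := by decide +kernel

theorem chkS_18 : blockN QSB TSP 1152 64 = true := by decide +kernel

theorem chkS_19 : blockN QSB TSP 1216 64 = true := by decide +kernel

theorem chkS_20 : blockN QSB TSP 1280 64 = true := by decide +kernel

theorem chkS_21 : blockN QSB TSP 1344 64 = true := by decide +kernel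

theorem chkS_22 : blockN QSB TSP 1408 64 = true := by decide +kernel

theorem chkS_23 : blockN QSB TSP 1472 64 = true := by decide +kernel

theorem chkS_24 : blockN QSB TSP 1536 64 = true := by decide +kernel

theorem chkS_25 : blockN QSB TSP 1600 64 = true := by decide +kernel

theorem chkS_26 : blockN QSB TSP 1664 64 = true := by decide +kernel

theorem chkS_27 : blockN QSB TSP 1728 64 = true := by decide +kernel

theorem chkS_28 : blockN QSB TSP 1792 64 = true := by decide +kernel

theorem chkS_29 : blockN QSB TSP 1856 64 = true := by decide +kernel

theorem chkS_30 : blockN QSB TSP 1920 64 = true := by decide +kernel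

theorem chkS_31 : blockN QSB TSP 1984 64 = true := by decide +kernel

end Cfsg.Agent.Lib.Helper39.Pk
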