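import Cfsg.Agent.Lib.Helper39.PkChkS0
import Cfsg.Agent.Lib.Helper39.PkChkS1

set_option autoImplicit false

/-!
# Exhaustive check of the lift identity (generator S)
-/

namespace Cfsg.Agent.Lib.Helper39.Pk

theorem chkS (x y : ℕ) (hx : x < 2048) (hy : y < 2048) : pairN QSB TSP x y = 0 := by
  have hc : x / 64 < 32 := by omega
  interval_cases hq : x / 64
  · exact blockN_spec _ _ _ _ chkS_0 x y (by omega) (by omega) hy
  · exact blockN_spec _ _ _ _ chkS_1 x y (by omega) (by omega) hy
  · exact blockN_spec _ _ _ _ chkS_2 x y (by omega) (by omega) hy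
  · exact blockN_spec _ _ _ _ chkS_3 x y (by omega) (by omega) hy
  · exact blockN_spec _ _ _ _ chkS_4 x y (by omega) (by omega) hy
  · exact blockN_spec _ _ _ _ chkS_5 x y (by omega) (by omega) hy
  · exact blockN_spec _ _ _ _ chkS_6 x y (by omega) (by omega) hy
  · exact blockN_spec _ _ _ _ chkS_7 x y (by omega) (by omega) hy
  · exact blockN_spec _ _ _ _ chkS_8 x y (by omega) (by omega) hy
  · exact blockN_spec _ _ _ _ chkS_9 x y (by omega) (by omega) hy
  · exact blockN_spec _ _ _ _ chkS_10 x y (by omega) (by omega) hy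
  · exact blockN_spec _ _ _ _ chkS_11 x y (by omega) (by omega) hy
  · exact blockN_spec _ _ _ _ chkS_12 x y (by omega) (by omega) hy
  · exact blockN_spec _ _ _ _ chkS_13 x y (by omega) (by omega) hy
  · exact blockN_spec _ _ _ _ chkS_14 x y (by omega) (by omega) hy
  · exact blockN_spec _ _ _ _ chkS_15 x y (by omega) (by omega) hy
  · exact blockN_spec _ _ _ _ chkS_16 x y (by omega) (by omega) hy
  · exact blockN_spec _ _ _ _ chkS_17 x y (by omega) (by omega) hy
  · exact blockN_spec _ _ _ _ chkS_18 x y (by omega) (by omega) hy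
  · exact blockN_spec _ _ _ _ chkS_19 x y (by omega) (by omega) hy
  · exact blockN_spec _ _ _ _ chkS_20 x y (by omega) (by omega) hy
  · exact blockN_spec _ _ _ _ chkS_21 x y (by omega) (by omega) hy
  · exact blockN_spec _ _ _ _ chkS_22 x y (by omega) (by omega) hy
  · exact blockN_spec _ _ _ _ chkS_23 x y (by omega) (by omega) hy
  · exact blockN_spec _ _ _ _ chkS_24 x y (by omega) (by omega) hy
  · exact blockN_spec _ _ _ _ chkS_25 x y (by omega) (by omega) hy
  · exact blockN_spec _ _ _ _ chkS_26 x y (by omega) (by omega) hy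
  · exact blockN_spec _ _ _ _ chkS_27 x y (by omega) (by omega) hy
  · exact blockN_spec _ _ _ _ chkS_28 x y (by omega) (by omega) hy
  · exact blockN_spec _ _ _ _ chkS_29 x y (by omega) (by omega) hy
  · exact blockN_spec _ _ _ _ chkS_30 x y (by omega) (by omega) hy
  · exact blockN_spec _ _ _ _ chkS_31 x y (by omega) (by omega) hy

end Cfsg.Agent.Lib.Helper39.Pk
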