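import Mathlib

set_option autoImplicit false

/-!
# A group extension attached to a function `θ : V → V → ZMod 2`

For a group `G` acting on an additive group `V` and a function `θ : V → V → ZMod 2`, the pairs
`(q, s)` with `q : V → ZMod 2`, `s : G` and
`q (x + y) + q x + q y = θ x y + θ (s⁻¹ • x) (s⁻¹ • y)` form a group `YE G θ`; the projection to
`G` has kernel the additive maps `V → ZMod 2`.
-/

namespace Cfsg.Agent.Lib.Helper39.YExt

variable (G : Type*) {V : Type*} [Group G] [AddCommGroup V] [DistribMulAction G V]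

/-- Pairs `(q, s)` with `δq = θ + s·θ`. -/
@[ext] structure YE (θ : V → V → ZMod 2) where
  /-- the function part -/
  q : V → ZMod 2
  /-- the group part -/
  s : G
  /-- the compatibility -/
  h : ∀ x y, q (x + y) + q x + q y = θ x y + θ (s⁻¹ • x) (s⁻¹ • y)

variable {G} {θ : V → V → ZMod 2}

theorem two_zmod : (2 : ZMod 2) = 0 := by decide

theorem add_self_zmod (a : ZMod 2) : a + a = 0 := by revert a; decide

instance : Mul (YE G θ) := ⟨fun a b => ⟨fun x => a.q x + b.q (a.s⁻¹ • x), a.s * b.s, by
  intro x y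
  have ha := a.h x y
  have hb := b.h (a.s⁻¹ • x) (a.s⁻¹ • y)
  simp only [smul_add, mul_inv_rev, mul_smul] at hb ⊢
  linear_combination ha + hb + θ (a.s⁻¹ • x) (a.s⁻¹ • y) * two_zmod⟩⟩

instance : One (YE G θ) := ⟨⟨fun _ => 0, 1, by
  intro x y
  simp only [inv_one, one_smul, add_zero]
  exact (add_self_zmod _).symm⟩⟩

instance : Inv (YE G θ) := ⟨fun a => ⟨fun x => a.q (a.s • x), a.s⁻¹, by
  intro x y
  have := a.h (a.s • x) (a.s • y)
  simp only [inv_inv, smul_add, inv_smul_smul] at this ⊢
  rw [this, add_comm]⟩⟩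

@[simp] theorem mul_q (a b : YE G θ) (x : V) : (a * b).q x = a.q x + b.q (a.s⁻¹ • x) := rfl
@[simp] theorem mul_s (a b : YE G θ) : (a * b).s = a.s * b.s := rfl
@[simp] theorem one_q (x : V) : (1 : YE G θ).q x = 0 := rfl
@[simp] theorem one_s : (1 : YE G θ).s = 1 := rfl
@[simp] theorem inv_q (a : YE G θ) (x : V) : (a⁻¹).q x = a.q (a.s • x) := rfl
@[simp] theorem inv_s (a : YE G θ) : (a⁻¹).s = a.s⁻¹ := rfl

instance : Group (YE G θ) := Group.ofLeftAxioms
  (by
    intro a b c
    ext x
    · simp only [mul_q, mul_s, mul_inv_rev, mul_smul, add_assoc]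
    · simp only [mul_s, mul_assoc])
  (by
    intro a
    ext x
    · simp only [mul_q, one_q, one_s, inv_one, one_smul, zero_add]
    · simp only [mul_s, one_s, one_mul])
  (by
    intro a
    ext x
    · simp only [mul_q, inv_q, inv_s, inv_inv, one_q]
      exact add_self_zmod _
    · simp only [mul_s, inv_s, inv_mul_cancel, one_s])

/-- The projection to `G`. -/
def proj (G : Type*) {V : Type*} [Group G] [AddCommGroup V] [DistribMulAction G V]
    (θ : V → V → ZMod 2) : YE G θ →* G where
  toFun := YE.s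
  map_one' := rfl
  map_mul' := fun _ _ => rfl

@[simp] theorem proj_apply (e : YE G θ) : proj G θ e = e.s := rfl

theorem mem_ker_iff (e : YE G θ) : e ∈ (proj G θ).ker ↔ e.s = 1 := MonoidHom.mem_ker

/-- Elements of the kernel are additive. -/
theorem q_add_of_s_eq_one {e : YE G θ} (he : e.s = 1) (x y : V) : e.q (x + y) = e.q x + e.q y := by
  have h := e.h x y
  rw [he] at h
  simp only [inv_one, one_smul] at h
  have h2 := add_self_zmod (θ x y)
  linear_combination h + h2 - (e.q x + e.q y) * two_zmod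

theorem q_zero_of_s_eq_one {e : YE G θ} (he : e.s = 1) : e.q 0 = 0 := by
  have h := q_add_of_s_eq_one he 0 0
  rw [add_zero] at h
  rw [add_self_zmod (e.q 0)] at h
  exact h

/-- Conjugation of a kernel element. -/
theorem conj_q (g n : YE G θ) (hn : n.s = 1) (x : V) : (g * n * g⁻¹).q x = n.q (g.s⁻¹ • x) := by
  simp only [mul_q, mul_s, inv_q, hn, mul_one, smul_inv_smul]
  have h2 := add_self_zmod (g.q x)
  linear_combination h2

theorem conj_s (g n : YE G θ) (hn : n.s = 1) : (g * n * g⁻¹).s = 1 := by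
  simp only [mul_s, inv_s, hn, mul_one, mul_inv_cancel]

/-- The tracking map: a right action on `V × ZMod 2`. -/
def trk (e : YE G θ) (p : V × ZMod 2) : V × ZMod 2 := (e.s⁻¹ • p.1, p.2 + e.q p.1)

theorem trk_mul (a b : YE G θ) (p : V × ZMod 2) : trk (a * b) p = trk b (trk a p) := by
  simp only [trk, mul_q, mul_s, mul_inv_rev, mul_smul, add_assoc]

theorem trk_one (p : V × ZMod 2) : trk (1 : YE G θ) p = p := by
  simp only [trk, one_q, one_s, inv_one, one_smul, add_zero]

instance [Finite G] [Finite V] : Finite (YE G θ) :=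
  Finite.of_injective (fun e : YE G θ => (e.q, e.s)) (by
    intro a b h
    simp only [Prod.mk.injEq] at h
    exact YE.ext h.1 h.2)

/-- Surjectivity of the projection can be checked on generators. -/
theorem proj_surjective_of_closure (S : Set G) (hS : Subgroup.closure S = ⊤)
    (h : ∀ g ∈ S, ∃ e : YE G θ, e.s = g) : Function.Surjective (proj G θ) := by
  rw [← MonoidHom.range_eq_top, eq_top_iff, ← hS, Subgroup.closure_le]
  intro g hg
  obtain ⟨e, he⟩ := h g hg
  exact ⟨e, he⟩

end Cfsg.Agent.Lib.Helper39.YExt
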