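import Cfsg.Prelude.Def_Spor_Mathieu
import Cfsg.Agent.Lib.Helper9.M24
import Cfsg.Agent.Lib.Helper9.M24Data
import Cfsg.Agent.Lib.Helper96.M23Out
import Cfsg.Agent.Lib.Helper39.YExt
import Cfsg.Agent.Lib.Helper39.PkChkS
import Cfsg.Agent.Lib.Helper39.PkChkC

set_option autoImplicit false

/-!
# The cocycle extension of `M23`: bridge between the bitmask model and the Golay code
-/

namespace Cfsg.Agent.Lib.Helper39.Pk

open Cfsg Cfsg.Agent.Lib.Helper9 Cfsg.Agent.Lib.Helper39.YExt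

/-! ### The module: code words vanishing at the extra point -/

/-- Golay code words vanishing at the extra point. -/
def Vs : AddSubgroup (GolayPt → ZMod 2) where
  carrier := {x | x ∈ golayCode ∧ x none = 0}
  add_mem' := fun {a b} ha hb => ⟨golayCode.add_mem ha.1 hb.1, by
    show a none + b none = 0
    rw [ha.2, hb.2, add_zero]⟩
  zero_mem' := ⟨golayCode.zero_mem, rfl⟩
  neg_mem' := fun {a} ha => ⟨golayCode.neg_mem ha.1, by
    show -a none = 0
    rw [ha.2, neg_zero]⟩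

theorem M23_fix_none (σ : ↥Spor.M23) : (σ : Equiv.Perm GolayPt) none = none :=
  MulAction.mem_stabilizer_iff.mp σ.2.2

theorem M23_inv_none (σ : ↥Spor.M23) : (σ : Equiv.Perm GolayPt)⁻¹ none = none := by
  rw [Equiv.Perm.inv_eq_iff_eq]
  exact (M23_fix_none σ).symm

instance : SMul ↥Spor.M23 ↥Vs := ⟨fun σ x => ⟨(x : GolayPt → ZMod 2) ∘ ⇑(σ : Equiv.Perm GolayPt)⁻¹,
  ⟨comp_mem_of_mem_M24 (M24.inv_mem σ.2.1) x.2.1, by
    show (x : GolayPt → ZMod 2) ((σ : Equiv.Perm GolayPt)⁻¹ none) = 0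
    rw [M23_inv_none]
    exact x.2.2⟩⟩⟩

theorem smul_val (σ : ↥Spor.M23) (x : ↥Vs) :
    ((σ • x : ↥Vs) : GolayPt → ZMod 2) = (x : GolayPt → ZMod 2) ∘ ⇑(σ : Equiv.Perm GolayPt)⁻¹ := rfl

theorem inv_smul_val (σ : ↥Spor.M23) (x : ↥Vs) :
    ((σ⁻¹ • x : ↥Vs) : GolayPt → ZMod 2) = (x : GolayPt → ZMod 2) ∘ ⇑(σ : Equiv.Perm GolayPt) := by
  rw [smul_val, Subgroup.coe_inv, inv_inv]

instance : DistribMulAction ↥Spor.M23 ↥Vs where
  one_smul x := Subtype.ext (by rw [smul_val]; funext p; simp)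
  mul_smul σ τ x := Subtype.ext (by
    rw [smul_val, smul_val, smul_val]
    funext p
    simp [mul_inv_rev])
  smul_zero σ := Subtype.ext rfl
  smul_add σ x y := Subtype.ext rfl

/-! ### Masks -/

theorem exists_mask (x : ↥Vs) : ∃ m, m ∈ sums gB ∧ (x : GolayPt → ZMod 2) = dec m :=
  (mem_golayCode_iff _).mp x.2.1

/-- The mask of a code word. -/
noncomputable def mk (x : ↥Vs) : ℕ := Classical.choose (exists_mask x)

theorem mk_mem (x : ↥Vs) : mk x ∈ sums gB := (Classical.choose_spec (exists_mask x)).1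

theorem dec_mk (x : ↥Vs) : dec (mk x) = (x : GolayPt → ZMod 2) :=
  (Classical.choose_spec (exists_mask x)).2.symm

theorem mk_lt (x : ↥Vs) : mk x < 2 ^ 24 := sums_gB_lt _ (mk_mem x)

theorem dec_none (m : ℕ) : dec m none = if m.testBit 23 then 1 else 0 := rfl

theorem mk_bit (x : ↥Vs) : (mk x).testBit 23 = false := by
  have h : dec (mk x) none = 0 := by rw [dec_mk]; exact x.2.2
  rw [dec_none] at h
  by_contra hc
  rw [Bool.not_eq_false] at hc
  rw [hc] at h
  exact absurd h (by decide)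

theorem mk_eq {x : ↥Vs} {m : ℕ} (hm : m ∈ sums gB) (h : dec m = (x : GolayPt → ZMod 2)) :
    mk x = m :=
  dec_injOn (mk_lt x) (sums_gB_lt m hm) ((dec_mk x).trans h.symm)

/-- The 11-bit code of a mask: bits 12..22. -/
def code (m : ℕ) : ℕ := (m >>> 12) &&& 2047

/-- The mask with a given code. -/
def EMB (k : ℕ) : ℕ := red gBP (k <<< 12)

/-- The code of a code word. -/
noncomputable def cd (x : ↥Vs) : ℕ := code (mk x)

theorem code_lt (m : ℕ) : code m < 2048 := by
  have := @Nat.and_le_right (m >>> 12) 2047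
  unfold code
  omega

theorem cd_lt (x : ↥Vs) : cd x < 2048 := code_lt _

theorem code_xor (a b : ℕ) : code (a ^^^ b) = code a ^^^ code b := by
  unfold code
  rw [Nat.shiftRight_xor_distrib, Nat.and_xor_distrib_right]

theorem emb_code_all : allP (fun m => m.testBit 23 || (EMB (code m) == m)) gB 0 = true := by
  decide +kernel

theorem emb_code {m : ℕ} (hm : m ∈ sums gB) (hb : m.testBit 23 = false) : EMB (code m) = m := by
  have h := (allP_iff _ gB 0).mp emb_code_all m hm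
  rw [Nat.zero_xor, hb, Bool.false_or, beq_iff_eq] at h
  exact h

theorem emb_cd (x : ↥Vs) : EMB (cd x) = mk x := emb_code (mk_mem x) (mk_bit x)

theorem emb_spec : ∀ k < 2048, inCode (EMB k) = true ∧ (EMB k).testBit 23 = false ∧
    code (EMB k) = k := by decide +kernel

theorem mk_add (x y : ↥Vs) : mk (x + y) = mk x ^^^ mk y := by
  apply mk_eq (xor_mem_sums (mk_mem x) (mk_mem y))
  rw [dec_xor, dec_mk, dec_mk]
  rfl

theorem cd_add (x y : ↥Vs) : cd (x + y) = cd x ^^^ cd y := by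
  unfold cd
  rw [mk_add, code_xor]

theorem cd_eq_zero {x : ↥Vs} (h : cd x = 0) : x = 0 := by
  have h1 : mk x = 0 := by
    rw [← emb_cd, h]
    decide +kernel
  apply Subtype.ext
  rw [← dec_mk, h1, dec_zero]
  rfl

theorem exists_cd (k : ℕ) (hk : k < 2048) : ∃ x : ↥Vs, cd x = k := by
  obtain ⟨h1, h2, h3⟩ := emb_spec k hk
  have hm : EMB k ∈ sums gB := mem_sums_of_inCode h1
  refine ⟨⟨dec (EMB k), dec_mem_golay hm, ?_⟩, ?_⟩
  · rw [dec_none, h2]
    rfl
  · unfold cd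
    rw [mk_eq hm rfl, h3]

/-- The action of the inverse of a permutation with a table, on masks. -/
theorem mk_inv_smul (σ : ↥Spor.M23) (T : List ℕ) (hT : HasTable (σ : Equiv.Perm GolayPt) T)
    (x : ↥Vs) : mk (σ⁻¹ • x) = pull T (mk x) := by
  have h1 : dec (pull T (mk x)) = ((σ⁻¹ • x : ↥Vs) : GolayPt → ZMod 2) := by
    rw [inv_smul_val, ← dec_mk x, dec_comp_of_table hT.1 hT.2]
  have h2 : pull T (mk x) < 2 ^ 24 := by
    have := pull_lt T (mk x)
    rwa [hT.length_eq] at this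
  apply mk_eq (mem_sums_of_dec_mem h2 _) h1
  rw [h1]
  exact (σ⁻¹ • x).2.1

/-- The shift as an element of `M23`. -/
def sM : ↥Spor.M23 := ⟨shiftPerm, Cfsg.Agent.Lib.Helper96.shift_mem_M23⟩

/-- The cube twist as an element of `M23`. -/
noncomputable def cM : ↥Spor.M23 := ⟨cubeTwist, Cfsg.Agent.Lib.Helper96.cube_mem_M23⟩

theorem tabS_spec : ∀ k < 2048, code (pull shiftT (EMB k)) = tabN TSP k := by decide +kernel

theorem tabC_spec : ∀ k < 2048, code (pull cubeTwistT (EMB k)) = tabN TCP k := by decide +kernel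

theorem cd_inv_sM (x : ↥Vs) : cd (sM⁻¹ • x) = tabN TSP (cd x) := by
  have h := tabS_spec _ (cd_lt x)
  rw [emb_cd] at h
  show code (mk (sM⁻¹ • x)) = tabN TSP (cd x)
  rw [mk_inv_smul sM shiftT hasTable_shift]
  exact h

theorem cd_inv_cM (x : ↥Vs) : cd (cM⁻¹ • x) = tabN TCP (cd x) := by
  have h := tabC_spec _ (cd_lt x)
  rw [emb_cd] at h
  show code (mk (cM⁻¹ • x)) = tabN TCP (cd x)
  rw [mk_inv_smul cM cubeTwistT hasTable_cubeTwist]
  exact h

/-! ### The cocycle and the lifts of the generators -/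

/-- Bool to `ZMod 2`. -/
def toZ (b : Bool) : ZMod 2 := if b then 1 else 0

theorem toZ_bne (a b : Bool) : toZ (a != b) = toZ a + toZ b := by
  cases a <;> cases b <;> decide

theorem toZ_xor (a b : Bool) : toZ (a ^^ b) = toZ a + toZ b := by
  cases a <;> cases b <;> decide

/-- Bit `k` of a table. -/
def qB (Q k : ℕ) : Bool := (Q >>> k).testBit 0

/-- The cocycle on codes. -/
def thB (x y : ℕ) : Bool := (PAR >>> (tabN THR x &&& y)).testBit 0

theorem bool5 (a b c d e : Bool) (h : (((a ^^ b) ^^ c) ^^ (d ^^ e)) = false) :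
    toZ a + toZ b + toZ c = toZ d + toZ e := by
  revert h
  cases a <;> cases b <;> cases c <;> cases d <;> cases e <;> decide

theorem pair_spec (Q T x y : ℕ) (h : pairN Q T x y = 0) :
    toZ (qB Q (x ^^^ y)) + toZ (qB Q x) + toZ (qB Q y) =
      toZ (thB x y) + toZ (thB (tabN T x) (tabN T y)) := by
  have h1 : ((((Q >>> (x ^^^ y)) ^^^ (Q >>> x)) ^^^ (Q >>> y)) ^^^
      ((PAR >>> (tabN THR x &&& y)) ^^^ (PAR >>> (tabN THR (tabN T x) &&& tabN T y)))) &&& 1
      = 0 := h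
  have h2 : ((((Q >>> (x ^^^ y)) ^^^ (Q >>> x)) ^^^ (Q >>> y)) ^^^
      ((PAR >>> (tabN THR x &&& y)) ^^^
        (PAR >>> (tabN THR (tabN T x) &&& tabN T y)))).testBit 0 = false := by
    rw [Nat.testBit_zero, ← Nat.and_one_is_mod, h1]
    rfl
  rw [Nat.testBit_xor, Nat.testBit_xor, Nat.testBit_xor, Nat.testBit_xor] at h2
  exact bool5 _ _ _ _ _ h2

/-- The cocycle. -/
noncomputable def θP (x y : ↥Vs) : ZMod 2 := toZ (thB (cd x) (cd y))

/-- The function part of the lift of the shift. -/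
noncomputable def qS (x : ↥Vs) : ZMod 2 := toZ (qB QSB (cd x))

/-- The function part of the lift of the cube twist. -/
noncomputable def qC (x : ↥Vs) : ZMod 2 := toZ (qB QCB (cd x))

/-- The lift of the shift. -/
noncomputable def liftS : YE ↥Spor.M23 θP := ⟨qS, sM, by
  intro x y
  show toZ (qB QSB (cd (x + y))) + toZ (qB QSB (cd x)) + toZ (qB QSB (cd y)) =
    toZ (thB (cd x) (cd y)) + toZ (thB (cd (sM⁻¹ • x)) (cd (sM⁻¹ • y)))
  rw [cd_add, cd_inv_sM, cd_inv_sM]
  exact pair_spec _ _ _ _ (chkS _ _ (cd_lt x) (cd_lt y))⟩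

/-- The lift of the cube twist. -/
noncomputable def liftC : YE ↥Spor.M23 θP := ⟨qC, cM, by
  intro x y
  show toZ (qB QCB (cd (x + y))) + toZ (qB QCB (cd x)) + toZ (qB QCB (cd y)) =
    toZ (thB (cd x) (cd y)) + toZ (thB (cd (cM⁻¹ • x)) (cd (cM⁻¹ • y)))
  rw [cd_add, cd_inv_cM, cd_inv_cM]
  exact pair_spec _ _ _ _ (chkC _ _ (cd_lt x) (cd_lt y))⟩

theorem closure_gens : Subgroup.closure ({sM, cM} : Set ↥Spor.M23) = ⊤ := by
  apply Subgroup.map_injective (Subgroup.subtype_injective Spor.M23)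
  rw [MonoidHom.map_closure, ← MonoidHom.range_eq_map, Subgroup.range_subtype]
  have h : (⇑Spor.M23.subtype '' ({sM, cM} : Set ↥Spor.M23)) = {shiftPerm, cubeTwist} := by
    rw [Set.image_pair]
    rfl
  rw [h]
  exact Cfsg.Agent.Lib.Helper96.closure_M23

theorem proj_surj : Function.Surjective (proj ↥Spor.M23 θP) :=
  proj_surjective_of_closure {sM, cM} closure_gens (by
    rintro g (rfl | rfl)
    · exact ⟨liftS, rfl⟩
    · exact ⟨liftC, rfl⟩)

end Cfsg.Agent.Lib.Helper39.Pk
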