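import Cfsg.Agent.Lib.Helper39.PkData

set_option autoImplicit false
set_option maxRecDepth 100000

/-!
# Exhaustive check of the lift identity (generator C, part 0)
-/

namespace Cfsg.Agent.Lib.Helper39.Pk

theorem chkC_0 : blockN QCB TCP 0 64 = true := by decide +kernel

theorem chkC_1 : blockN QCB TCP 64 64 = true := by decide +kernel

theorem chkC_2 : blockN QCB TCP 128 64 = true := by decide +kernel

theorem chkC_3 : blockN QCB TCP 192 64 = true := by decide +kernel

theorem chkC_4 : blockN QCB TCP 256 64 = true := by decide +kernel

theorem chkC_5 : blockN QCB TCP 320 64 = true := by decide +kernel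

theorem chkC_6 : blockN QCB TCP 384 64 = true := by decide +kernel

theorem chkC_7 : blockN QCB TCP 448 64 = true := by decide +kernel

theorem chkC_8 : blockN QCB TCP 512 64 = true := by decide +kernel

theorem chkC_9 : blockN QCB TCP 576 64 = true := by decide +kernel

theorem chkC_10 : blockN QCB TCP 640 64 = true := by decide +kernel

theorem chkC_11 : blockN QCB TCP 704 64 = true := by decide +kernel

theorem chkC_12 : blockN QCB TCP 768 64 = true := by decide +kernel

theorem chkC_13 : blockN QCB TCP 832 64 = true := by decide +kernel

theorem chkC_14 : blockN QCB TCP 896 64 = true := by decide +kernel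

theorem chkC_15 : blockN QCB TCP 960 64 = true := by decide +kernel

end Cfsg.Agent.Lib.Helper39.Pk
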