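import Cfsg.Agent.Lib.Helper39.PkData

set_option autoImplicit false
set_option maxRecDepth 100000

/-!
# Exhaustive check of the lift identity (generator S, part 0)
-/

namespace Cfsg.Agent.Lib.Helper39.Pk

theorem chkS_0 : blockN QSB TSP 0 64 = true := by decide +kernel

theorem chkS_1 : blockN QSB TSP 64 64 = true := by decide +kernel

theorem chkS_2 : blockN QSB TSP 128 64 = true := by decide +kernel

theorem chkS_3 : blockN QSB TSP 192 64 = true := by decide +kernel

theorem chkS_4 : blockN QSB TSP 256 64 = true := by decide +kernel

theorem chkS_5 : blockN QSB TSP 320 64 = true := by decide +kernel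

theorem chkS_6 : blockN QSB TSP 384 64 = true := by decide +kernel

theorem chkS_7 : blockN QSB TSP 448 64 = true := by decide +kernel

theorem chkS_8 : blockN QSB TSP 512 64 = true := by decide +kernel

theorem chkS_9 : blockN QSB TSP 576 64 = true := by decide +kernel

theorem chkS_10 : blockN QSB TSP 640 64 = true := by decide +kernel

theorem chkS_11 : blockN QSB TSP 704 64 = true := by decide +kernel

theorem chkS_12 : blockN QSB TSP 768 64 = true := by decide +kernel

theorem chkS_13 : blockN QSB TSP 832 64 = true := by decide +kernel

theorem chkS_14 : blockN QSB TSP 896 64 = true := by decide +kernel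

theorem chkS_15 : blockN QSB TSP 960 64 = true := by decide +kernel

end Cfsg.Agent.Lib.Helper39.Pk
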