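import Cfsg.Agent.Lib.Helper39.PkMain
import Cfsg.Agent.Lib.Helper89.GolaySD

set_option autoImplicit false

/-!
# The cocycle extension of `M23`: the kernel of the pairing
-/

namespace Cfsg.Agent.Lib.Helper39.Pk

open Cfsg Cfsg.Agent.Lib.Helper9 Cfsg.Agent.Lib.Helper39.YExt

/-- Every word has a mask. -/
theorem exists_dec (w : GolayPt → ZMod 2) : ∃ m, m < 2 ^ 24 ∧ dec m = w := by
  refine ⟨Nat.ofBits (fun i : Fin 24 => decide (w (pt (i : ℕ)) = 1)), Nat.ofBits_lt_two_pow _, ?_⟩
  funext p
  show (if (Nat.ofBits (fun i : Fin 24 => decide (w (pt (i : ℕ)) = 1))).testBit (idx p)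
    then (1 : ZMod 2) else 0) = w p
  rw [Nat.testBit_ofBits_lt _ _ (idx_lt p)]
  show (if decide (w (pt (idx p)) = 1) = true then (1 : ZMod 2) else 0) = w p
  rw [pt_idx]
  generalize w p = a
  revert a
  decide

theorem dec_top : dec 8388608 = Pi.single none 1 := by
  funext p
  cases p with
  | none => rfl
  | some i =>
    show (if (8388608 : ℕ).testBit (i.val) then (1 : ZMod 2) else 0) = _
    have h1 : (8388608 : ℕ) = 2 ^ 23 := by norm_num
    have h2 : ¬ (23 = i.val) := by
      have := ZMod.val_lt i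
      omega
    rw [h1, Nat.testBit_two_pow, decide_eq_false h2]
    rw [Pi.single_eq_of_ne (by simp)]
    rfl

theorem lam_dec (m : ℕ) (x : ↥Vs) : lam (dec m) x = (popc (m &&& mk x) : ZMod 2) := by
  unfold lam
  rw [← sum_dec]
  apply Finset.sum_congr rfl
  intro p _
  rw [← dec_mk x, dec_mul_dec]

theorem lam_top (x : ↥Vs) : lam (Pi.single none 1) x = 0 := by
  unfold lam
  rw [Fintype.sum_eq_single none]
  · rw [x.2.2, mul_zero]
  · intro p hp
    rw [Pi.single_eq_of_ne hp, zero_mul]

theorem gB_cases : ∀ b ∈ gB, (b.testBit 23 = false ∧ 8388608 &&& b = 0) ∨ b = 8391797 := by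
  decide +kernel

theorem par_of_lam {m : ℕ} (h : ∀ x : ↥Vs, lam (dec m) x = 0) {b : ℕ} (hb : b ∈ gB)
    (h23 : b.testBit 23 = false) : popc (m &&& b) % 2 = 0 := by
  have hs : b ∈ sums gB := mem_sums_of_inCode (Cfsg.Agent.Lib.Helper89.GolaySD.gB_inCode b hb)
  have hx0 : dec b none = 0 := by
    rw [dec_none, h23]
    rfl
  have hx : mk (⟨dec b, dec_mem_golay hs, hx0⟩ : ↥Vs) = b := mk_eq hs rfl
  have h3 := h ⟨dec b, dec_mem_golay hs, hx0⟩
  rw [lam_dec, hx] at h3
  have h4 := (ZMod.natCast_eq_zero_iff _ 2).mp h3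
  omega

theorem popc_top : popc (8388608 &&& 8391797) = 1 := by decide +kernel

theorem lam_eq_zero_iff (w : GolayPt → ZMod 2) :
    (∀ x : ↥Vs, lam w x = 0) ↔ (w ∈ golayCode ∨ w + Pi.single none 1 ∈ golayCode) := by
  constructor
  · intro h
    obtain ⟨m, hm, rfl⟩ := exists_dec w
    by_cases hp : popc (m &&& 8391797) % 2 = 0
    · left
      have hc : inCode m = true := Cfsg.Agent.Lib.Helper89.GolaySD.inCode_of_orth m hm (by
        intro b hb
        rcases gB_cases b hb with ⟨h23, -⟩ | rfl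
        · exact par_of_lam h hb h23
        · exact hp)
      exact dec_mem_golay (mem_sums_of_inCode hc)
    · right
      have hm' : m ^^^ 8388608 < 2 ^ 24 := Nat.xor_lt_two_pow hm (by norm_num)
      have hc : inCode (m ^^^ 8388608) = true :=
        Cfsg.Agent.Lib.Helper89.GolaySD.inCode_of_orth _ hm' (by
          intro b hb
          rw [Nat.and_xor_distrib_right]
          rcases gB_cases b hb with ⟨h23, h0⟩ | rfl
          · rw [h0, Nat.xor_zero]
            exact par_of_lam h hb h23
          · have h5 := popc_xor_add (m &&& 8391797) (8388608 &&& 8391797)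
            have h6 := popc_top
            omega)
      rw [← dec_top, ← dec_xor]
      exact dec_mem_golay (mem_sums_of_inCode hc)
  · rintro (h | h) x
    · obtain ⟨m, hm, rfl⟩ := (mem_golayCode_iff w).mp h
      rw [lam_dec]
      have h1 := popc_and_even hm (mk_mem x)
      exact (ZMod.natCast_eq_zero_iff _ 2).mpr (Nat.dvd_of_mod_eq_zero h1)
    · obtain ⟨m, hm, hw⟩ := (mem_golayCode_iff _).mp h
      have h1 : lam (w + Pi.single none 1) x = lam w x + lam (Pi.single none 1) x :=
        lam_add_left _ _ _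
      rw [lam_top, add_zero, hw, lam_dec] at h1
      rw [← h1]
      have h2 := popc_and_even hm (mk_mem x)
      exact (ZMod.natCast_eq_zero_iff _ 2).mpr (Nat.dvd_of_mod_eq_zero h2)

end Cfsg.Agent.Lib.Helper39.Pk
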