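import Cfsg.Agent.Lib.Helper39.PkBridge

set_option autoImplicit false

/-!
# The cocycle extension of `M23`: the kernel, the map `θ`, and non-splitting
-/

namespace Cfsg.Agent.Lib.Helper39.Pk

open Cfsg Cfsg.Agent.Lib.Helper9 Cfsg.Agent.Lib.Helper39.YExt

/-- The extension group. -/
noncomputable abbrev EP : Type := YE ↥Spor.M23 θP

/-- The normal subgroup. -/
noncomputable abbrev NP : Subgroup EP := (proj ↥Spor.M23 θP).ker

/-! ### The pairing -/

/-- The pairing of a word with a code word. -/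
def lam (w : GolayPt → ZMod 2) (x : ↥Vs) : ZMod 2 := ∑ p, w p * (x : GolayPt → ZMod 2) p

theorem lam_add_right (w : GolayPt → ZMod 2) (x y : ↥Vs) :
    lam w (x + y) = lam w x + lam w y := by
  unfold lam
  rw [← Finset.sum_add_distrib]
  apply Finset.sum_congr rfl
  intro p _
  rw [AddSubgroup.coe_add, Pi.add_apply, mul_add]

theorem lam_add_left (w w' : GolayPt → ZMod 2) (x : ↥Vs) :
    lam (w + w') x = lam w x + lam w' x := by
  unfold lam
  rw [← Finset.sum_add_distrib]
  apply Finset.sum_congr rfl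
  intro p _
  rw [Pi.add_apply, add_mul]

theorem lam_zero_left (x : ↥Vs) : lam 0 x = 0 := by
  unfold lam
  apply Finset.sum_eq_zero
  intro p _
  rw [Pi.zero_apply, zero_mul]

/-- The kernel element attached to a word. -/
noncomputable def lamE (w : GolayPt → ZMod 2) : EP := ⟨lam w, 1, by
  intro x y
  rw [lam_add_right]
  simp only [inv_one, one_smul]
  rw [add_self_zmod (θP x y), add_assoc, add_self_zmod]⟩

theorem lamE_mem (w : GolayPt → ZMod 2) : lamE w ∈ NP := (mem_ker_iff _).mpr rfl

theorem lamE_add (w w' : GolayPt → ZMod 2) : lamE (w + w') = lamE w * lamE w' := by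
  apply YE.ext
  · funext x
    show lam (w + w') x = lam w x + lam w' ((1 : ↥Spor.M23)⁻¹ • x)
    rw [inv_one, one_smul, lam_add_left]
  · show (1 : ↥Spor.M23) = 1 * 1
    rw [mul_one]

theorem lamE_zero : lamE 0 = 1 := by
  apply YE.ext
  · funext x
    exact lam_zero_left x
  · rfl

/-- The kernel element attached to a word, as an element of the kernel. -/
noncomputable def lamN (w : GolayPt → ZMod 2) : ↥NP := ⟨lamE w, lamE_mem w⟩

theorem lamN_val (w : GolayPt → ZMod 2) : ((lamN w : ↥NP) : EP) = lamE w := rfl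

theorem lamN_zero : lamN 0 = 1 := by
  rw [Subtype.ext_iff, Subgroup.coe_one, lamN_val]
  exact lamE_zero

theorem lamN_add (w w' : GolayPt → ZMod 2) : lamN (w + w') = lamN w * lamN w' := by
  rw [Subtype.ext_iff, Subgroup.coe_mul, lamN_val, lamN_val, lamN_val]
  exact lamE_add w w'

/-- The map `θ` of the statement. -/
noncomputable def ThetaHom : (GolayPt → ZMod 2) →+ Additive ↥NP where
  toFun w := Additive.ofMul (lamN w)
  map_zero' := (congrArg Additive.ofMul lamN_zero).trans ofMul_one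
  map_add' w w' := (congrArg Additive.ofMul (lamN_add w w')).trans (ofMul_mul _ _)

theorem ThetaHom_apply (w : GolayPt → ZMod 2) : ThetaHom w = Additive.ofMul (lamN w) := rfl

theorem ThetaHom_val (w : GolayPt → ZMod 2) : (((ThetaHom w).toMul : ↥NP) : EP) = lamE w := rfl

theorem lamE_eq_one_iff (w : GolayPt → ZMod 2) : lamE w = 1 ↔ ∀ x, lam w x = 0 := by
  constructor
  · intro h1 x
    exact congrFun (congrArg YE.q h1) x
  · intro h
    exact YE.ext (funext h) rfl

theorem ThetaHom_eq_zero_iff (w : GolayPt → ZMod 2) : ThetaHom w = 0 ↔ ∀ x, lam w x = 0 := by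
  rw [← lamE_eq_one_iff, ThetaHom_apply, ofMul_eq_zero, Subtype.ext_iff, Subgroup.coe_one, lamN_val]

/-- Equivariance. -/
theorem lamE_conj (g : EP) (w : GolayPt → ZMod 2) :
    lamE (w ∘ ⇑((g.s : ↥Spor.M23) : Equiv.Perm GolayPt)⁻¹) = g * lamE w * g⁻¹ := by
  apply YE.ext
  · funext x
    rw [conj_q g (lamE w) rfl x]
    show lam (w ∘ ⇑((g.s : ↥Spor.M23) : Equiv.Perm GolayPt)⁻¹) x = lam w (g.s⁻¹ • x)
    unfold lam
    rw [inv_smul_val]
    refine (Equiv.sum_comp ((g.s : ↥Spor.M23) : Equiv.Perm GolayPt)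
      (fun p => (w ∘ ⇑((g.s : ↥Spor.M23) : Equiv.Perm GolayPt)⁻¹) p *
        (x : GolayPt → ZMod 2) p)).symm.trans ?_
    apply Finset.sum_congr rfl
    intro p _
    simp
  · exact (conj_s g (lamE w) rfl).symm

end Cfsg.Agent.Lib.Helper39.Pk
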