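import Cfsg.Agent.Lib.Helper39.PkMain

set_option autoImplicit false

/-!
# The cocycle extension of `M23` does not split
-/

namespace Cfsg.Agent.Lib.Helper39.Pk

open Cfsg Cfsg.Agent.Lib.Helper9 Cfsg.Agent.Lib.Helper39.YExt

/-- Evaluate a word in two elements (`false` for the first, `true` for the second). -/
def evW {M : Type*} [Monoid M] (a b : M) : List Bool → M
  | [] => 1
  | false :: w => a * evW a b w
  | true :: w => b * evW a b w

theorem evW_mem {G : Type*} [Group G] (H : Subgroup G) {a b : G} (ha : a ∈ H) (hb : b ∈ H)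
    (w : List Bool) : evW a b w ∈ H := by
  induction w with
  | nil => exact H.one_mem
  | cons l w ih =>
    cases l
    · exact H.mul_mem ha ih
    · exact H.mul_mem hb ih

theorem evW_s (a b : EP) (w : List Bool) : (evW a b w).s = evW a.s b.s w := by
  induction w with
  | nil => rfl
  | cons l w ih =>
    cases l
    · show a.s * (evW a b w).s = a.s * evW a.s b.s w
      rw [ih]
    · show b.s * (evW a b w).s = b.s * evW a.s b.s w
      rw [ih]

theorem evW_coe (a b : ↥Spor.M23) (w : List Bool) :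
    ((evW a b w : ↥Spor.M23) : Equiv.Perm GolayPt) =
      evW (a : Equiv.Perm GolayPt) (b : Equiv.Perm GolayPt) w := by
  induction w with
  | nil => rfl
  | cons l w ih =>
    cases l
    · show (a : Equiv.Perm GolayPt) * ((evW a b w : ↥Spor.M23) : Equiv.Perm GolayPt) = _
      rw [ih]
      rfl
    · show (b : Equiv.Perm GolayPt) * ((evW a b w : ↥Spor.M23) : Equiv.Perm GolayPt) = _
      rw [ih]
      rfl

/-- The table of a word in the shift and the cube twist. -/
def evT : List Bool → List ℕ
  | [] => idT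
  | false :: w => compT shiftT (evT w)
  | true :: w => compT cubeTwistT (evT w)

theorem hasTable_evW (w : List Bool) : HasTable (evW shiftPerm cubeTwist w) (evT w) := by
  induction w with
  | nil => exact hasTable_one
  | cons l w ih =>
    cases l
    · exact hasTable_mul hasTable_shift ih
    · exact hasTable_mul hasTable_cubeTwist ih

/-- The relators used in the non-splitting certificate (`false` = shift, `true` = cube twist). -/
def relW : List (List Bool) :=
  [[true, true, true, true, true],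
   [true, false, true, false, true, false, true, false, true, false, true, false],
   [true, true, false, true, true, false, true, true, false, true, true, false, true, true, false],
   [true, false, false, true, false, false, true, false, false, true, false, false, true, false, false, true, false, false, true, false, false],
   [true, true, true, false, true, false, true, true, true, false, true, false, true, true, true, false, true, false, true, true, true, false, true, false, true, true, true, false, true, false]]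

/-- The instances of the certificate: relator index and starting code. -/
def instL : List (ℕ × ℕ) := [(0, 1), (0, 2), (1, 1), (1, 8), (2, 1), (2, 2), (2, 4), (3, 1), (4, 2)]

theorem relW_tables : ∀ w ∈ relW, evT w = idT := by decide +kernel

theorem relW_one (w : List Bool) (hw : w ∈ relW) : evW sM cM w = 1 := by
  apply Subtype.ext
  rw [evW_coe]
  exact Cfsg.Agent.Lib.Helper96.eq_of_tables (hasTable_evW w) hasTable_one (relW_tables w hw)

/-- Model of the tracking of a word, with accumulators: (code, bit, xor of the codes visited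
after shift letters, xor of the codes visited after twist letters). -/
def runA : List Bool → ℕ → Bool → ℕ → ℕ → ℕ × Bool × ℕ × ℕ
  | [], k, e, ua, ub => (k, e, ua, ub)
  | false :: w, k, e, ua, ub => runA w (tabN TSP k) (e ^^ qB QSB k) (ua ^^^ tabN TSP k) ub
  | true :: w, k, e, ua, ub => runA w (tabN TCP k) (e ^^ qB QCB k) ua (ub ^^^ tabN TCP k)

theorem cd_zero : cd (0 : ↥Vs) = 0 := by
  have h := cd_add 0 0
  rw [add_zero, Nat.xor_self] at h
  exact h

theorem run_spec (ns nc : EP) (hns : ns.s = 1) (hnc : nc.s = 1) (w : List Bool) :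
    ∀ (x us uc : ↥Vs) (ε : ZMod 2) (e : Bool), ∃ (x' us' uc' : ↥Vs),
      trk (evW (liftS * ns) (liftC * nc) w) (x, ε + toZ e + ns.q us + nc.q uc) =
        (x', ε + toZ (runA w (cd x) e (cd us) (cd uc)).2.1 + ns.q us' + nc.q uc') ∧
      cd x' = (runA w (cd x) e (cd us) (cd uc)).1 ∧
      cd us' = (runA w (cd x) e (cd us) (cd uc)).2.2.1 ∧
      cd uc' = (runA w (cd x) e (cd us) (cd uc)).2.2.2 := by
  induction w with
  | nil =>
    intro x us uc ε e
    exact ⟨x, us, uc, trk_one _, rfl, rfl, rfl⟩
  | cons l w ih =>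
    intro x us uc ε e
    cases l
    · have hstep : trk (liftS * ns) (x, ε + toZ e + ns.q us + nc.q uc) =
          (sM⁻¹ • x, ε + toZ (e ^^ qB QSB (cd x)) + ns.q (us + sM⁻¹ • x) + nc.q uc) := by
        rw [trk_mul]
        show (ns.s⁻¹ • (sM⁻¹ • x), ε + toZ e + ns.q us + nc.q uc + toZ (qB QSB (cd x)) +
          ns.q (sM⁻¹ • x)) = _
        rw [hns, inv_one, one_smul, q_add_of_s_eq_one hns, toZ_xor]
        congr 1
        ring
      have hr : runA w (cd (sM⁻¹ • x)) (e ^^ qB QSB (cd x)) (cd (us + sM⁻¹ • x)) (cd uc) =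
          runA (false :: w) (cd x) e (cd us) (cd uc) := by
        rw [cd_add, cd_inv_sM]
        rfl
      obtain ⟨x', us', uc', h1, h2, h3, h4⟩ :=
        ih (sM⁻¹ • x) (us + sM⁻¹ • x) uc ε (e ^^ qB QSB (cd x))
      rw [hr] at h1 h2 h3 h4
      refine ⟨x', us', uc', ?_, h2, h3, h4⟩
      show trk ((liftS * ns) * evW (liftS * ns) (liftC * nc) w) _ = _
      rw [trk_mul, hstep, h1]
    · have hstep : trk (liftC * nc) (x, ε + toZ e + ns.q us + nc.q uc) =
          (cM⁻¹ • x, ε + toZ (e ^^ qB QCB (cd x)) + ns.q us + nc.q (uc + cM⁻¹ • x)) := by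
        rw [trk_mul]
        show (nc.s⁻¹ • (cM⁻¹ • x), ε + toZ e + ns.q us + nc.q uc + toZ (qB QCB (cd x)) +
          nc.q (cM⁻¹ • x)) = _
        rw [hnc, inv_one, one_smul, q_add_of_s_eq_one hnc, toZ_xor]
        congr 1
        ring
      have hr : runA w (cd (cM⁻¹ • x)) (e ^^ qB QCB (cd x)) (cd us) (cd (uc + cM⁻¹ • x)) =
          runA (true :: w) (cd x) e (cd us) (cd uc) := by
        rw [cd_add, cd_inv_cM]
        rfl
      obtain ⟨x', us', uc', h1, h2, h3, h4⟩ :=
        ih (cM⁻¹ • x) us (uc + cM⁻¹ • x) ε (e ^^ qB QCB (cd x))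
      rw [hr] at h1 h2 h3 h4
      refine ⟨x', us', uc', ?_, h2, h3, h4⟩
      show trk ((liftC * nc) * evW (liftS * ns) (liftC * nc) w) _ = _
      rw [trk_mul, hstep, h1]

/-- Aggregate of the model runs over a list of instances, threading the accumulators. -/
def aggA : List (ℕ × ℕ) → Bool → ℕ → ℕ → Bool × ℕ × ℕ
  | [], e, ua, ub => (e, ua, ub)
  | p :: L, e, ua, ub =>
    aggA L (runA (relW.getD p.1 []) p.2 e ua ub).2.1 (runA (relW.getD p.1 []) p.2 e ua ub).2.2.1
      (runA (relW.getD p.1 []) p.2 e ua ub).2.2.2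

theorem agg_spec (ns nc : EP) (hns : ns.s = 1) (hnc : nc.s = 1)
    (hrel : ∀ w ∈ relW, evW (liftS * ns) (liftC * nc) w = 1) (L : List (ℕ × ℕ))
    (hL : ∀ p ∈ L, p.1 < relW.length ∧ p.2 < 2048) :
    ∀ (us uc : ↥Vs) (e : Bool), ∃ us' uc' : ↥Vs,
      toZ e + ns.q us + nc.q uc =
        toZ (aggA L e (cd us) (cd uc)).1 + ns.q us' + nc.q uc' ∧
      cd us' = (aggA L e (cd us) (cd uc)).2.1 ∧ cd uc' = (aggA L e (cd us) (cd uc)).2.2 := by
  induction L with
  | nil =>
    intro us uc e
    exact ⟨us, uc, rfl, rfl, rfl⟩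
  | cons p L ih =>
    intro us uc e
    obtain ⟨hp1, hp2⟩ := hL p List.mem_cons_self
    have hw : relW.getD p.1 [] ∈ relW := by
      rw [List.getD_eq_getElem _ _ hp1]
      exact List.getElem_mem hp1
    obtain ⟨x, hx⟩ := exists_cd p.2 hp2
    obtain ⟨x', us1, uc1, h1, _, h3, h4⟩ := run_spec ns nc hns hnc (relW.getD p.1 []) x us uc 0 e
    rw [hrel _ hw, trk_one, hx] at h1
    have h5 := congrArg Prod.snd h1
    simp only [zero_add] at h5
    obtain ⟨us', uc', g1, g2, g3⟩ :=
      ih (fun q hq => hL q (List.mem_cons_of_mem _ hq)) us1 uc1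
        (runA (relW.getD p.1 []) p.2 e (cd us) (cd uc)).2.1
    rw [hx] at h3 h4
    rw [h3, h4] at g1 g2 g3
    exact ⟨us', uc', h5.trans g1, g2, g3⟩

theorem instL_ok : ∀ p ∈ instL, p.1 < relW.length ∧ p.2 < 2048 := by decide

theorem instL_agg : aggA instL false 0 0 = (true, 0, 0) := by decide +kernel

theorem no_complement (H : Subgroup EP) (h1 : H ⊓ NP = ⊥) : H ⊔ NP ≠ ⊤ := by
  intro h2
  have hS : liftS ∈ H ⊔ NP := by rw [h2]; exact Subgroup.mem_top _
  have hC : liftC ∈ H ⊔ NP := by rw [h2]; exact Subgroup.mem_top _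
  obtain ⟨a, ha, n, hn, han⟩ := Subgroup.mem_sup_of_normal_right.mp hS
  obtain ⟨b, hb, m, hm, hbm⟩ := Subgroup.mem_sup_of_normal_right.mp hC
  have hns : (n⁻¹ : EP).s = 1 := (mem_ker_iff _).mp (NP.inv_mem hn)
  have hnc : (m⁻¹ : EP).s = 1 := (mem_ker_iff _).mp (NP.inv_mem hm)
  have ha' : liftS * n⁻¹ ∈ H := by rw [← han, mul_inv_cancel_right]; exact ha
  have hb' : liftC * m⁻¹ ∈ H := by rw [← hbm, mul_inv_cancel_right]; exact hb
  have hrel : ∀ w ∈ relW, evW (liftS * n⁻¹) (liftC * m⁻¹) w = 1 := by
    intro w hw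
    have hH : evW (liftS * n⁻¹) (liftC * m⁻¹) w ∈ H := evW_mem H ha' hb' w
    have hN : evW (liftS * n⁻¹) (liftC * m⁻¹) w ∈ NP := by
      rw [mem_ker_iff, evW_s]
      have e1 : (liftS * n⁻¹).s = sM := by
        show sM * (n⁻¹ : EP).s = sM
        rw [hns, mul_one]
      have e2 : (liftC * m⁻¹).s = cM := by
        show cM * (m⁻¹ : EP).s = cM
        rw [hnc, mul_one]
      rw [e1, e2]
      exact relW_one w hw
    have hbot : evW (liftS * n⁻¹) (liftC * m⁻¹) w ∈ H ⊓ NP := ⟨hH, hN⟩
    rw [h1] at hbot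
    exact Subgroup.mem_bot.mp hbot
  obtain ⟨us', uc', g1, g2, g3⟩ :=
    agg_spec (n⁻¹) (m⁻¹) hns hnc hrel instL instL_ok 0 0 false
  rw [cd_zero, instL_agg] at g1 g2 g3
  have hu : us' = 0 := cd_eq_zero g2
  have hv : uc' = 0 := cd_eq_zero g3
  rw [hu, hv, q_zero_of_s_eq_one hns, q_zero_of_s_eq_one hnc] at g1
  revert g1
  decide

end Cfsg.Agent.Lib.Helper39.Pk
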