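import Cfsg.Agent.Lib.Helper39.PkMain

set_option autoImplicit false

/-!
# The cocycle extension of `M23`: every additive map on the module is a pairing
-/

namespace Cfsg.Agent.Lib.Helper39.Pk

open Cfsg Cfsg.Agent.Lib.Helper9 Cfsg.Agent.Lib.Helper39.YExt

theorem pow_lt_2048 (j : Fin 11) : 2 ^ (j : ℕ) < 2048 :=
  lt_of_lt_of_eq (Nat.pow_lt_pow_right (by norm_num) j.isLt) (by norm_num)

/-- Basis vectors of the module: the code word with code `2 ^ j`. -/
noncomputable def bv (j : Fin 11) : ↥Vs := Classical.choose (exists_cd (2 ^ (j : ℕ)) (pow_lt_2048 j))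

theorem cd_bv (j : Fin 11) : cd (bv j) = 2 ^ (j : ℕ) :=
  Classical.choose_spec (exists_cd (2 ^ (j : ℕ)) (pow_lt_2048 j))

theorem testBit_2047 : ∀ j : Fin 11, (2047 : ℕ).testBit (j : ℕ) = true := by decide

theorem val_pt (x : ↥Vs) (j : Fin 11) :
    (x : GolayPt → ZMod 2) (pt (12 + (j : ℕ))) = toZ ((cd x).testBit (j : ℕ)) := by
  rw [← dec_mk x]
  have hj : 12 + (j : ℕ) < 24 := by have := j.isLt; omega
  show (if (mk x).testBit (idx (pt (12 + (j : ℕ)))) then (1 : ZMod 2) else 0) = _
  rw [idx_pt hj]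
  unfold cd code toZ
  rw [Nat.testBit_and, Nat.testBit_shiftRight, testBit_2047 j, Bool.and_true]

theorem vs_add_self (x : ↥Vs) : x + x = 0 := by
  apply Subtype.ext
  funext p
  show (x : GolayPt → ZMod 2) p + (x : GolayPt → ZMod 2) p = 0
  exact add_self_zmod _

theorem low_bit : ∀ n < 2048, n ≠ 0 → ∃ j : Fin 11, n ^^^ 2 ^ (j : ℕ) < n := by decide +kernel

/-- The defect of `q` from the pairing built from its values on the basis. -/
noncomputable def rdef (q : ↥Vs → ZMod 2) (x : ↥Vs) : ZMod 2 :=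
  q x + ∑ j : Fin 11, q (bv j) * toZ ((cd x).testBit (j : ℕ))

theorem rdef_add (q : ↥Vs → ZMod 2) (hadd : ∀ x y, q (x + y) = q x + q y) (x y : ↥Vs) :
    rdef q (x + y) = rdef q x + rdef q y := by
  unfold rdef
  rw [hadd, cd_add]
  have h : ∀ j : Fin 11, q (bv j) * toZ ((cd x ^^^ cd y).testBit (j : ℕ)) =
      q (bv j) * toZ ((cd x).testBit (j : ℕ)) + q (bv j) * toZ ((cd y).testBit (j : ℕ)) := by
    intro j
    rw [Nat.testBit_xor, toZ_xor, mul_add]
  rw [Finset.sum_congr rfl (fun j _ => h j), Finset.sum_add_distrib]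
  ring

theorem rdef_bv (q : ↥Vs → ZMod 2) (j : Fin 11) : rdef q (bv j) = 0 := by
  unfold rdef
  rw [cd_bv]
  have h : ∀ i : Fin 11, q (bv i) * toZ ((2 ^ (j : ℕ)).testBit (i : ℕ)) =
      if i = j then q (bv j) else 0 := by
    intro i
    rw [Nat.testBit_two_pow]
    by_cases hij : i = j
    · subst hij
      simp [toZ]
    · have : ¬ ((j : ℕ) = (i : ℕ)) := fun h => hij (Fin.ext h.symm)
      simp [toZ, this, hij]
  rw [Finset.sum_congr rfl (fun i _ => h i), Finset.sum_ite_eq' Finset.univ j]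
  simp only [Finset.mem_univ, if_true]
  exact add_self_zmod _

theorem rdef_zero (q : ↥Vs → ZMod 2) (hadd : ∀ x y, q (x + y) = q x + q y) (x : ↥Vs) :
    rdef q x = 0 := by
  have key : ∀ n, ∀ x : ↥Vs, cd x = n → rdef q x = 0 := by
    intro n
    induction n using Nat.strong_induction_on with
    | _ n ih =>
      intro x hx
      by_cases hn : n = 0
      · have hx0 : x = 0 := cd_eq_zero (hx.trans hn)
        have h0 := rdef_add q hadd 0 0
        rw [add_zero] at h0
        rw [hx0]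
        have h2 := add_self_zmod (rdef q 0)
        rw [h2] at h0
        exact h0
      · have hlt : n < 2048 := by rw [← hx]; exact cd_lt x
        obtain ⟨j, hj⟩ := low_bit n hlt hn
        have hx' : cd (x + bv j) = n ^^^ 2 ^ (j : ℕ) := by rw [cd_add, hx, cd_bv]
        have h1 := ih _ hj (x + bv j) hx'
        have h2 := rdef_add q hadd (x + bv j) (bv j)
        rw [add_assoc, vs_add_self, add_zero, h1, rdef_bv, add_zero] at h2
        exact h2
  exact key _ x rfl

theorem lam_single (c : ZMod 2) (i : GolayPt) (x : ↥Vs) :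
    lam (c • (Pi.single i (1 : ZMod 2) : GolayPt → ZMod 2)) x = c * (x : GolayPt → ZMod 2) i := by
  unfold lam
  rw [Fintype.sum_eq_single i]
  · simp
  · intro p hp
    simp [Pi.single_eq_of_ne hp]

theorem lam_sum {ι : Type*} (s : Finset ι) (f : ι → GolayPt → ZMod 2) (x : ↥Vs) :
    lam (∑ j ∈ s, f j) x = ∑ j ∈ s, lam (f j) x := by
  classical
  induction s using Finset.induction_on with
  | empty => simp [lam_zero_left]
  | insert a s ha ih => rw [Finset.sum_insert ha, Finset.sum_insert ha, lam_add_left, ih]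

theorem exists_lam (q : ↥Vs → ZMod 2) (hadd : ∀ x y, q (x + y) = q x + q y) :
    ∃ w : GolayPt → ZMod 2, ∀ x, q x = lam w x := by
  refine ⟨∑ j : Fin 11, q (bv j) • (Pi.single (pt (12 + (j : ℕ))) (1 : ZMod 2) : GolayPt → ZMod 2),
    fun x => ?_⟩
  rw [lam_sum]
  have h : ∀ j : Fin 11, lam (q (bv j) • (Pi.single (pt (12 + (j : ℕ))) (1 : ZMod 2) :
      GolayPt → ZMod 2)) x = q (bv j) * toZ ((cd x).testBit (j : ℕ)) := by
    intro j
    rw [lam_single, val_pt]
  rw [Finset.sum_congr rfl (fun j _ => h j)]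
  have h0 := rdef_zero q hadd x
  unfold rdef at h0
  have h2 := add_self_zmod (∑ j : Fin 11, q (bv j) * toZ ((cd x).testBit (j : ℕ)))
  linear_combination h0 - h2

theorem ThetaHom_surjective : Function.Surjective ThetaHom := by
  intro n
  have hs : ((n.toMul : ↥NP) : EP).s = 1 := (mem_ker_iff _).mp (n.toMul : ↥NP).2
  obtain ⟨w, hw⟩ := exists_lam ((n.toMul : ↥NP) : EP).q (q_add_of_s_eq_one hs)
  refine ⟨w, ?_⟩
  apply Additive.toMul.injective
  apply Subtype.ext
  apply YE.ext
  · funext x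
    exact (hw x).symm
  · exact hs.symm

end Cfsg.Agent.Lib.Helper39.Pk
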