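import Mathlib
import Cfsg.Prelude.Def_GeometricClasses
import Cfsg.Prelude.Def_LieClassical

/-!
# Project SU4 (helper50, S5784), auxiliary lemmas for piece Q3MON (helper39)

Generic facts over a field with `9` elements for any subgroup `R ≤ GL_4(F)` containing the
scalar `ι • 1` with `ι ^ 2 = -1`: `R ⊓ scalars` does not have two elements, and `R` is not
realisable over a proper subfield.
-/

set_option autoImplicit false
set_option linter.unusedSectionVars false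

namespace Cfsg.Agent.Lib.Helper39.SU4Q3AUX

open Matrix Cfsg.Geo

variable {F : Type*} [Field F] [Fintype F] {q : ℕ}

theorem su4q3_two_ne_zero (hF : Fintype.card F = q ^ 2) (hq : q = 3) : (2 : F) ≠ 0 := by
  intro h2
  have hc : CharP F 2 := CharTwo.of_one_ne_zero_of_two_eq_zero one_ne_zero h2
  obtain ⟨n, -, hn⟩ := FiniteField.card F 2
  rw [hF, hq] at hn
  have h3 : (2 : ℕ) ∣ 3 ^ 2 := by
    rw [hn]
    exact dvd_pow_self 2 n.ne_zero
  omega

theorem su4q3_exists_i (hF : Fintype.card F = q ^ 2) (hq : q = 3) : ∃ ι : F, ι ^ 2 = -1 := by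
  have h : IsSquare (-1 : F) := by
    rw [FiniteField.isSquare_neg_one_iff, hF, hq]
    decide
  obtain ⟨r, hr⟩ := h
  exact ⟨r, by rw [pow_two, ← hr]⟩

/-- the combined form used by the Q3MON assembly -/
theorem su4q3_exists_i_two (hF : Fintype.card F = q ^ 2) (hq : q = 3) :
    (∃ ι : F, ι ^ 2 = -1) ∧ (2 : F) ≠ 0 :=
  ⟨su4q3_exists_i hF hq, su4q3_two_ne_zero hF hq⟩

theorem su4q3_i_ne_zero (ι : F) (hι : ι ^ 2 = -1) : ι ≠ 0 := by
  intro h0
  rw [h0] at hι
  have h1 : (1 : F) = 0 := by linear_combination hι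
  exact one_ne_zero h1

theorem su4q3_card_ne_two (R : Subgroup (GL (Fin 4) F)) (ι : F) (hι : ι ^ 2 = -1)
    (h2 : (2 : F) ≠ 0) (z : GL (Fin 4) F) (hz : z.1 = ι • 1) (hzR : z ∈ R) :
    Nat.card ↥(R ⊓ scalars (Fin 4) F) ≠ 2 := by
  intro hcard
  have hι0 : ι ≠ 0 := su4q3_i_ne_zero ι hι
  have hzs : z ∈ scalars (Fin 4) F :=
    (mem_scalars_iff z).mpr ⟨Units.mk0 ι hι0, by rw [hz]; rfl⟩
  have hmem : z ∈ R ⊓ scalars (Fin 4) F := ⟨hzR, hzs⟩
  have h1 : (⟨z, hmem⟩ : ↥(R ⊓ scalars (Fin 4) F)) ^ 2 = 1 := by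
    rw [← hcard]
    exact pow_card_eq_one'
  have h3 : z ^ 2 = 1 := by
    have h := congrArg Subtype.val h1
    simpa using h
  have h4 : (z ^ 2).1 = 1 := by
    rw [h3]
    rfl
  rw [Units.val_pow_eq_pow_val, hz, smul_pow, one_pow, hι] at h4
  have h6 : ((-1 : F) • (1 : Matrix (Fin 4) (Fin 4) F)) 0 0 = (1 : Matrix (Fin 4) (Fin 4) F) 0 0 := by
    rw [h4]
  rw [Matrix.smul_apply, Matrix.one_apply_eq, smul_eq_mul, mul_one] at h6
  apply h2
  linear_combination (-1 : F) * h6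

theorem su4q3_not_real (hF : Fintype.card F = q ^ 2) (hq : q = 3)
    (R : Subgroup (GL (Fin 4) F)) (ι : F) (hι : ι ^ 2 = -1) (z : GL (Fin 4) F)
    (hz : z.1 = ι • 1) (hzR : z ∈ R) :
    ¬ ∃ F₁ : Subfield F, F₁ ≠ ⊤ ∧ RealisableOver F₁ (matrixSet R) := by
  rintro ⟨F₁, hne, B, hB⟩
  have h2 : (2 : F) ≠ 0 := su4q3_two_ne_zero hF hq
  have hι0 : ι ≠ 0 := su4q3_i_ne_zero ι hι
  have hmem : (ι • (1 : Matrix (Fin 4) (Fin 4) F)) ∈ matrixSet R := ⟨z, hzR, hz⟩
  have h1 := hB _ hmem 0 0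
  have e : (B : Matrix (Fin 4) (Fin 4) F) * (ι • (1 : Matrix (Fin 4) (Fin 4) F)) *
      ((B⁻¹ : GL (Fin 4) F) : Matrix (Fin 4) (Fin 4) F) = ι • 1 := by
    rw [Matrix.mul_smul, Matrix.mul_one, Matrix.smul_mul, ← Units.val_mul, mul_inv_cancel,
      Units.val_one]
  rw [e, Matrix.smul_apply, Matrix.one_apply_eq, smul_eq_mul, mul_one] at h1
  -- `ι ∈ F₁`; the cardinality of `F₁` divides `9`
  have hdvd : Nat.card ↥F₁.toSubring.toAddSubgroup ∣ Nat.card F :=
    AddSubgroup.card_addSubgroup_dvd_card _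
  have hcF : Nat.card F = 3 ^ 2 := by
    rw [Nat.card_eq_fintype_card, hF, hq]
  rw [hcF] at hdvd
  obtain ⟨k, hk, hk'⟩ := (Nat.dvd_prime_pow Nat.prime_three).mp hdvd
  have hcard1 : Nat.card ↥F₁ = 3 ^ k := hk'
  have hk3 : k = 0 ∨ k = 1 ∨ k = 2 := by omega
  rcases hk3 with rfl | rfl | rfl
  · have h := Finite.one_lt_card (α := ↥F₁)
    rw [hcard1] at h
    omega
  · haveI : Fintype ↥F₁ := Fintype.ofFinite _
    have hx : ∀ x : ↥F₁, x ^ 3 = x := by
      intro x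
      have h := FiniteField.pow_card x
      have hc : Fintype.card ↥F₁ = 3 := by
        rw [← Nat.card_eq_fintype_card, hcard1, pow_one]
      rw [hc] at h
      exact h
    have h3 := congrArg Subtype.val (hx ⟨ι, h1⟩)
    have h4 : ι ^ 3 = ι := h3
    have h5 : (2 : F) * ι = 0 := by linear_combination -h4 + ι * hι
    rcases mul_eq_zero.mp h5 with h | h
    · exact h2 h
    · exact hι0 h
  · apply hne
    have htop : F₁.toSubring.toAddSubgroup = ⊤ := by
      apply AddSubgroup.eq_top_of_card_eq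
      rw [hk', hcF]
    rw [eq_top_iff]
    intro x _
    have hx : x ∈ F₁.toSubring.toAddSubgroup := by
      rw [htop]
      exact AddSubgroup.mem_top x
    exact hx

end Cfsg.Agent.Lib.Helper39.SU4Q3AUX
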