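import Mathlib
import Cfsg.Prelude.Def_GeometricClasses
import Cfsg.Prelude.Def_LieClassical
import Cfsg.Agent.Lib.Helper18.Unitary

/-!
# Project SU4 (helper50, S5784), auxiliary lemma for piece Q3MON (helper39)

A non-degenerate 1-decomposition for the hermitian form is spanned by the columns of a unitary
matrix (an orthonormal frame).
-/

set_option autoImplicit false
set_option linter.unusedSectionVars false

namespace Cfsg.Agent.Lib.Helper39.SU4Q3FRM

open Matrix Cfsg.Geo Cfsg.Agent.Lib.Helper7 Cfsg.Agent.Lib.Helper18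

variable {F : Type*} [Field F] [Fintype F] {q : ℕ}

theorem su4q3_frame_vec (hF : Fintype.card F = q ^ 2) {n : ℕ}
    (D : Fin n → Submodule F (Fin n → F))
    (hD : IsNondegenerateMDecomposition (Cfsg.hermForm n F q) 1 D) (j : Fin n) :
    ∃ d : Fin n → F, d ∈ D j ∧ D j = Submodule.span F {d} ∧ Cfsg.hermForm n F q d d = 1 := by
  obtain ⟨v, hv0, hv⟩ := finrank_eq_one_iff'.mp (hD.decomp.finrank_eq j)
  have hw0 : (v : Fin n → F) ≠ 0 := fun h => hv0 (Subtype.ext h)
  have hspan : D j = Submodule.span F {(v : Fin n → F)} := by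
    apply le_antisymm
    · intro x hx
      obtain ⟨c, hc⟩ := hv ⟨x, hx⟩
      have hc' : c • (v : Fin n → F) = x := congrArg Subtype.val hc
      rw [← hc']
      exact Submodule.smul_mem _ _ (Submodule.mem_span_singleton_self _)
    · rw [Submodule.span_singleton_le_iff_mem]
      exact v.2
  obtain ⟨⟨x, hx, hxw⟩, -⟩ := hD.nondegenerate j (v : Fin n → F) v.2 hw0
  have ha : Cfsg.hermForm n F q (v : Fin n → F) (v : Fin n → F) ≠ 0 := by
    intro h0
    obtain ⟨c, hc⟩ := hv ⟨x, hx⟩
    have hc' : c • (v : Fin n → F) = x := congrArg Subtype.val hc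
    apply hxw
    rw [← hc', hf_smul_left, h0, mul_zero]
  have hfix : (Cfsg.hermForm n F q (v : Fin n → F) (v : Fin n → F))⁻¹ ^ q =
      (Cfsg.hermForm n F q (v : Fin n → F) (v : Fin n → F))⁻¹ := by
    rw [inv_pow, hf_self_pow hF]
  obtain ⟨t, ht0, ht⟩ := herm_norm_surj hF _ (inv_ne_zero ha) hfix
  refine ⟨t • (v : Fin n → F), Submodule.smul_mem _ _ v.2, ?_, ?_⟩
  · exact hspan.trans (Submodule.span_singleton_smul_eq (IsUnit.mk0 t ht0) _).symm
  · rw [hf_smul_left, hf_smul_right, ← mul_assoc, ← pow_succ', ht, inv_mul_cancel₀ ha]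

/-- an orthonormal frame adapted to a non-degenerate 1-decomposition, as a unitary matrix -/
theorem su4q3_frame (hF : Fintype.card F = q ^ 2) {n : ℕ}
    (D : Fin n → Submodule F (Fin n → F))
    (hD : IsNondegenerateMDecomposition (Cfsg.hermForm n F q) 1 D) :
    ∃ g : GL (Fin n) F, g ∈ Cfsg.GU n F q ∧
      ∀ j, D j = Submodule.span F {g.1 *ᵥ Pi.single j 1} := by
  classical
  choose d hdm hds hd1 using su4q3_frame_vec hF D hD
  have hfr : IsFr q n n (colFr (Matrix.of (fun l i => d i l) : Matrix (Fin n) (Fin n) F)) := by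
    intro i j
    have e : ∀ i, colFr (Matrix.of (fun l i => d i l) : Matrix (Fin n) (Fin n) F) i = d i := by
      intro i
      funext l
      rfl
    rw [e i, e j]
    by_cases hij : i = j
    · subst hij
      rw [if_pos rfl, hd1]
    · rw [if_neg hij]
      exact hD.orthogonal i j hij (d i) (hdm i) (d j) (hdm j)
  have hpres := preserves_of_isFr hF _ hfr
  obtain ⟨g, hg⟩ := isUnit_of_preserves hF _ hpres
  refine ⟨g, ?_, fun j => ?_⟩
  · rw [mem_GU_iff, hg]
    exact hpres
  · rw [hg, Matrix.mulVec_single_one, hds j]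
    rfl

end Cfsg.Agent.Lib.Helper39.SU4Q3FRM
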