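import Mathlib
import Cfsg.Prelude.Def_GeometricClasses
import Cfsg.Prelude.Def_LieClassical
import Cfsg.Agent.Lib.Helper39.SU4Q3FRM

/-! Project SU4 (helper50, S5784), sub-piece Q3FRAME of Q3MON (helper39): an orthogonal frame is
the image of the standard frame under a unitary matrix. -/

set_option autoImplicit false
set_option linter.unusedSectionVars false
set_option linter.unusedVariables false

namespace Cfsg.Agent.Lib.Helper39.SU4Q3FRAME

open Matrix Cfsg.Geo

variable {F : Type*} [Field F] [Fintype F] {q : ℕ}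

/-- Q3FRAME: for `q = 3` an orthogonal frame is the image of the standard frame under a unitary
matrix. -/
theorem Q3FRAME (hF : Fintype.card F = q ^ 2) (hq : q = 3) (D : Fin 4 → Submodule F (Fin 4 → F))
    (hD : IsNondegenerateMDecomposition (Cfsg.hermForm 4 F q) 1 D) :
    ∃ g : GL (Fin 4) F, g ∈ Cfsg.GU 4 F q ∧
      ∀ j, D j = Submodule.span F {g.1 *ᵥ (Pi.single j 1 : Fin 4 → F)} :=
  Cfsg.Agent.Lib.Helper39.SU4Q3FRM.su4q3_frame hF D hD

end Cfsg.Agent.Lib.Helper39.SU4Q3FRAME
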