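import Cfsg.Agent.Lib.Helper39.SuzED0

set_option maxRecDepth 100000
set_option maxHeartbeats 0

namespace Cfsg.Agent.Lib.Helper39.SuzE
open Cfsg.Agent.Lib.Helper38

noncomputable def rTRoot : BT := .node 64 (.node 32 (.node 16 (rT0) (rT1)) (.node 48 (rT2) (rT3))) (.node 96 (.node 80 (rT4) (rT5)) (rT6))
noncomputable def nTRoot : BT := .node 16 (nT0) (nT1)

/-- the certificate -/
noncomputable def cert : Cert where
  g := 5
  m := 857
  n := 280
  R := 2232
  fuel := 5
  nw := 21
  nrel := 12
  nsub := 17
  lg := 3
  lmask := 7
  rW := 287
  eW := 46
  mv := 1023
  mr := 4095
  mw := 31
  mt := 127
  ml := 7
  oR := 10
  oK := 22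
  oW := 24
  oT := 29
  oU := 36
  oM := 230
  oMR := 240
  oMW := 252
  oMT := 257
  oMU := 264
  oP := 274
  oL := 284
  rows := rTRoot
  wW := 241
  wt := 7
  wl := 3
  WD := 0x18100000000000000000000000000000000000000000000000000000000008080000000000000000000000000000000000000000000000000000000002040000000000000000000000000000000000000000000000000000000000020000000000000000000000000000000000000000000000000000000012020000000000000000000000000000000000000000000000000000000006c100000000000000000000000000000000000000000000000000000000024080000000000000000000000000000000000000000000000000000000009040000000000000000000000000000000000000000000000000000000000028d345a68b4d169a2d34634d169a2d345a68b4d18d345a68b4d169a2d346700000000000000000000000000000000000000000000000000004d34d302400000000000000000000000000000000000000000000000000000238e30c00000000000000000000000000000000000000000000000000000004510400000000000000000000000000000000000000000000001a69a69a69a688000000000000000000000000000000000000000000000000000000010c2100000000000000000000000000000000000000000000000000000000659080000000000000000000000000000000000000000000000000000008a288600000000000000000000000000000000000000000000000000000002080200000000000000000000000000000000000000000000000000000000c301000000000000000000000000000000000000000000000000000000004100800000000000000000000000000000000000000000000000000041041040a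
  lgN := 4
  lmaskN := 15
  nW := 95
  wv := 10
  oCan := 50
  oPN := 60
  oLN := 70
  oComp := 73
  mc := 3
  oOP := 75
  oOW := 85
  oOD := 90
  md := 15
  oODir := 94
  ncomp := 4
  ROOTS := 0x640800400
  nrows := nTRoot

end Cfsg.Agent.Lib.Helper39.SuzE
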