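import Cfsg.Agent.Lib.Helper39.SuzFD0

set_option maxRecDepth 100000
set_option maxHeartbeats 0

namespace Cfsg.Agent.Lib.Helper39.SuzF
open Cfsg.Agent.Lib.Helper38

noncomputable def rTRoot : BT := .node 96 (.node 48 (.node 32 (.node 16 (rT0) (rT1)) (rT2)) (.node 80 (.node 64 (rT3) (rT4)) (rT5))) (.node 144 (.node 128 (.node 112 (rT6) (rT7)) (rT8)) (.node 176 (.node 160 (rT9) (rT10)) (rT11)))
noncomputable def nTRoot : BT := .node 16 (nT0) (nT1)

/-- the certificate -/
noncomputable def cert : Cert where
  g := 6
  m := 1457
  n := 416
  R := 4161
  fuel := 7
  nw := 29
  nrel := 18
  nsub := 24
  lg := 3
  lmask := 7
  rW := 355
  eW := 49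
  mv := 2047
  mr := 8191
  mw := 31
  mt := 127
  ml := 7
  oR := 11
  oK := 24
  oW := 26
  oT := 31
  oU := 38
  oM := 294
  oMR := 305
  oMW := 318
  oMT := 323
  oMU := 330
  oP := 341
  oL := 352
  rows := rTRoot
  wW := 241
  wt := 7
  wl := 3
  WD := 0x2010000000000000000000000000000000000000000000000000000000000c08000000000000000000000000000000000000000000000000000000000404000000000000000000000000000000000000000000000000000000000102000000000000000000000000000000000000000000000000000000000001000000000000000000000000000000000000000000000000000000000b410000000000000000000000000000000000000000000000000000000004808000000000000000000000000000000000000000000000000000000001b04000000000000000000000000000000000000000000000000000000000902000000000000000000000000000000000000000000000000000000000241000000000000000000000000000000000000000000000000000000000000a34d169a2d345a68b4d18d345a68b4d169a2d34634d169a2d345a68b4d19c00000000000000000000000000000000000000000005445445445445441400000000000000000000000000000000000000000000000000009a69a60480000000000000000000000000000000000000000000000000000001658100000000000000000000000000000000000000000000000000000000aeb080000000000000000000000000000000000000000000000000000011c718600000000000000000000000000000000000000000000000000000002aa820000000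000000000000000000000000000000000000000000000000114410000000000000000000000000000000000000000000000069a69a69a69a200000000000000000000000000000000000000000000000000000014d348600000000000000000000000000000000000000000000000000000002184200000000000000000000000000000000000000000000000000000000cb21000000000000000000000000000000000000000000000000000000114510c00000000000000000000000000000000000000000000000000000005140400000000000000000000000000000000000000000000000000000002080200000000000000000000000000000000000000000000000000000000c301000000000000000000000000000000000000000000000000000000004100800000000000000000000000000000000000000000000000000041041040a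
  lgN := 4
  lmaskN := 15
  nW := 115
  wv := 11
  oCan := 66
  oPN := 77
  oLN := 88
  oComp := 91
  mc := 3
  oOP := 93
  oOW := 104
  oOD := 109
  md := 31
  oODir := 114
  ncomp := 3
  ROOTS := 0x9800800
  nrows := nTRoot

end Cfsg.Agent.Lib.Helper39.SuzF
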