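import Mathlib
import Cfsg.Prelude.Def_GeometricClasses
import Cfsg.Prelude.Def_LieClassical
import Cfsg.Agent.Lib.Helper18.Unitary

/-!
# Project U9 (helper44, S5832), piece NF3U

Two non-degenerate hermitian `3 × 3` Gram matrices over a field with `q ^ 2` elements are
congruent: each has an orthonormal basis for `(x, y) ↦ ∑ x_a G_ab y_b ^ q` (Gram-Schmidt with
non-isotropic vectors, then the norm map is onto the fixed field).
-/

set_option autoImplicit false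
set_option linter.unusedSectionVars false

namespace Cfsg.Agent.Lib.Helper44.U9

open Matrix Cfsg.Geo

variable {n : ℕ} {F : Type*} [Field F] [Fintype F] {q : ℕ}

/-- the ring homomorphism `x ↦ x ^ q` -/
def NF3U_sig (hF : Fintype.card F = q ^ 2) : F →+* F where
  toFun x := x ^ q
  map_one' := one_pow q
  map_mul' x y := mul_pow x y q
  map_zero' := zero_pow (Cfsg.Agent.Lib.Helper7.herm_q_ne_zero hF)
  map_add' x y := Cfsg.Agent.Lib.Helper7.herm_add_pow hF x y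

theorem NF3U_sig_apply (hF : Fintype.card F = q ^ 2) (x : F) : NF3U_sig hF x = x ^ q := rfl

theorem NF3U_sig_sig (hF : Fintype.card F = q ^ 2) (x : F) :
    NF3U_sig hF (NF3U_sig hF x) = x := by
  rw [NF3U_sig_apply, NF3U_sig_apply]
  exact Cfsg.Agent.Lib.Helper7.herm_pow_pow hF x

/-- the sesquilinear form with Gram matrix `G` -/
def NF3U_h (σ : F →+* F) (G : Matrix (Fin 3) (Fin 3) F) (x y : Fin 3 → F) : F :=
  x ⬝ᵥ (G *ᵥ (fun b => σ (y b)))

theorem NF3U_h_add_left (σ : F →+* F) (G : Matrix (Fin 3) (Fin 3) F) (x x' y : Fin 3 → F) :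
    NF3U_h σ G (x + x') y = NF3U_h σ G x y + NF3U_h σ G x' y := by
  unfold NF3U_h
  rw [add_dotProduct]

theorem NF3U_h_smul_left (σ : F →+* F) (G : Matrix (Fin 3) (Fin 3) F) (c : F)
    (x y : Fin 3 → F) : NF3U_h σ G (c • x) y = c * NF3U_h σ G x y := by
  unfold NF3U_h
  rw [smul_dotProduct, smul_eq_mul]

theorem NF3U_h_add_right (σ : F →+* F) (G : Matrix (Fin 3) (Fin 3) F) (x y y' : Fin 3 → F) :
    NF3U_h σ G x (y + y') = NF3U_h σ G x y + NF3U_h σ G x y' := by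
  unfold NF3U_h
  have e : (fun b => σ ((y + y') b)) = (fun b => σ (y b)) + (fun b => σ (y' b)) := by
    funext b
    simp
  rw [e, mulVec_add, dotProduct_add]

theorem NF3U_h_smul_right (σ : F →+* F) (G : Matrix (Fin 3) (Fin 3) F) (c : F)
    (x y : Fin 3 → F) : NF3U_h σ G x (c • y) = σ c * NF3U_h σ G x y := by
  unfold NF3U_h
  have e : (fun b => σ ((c • y) b)) = σ c • (fun b => σ (y b)) := by
    funext b
    simp
  rw [e, mulVec_smul, dotProduct_smul, smul_eq_mul]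

theorem NF3U_h_zero_right (σ : F →+* F) (G : Matrix (Fin 3) (Fin 3) F) (x : Fin 3 → F) :
    NF3U_h σ G x 0 = 0 := by
  unfold NF3U_h
  have e : (fun b => σ ((0 : Fin 3 → F) b)) = 0 := by
    funext b
    simp
  rw [e, mulVec_zero, dotProduct_zero]

theorem NF3U_h_sum_left (σ : F →+* F) (G : Matrix (Fin 3) (Fin 3) F) {ι : Type*}
    (s : Finset ι) (f : ι → Fin 3 → F) (y : Fin 3 → F) :
    NF3U_h σ G (∑ i ∈ s, f i) y = ∑ i ∈ s, NF3U_h σ G (f i) y := by
  unfold NF3U_h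
  rw [sum_dotProduct]

theorem NF3U_h_sum_right (σ : F →+* F) (G : Matrix (Fin 3) (Fin 3) F) {ι : Type*}
    (s : Finset ι) (x : Fin 3 → F) (f : ι → Fin 3 → F) :
    NF3U_h σ G x (∑ i ∈ s, f i) = ∑ i ∈ s, NF3U_h σ G x (f i) := by
  classical
  induction s using Finset.induction_on with
  | empty => simp [NF3U_h_zero_right]
  | insert a s ha ih =>
    rw [Finset.sum_insert ha, Finset.sum_insert ha, NF3U_h_add_right, ih]

theorem NF3U_h_conj (σ : F →+* F) (G : Matrix (Fin 3) (Fin 3) F)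
    (hG : ∀ a b, G a b = σ (G b a)) (hσ : ∀ x, σ (σ x) = x) (x y : Fin 3 → F) :
    σ (NF3U_h σ G x y) = NF3U_h σ G y x := by
  unfold NF3U_h
  simp only [dotProduct, mulVec, map_sum, map_mul, hσ, Finset.mul_sum]
  rw [Finset.sum_comm]
  refine Finset.sum_congr rfl (fun b _ => Finset.sum_congr rfl (fun a _ => ?_))
  rw [hG b a]
  ring

theorem NF3U_entry (σ : F →+* F) (G B : Matrix (Fin 3) (Fin 3) F) (i j : Fin 3) :
    (Bᵀ * G * B.map σ) i j = NF3U_h σ G (fun a => B a i) (fun a => B a j) := by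
  unfold NF3U_h
  simp only [Matrix.mul_apply, Matrix.transpose_apply, Matrix.map_apply, dotProduct, mulVec,
    Finset.sum_mul, Finset.mul_sum]
  rw [Finset.sum_comm]
  refine Finset.sum_congr rfl (fun a _ => Finset.sum_congr rfl (fun b _ => ?_))
  ring

theorem NF3U_nondeg (σ : F →+* F) (G : Matrix (Fin 3) (Fin 3) F) (hd : G.det ≠ 0)
    (x : Fin 3 → F) (hx : x ≠ 0) : ∃ y, NF3U_h σ G x y ≠ 0 := by
  classical
  by_contra hcon
  have hcon' : ∀ y, NF3U_h σ G x y = 0 := fun y => by_contra (fun h => hcon ⟨y, h⟩)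
  apply hx
  apply Matrix.eq_zero_of_vecMul_eq_zero hd
  funext b
  have h1 := hcon' (Pi.single b 1)
  have e : (fun c => σ ((Pi.single b (1 : F) : Fin 3 → F) c)) = Pi.single b 1 := by
    funext c
    by_cases hc : c = b
    · subst hc
      simp
    · simp [Pi.single_eq_of_ne hc]
  unfold NF3U_h at h1
  rw [e, Matrix.mulVec_single_one] at h1
  exact h1

theorem NF3U_niso (hF : Fintype.card F = q ^ 2) (G : Matrix (Fin 3) (Fin 3) F)
    (hG : ∀ a b, G a b = NF3U_sig hF (G b a)) (x y : Fin 3 → F)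
    (hxy : NF3U_h (NF3U_sig hF) G x y ≠ 0) :
    ∃ α β : F, NF3U_h (NF3U_sig hF) G (α • x + β • y) (α • x + β • y) ≠ 0 := by
  by_contra hcon
  have hcon' : ∀ α β : F, NF3U_h (NF3U_sig hF) G (α • x + β • y) (α • x + β • y) = 0 :=
    fun α β => by_contra (fun h => hcon ⟨α, β, h⟩)
  have hxx : NF3U_h (NF3U_sig hF) G x x = 0 := by
    have h := hcon' 1 0
    simpa using h
  have hyy : NF3U_h (NF3U_sig hF) G y y = 0 := by
    have h := hcon' 0 1
    simpa using h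
  have key : ∀ α : F, α * NF3U_h (NF3U_sig hF) G x y
      + NF3U_sig hF (α * NF3U_h (NF3U_sig hF) G x y) = 0 := by
    intro α
    have e := hcon' α 1
    rw [one_smul] at e
    simp only [NF3U_h_add_left, NF3U_h_add_right, NF3U_h_smul_left, NF3U_h_smul_right, hxx, hyy,
      mul_zero, zero_add, add_zero] at e
    rw [← NF3U_h_conj (NF3U_sig hF) G hG (NF3U_sig_sig hF) x y, ← map_mul] at e
    rw [add_comm]
    exact e
  obtain ⟨l, hl⟩ := Cfsg.Agent.Lib.Helper18.exists_trace_one hF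
  have e := key (l / NF3U_h (NF3U_sig hF) G x y)
  rw [div_mul_cancel₀ l hxy] at e
  rw [NF3U_sig_apply, hl] at e
  exact one_ne_zero e

theorem NF3U_next (hF : Fintype.card F = q ^ 2) (G : Matrix (Fin 3) (Fin 3) F)
    (hG : ∀ a b, G a b = NF3U_sig hF (G b a)) (hd : G.det ≠ 0) (k : ℕ) (hk : k < 3)
    (v : Fin k → Fin 3 → F)
    (hv0 : ∀ i j, i ≠ j → NF3U_h (NF3U_sig hF) G (v i) (v j) = 0)
    (hv1 : ∀ i, NF3U_h (NF3U_sig hF) G (v i) (v i) ≠ 0) :
    ∃ w : Fin 3 → F, (∀ i, NF3U_h (NF3U_sig hF) G w (v i) = 0) ∧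
      NF3U_h (NF3U_sig hF) G w w ≠ 0 := by
  classical
  let φ : (Fin 3 → F) →ₗ[F] (Fin k → F) :=
    { toFun := fun x i => NF3U_h (NF3U_sig hF) G x (v i)
      map_add' := fun x x' => by
        funext i
        exact NF3U_h_add_left _ _ _ _ _
      map_smul' := fun c x => by
        funext i
        simp only [NF3U_h_smul_left, RingHom.id_apply, Pi.smul_apply, smul_eq_mul] }
  have hlt : Module.finrank F (Fin k → F) < Module.finrank F (Fin 3 → F) := by
    rw [Module.finrank_fin_fun, Module.finrank_fin_fun]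
    exact hk
  have hker : LinearMap.ker φ ≠ ⊥ := LinearMap.ker_ne_bot_of_finrank_lt hlt
  obtain ⟨x, hxk, hx0⟩ := (Submodule.ne_bot_iff _).mp hker
  have hxv : ∀ i, NF3U_h (NF3U_sig hF) G x (v i) = 0 :=
    fun i => congrFun (LinearMap.mem_ker.mp hxk) i
  obtain ⟨y, hy⟩ := NF3U_nondeg (NF3U_sig hF) G hd x hx0
  obtain ⟨c, hc⟩ : ∃ c : Fin k → F, ∀ i, c i =
      -(NF3U_h (NF3U_sig hF) G y (v i) / NF3U_h (NF3U_sig hF) G (v i) (v i)) :=
    ⟨fun i => -(NF3U_h (NF3U_sig hF) G y (v i) / NF3U_h (NF3U_sig hF) G (v i) (v i)),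
      fun i => rfl⟩
  obtain ⟨y', hy'⟩ : ∃ y' : Fin 3 → F, y' = y + ∑ i, c i • v i := ⟨_, rfl⟩
  have hy'v : ∀ j, NF3U_h (NF3U_sig hF) G y' (v j) = 0 := by
    intro j
    rw [hy', NF3U_h_add_left, NF3U_h_sum_left]
    simp only [NF3U_h_smul_left]
    rw [Finset.sum_eq_single j]
    · rw [hc j, neg_mul, div_mul_cancel₀ _ (hv1 j), add_neg_cancel]
    · intro i _ hij
      rw [hv0 i j hij, mul_zero]
    · intro hj
      exact absurd (Finset.mem_univ j) hj
  have hxy' : NF3U_h (NF3U_sig hF) G x y' ≠ 0 := by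
    rw [hy', NF3U_h_add_right, NF3U_h_sum_right]
    simp only [NF3U_h_smul_right, hxv, mul_zero, Finset.sum_const_zero, add_zero]
    exact hy
  obtain ⟨α, β, hαβ⟩ := NF3U_niso hF G hG x y' hxy'
  refine ⟨α • x + β • y', fun i => ?_, hαβ⟩
  rw [NF3U_h_add_left, NF3U_h_smul_left, NF3U_h_smul_left, hxv, hy'v, mul_zero, mul_zero,
    add_zero]

theorem NF3U_orth (hF : Fintype.card F = q ^ 2) (G : Matrix (Fin 3) (Fin 3) F)
    (hG : ∀ a b, G a b = NF3U_sig hF (G b a)) (hd : G.det ≠ 0) :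
    ∀ k : ℕ, k ≤ 3 → ∃ v : Fin k → Fin 3 → F,
      (∀ i j, i ≠ j → NF3U_h (NF3U_sig hF) G (v i) (v j) = 0) ∧
      (∀ i, NF3U_h (NF3U_sig hF) G (v i) (v i) ≠ 0) := by
  intro k
  induction k with
  | zero =>
    intro _
    exact ⟨fun i => i.elim0, fun i => i.elim0, fun i => i.elim0⟩
  | succ k ih =>
    intro hk
    obtain ⟨v, hv0, hv1⟩ := ih (by omega)
    obtain ⟨w, hw0, hw1⟩ := NF3U_next hF G hG hd k (by omega) v hv0 hv1
    refine ⟨(Fin.cons w v : Fin (k + 1) → Fin 3 → F), ?_, ?_⟩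
    · intro i j
      refine Fin.cases ?_ (fun i' => ?_) i
      · refine Fin.cases ?_ (fun j' => ?_) j
        · intro h
          exact absurd rfl h
        · intro _
          rw [Fin.cons_zero, Fin.cons_succ]
          exact hw0 j'
      · refine Fin.cases ?_ (fun j' => ?_) j
        · intro _
          rw [Fin.cons_zero, Fin.cons_succ,
            ← NF3U_h_conj (NF3U_sig hF) G hG (NF3U_sig_sig hF) w (v i'), hw0 i', map_zero]
        · intro h
          rw [Fin.cons_succ, Fin.cons_succ]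
          exact hv0 i' j' (fun e => h (by rw [e]))
    · intro i
      refine Fin.cases ?_ (fun i' => ?_) i
      · rw [Fin.cons_zero]
        exact hw1
      · rw [Fin.cons_succ]
        exact hv1 i'

theorem NF3U_onb (hF : Fintype.card F = q ^ 2) (G : Matrix (Fin 3) (Fin 3) F)
    (hG : ∀ a b, G a b = NF3U_sig hF (G b a)) (hd : G.det ≠ 0) :
    ∃ B : Matrix (Fin 3) (Fin 3) F, Bᵀ * G * B.map (NF3U_sig hF) = 1 := by
  obtain ⟨v, hv0, hv1⟩ := NF3U_orth hF G hG hd 3 le_rfl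
  have hfix : ∀ i, (NF3U_h (NF3U_sig hF) G (v i) (v i))⁻¹ ^ q =
      (NF3U_h (NF3U_sig hF) G (v i) (v i))⁻¹ := by
    intro i
    have h1 := NF3U_h_conj (NF3U_sig hF) G hG (NF3U_sig_sig hF) (v i) (v i)
    rw [NF3U_sig_apply] at h1
    rw [inv_pow, h1]
  have hex : ∀ i, ∃ t : F, t ≠ 0 ∧ t ^ (q + 1) = (NF3U_h (NF3U_sig hF) G (v i) (v i))⁻¹ :=
    fun i => Cfsg.Agent.Lib.Helper7.herm_norm_surj hF _ (inv_ne_zero (hv1 i)) (hfix i)
  choose t ht0 ht using hex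
  refine ⟨Matrix.of (fun a i => t i * v i a), ?_⟩
  ext i j
  rw [NF3U_entry]
  have e : ∀ i, (fun a => (Matrix.of (fun a i => t i * v i a) : Matrix (Fin 3) (Fin 3) F) a i)
      = t i • v i := by
    intro i
    funext a
    simp
  rw [e i, e j, NF3U_h_smul_left, NF3U_h_smul_right, Matrix.one_apply]
  by_cases hij : i = j
  · subst hij
    rw [if_pos rfl, NF3U_sig_apply, ← mul_assoc, ← pow_succ', ht, inv_mul_cancel₀ (hv1 i)]
  · rw [if_neg hij, hv0 i j hij, mul_zero, mul_zero]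

/-- NF3U: two non-degenerate hermitian Gram matrices of size 3 are congruent up to a scalar. -/
theorem NF3U (hF : Fintype.card F = q ^ 2) (G₁ G₂ : Matrix (Fin 3) (Fin 3) F)
    (hh1 : ∀ a b, G₁ a b = (G₁ b a) ^ q) (hh2 : ∀ a b, G₂ a b = (G₂ b a) ^ q)
    (hd1 : G₁.det ≠ 0) (hd2 : G₂.det ≠ 0) :
    ∃ (A : GL (Fin 3) F) (c : F), c ≠ 0 ∧
      A.1ᵀ * G₂ * A.1.map (fun x : F => x ^ q) = c • G₁ := by
  obtain ⟨B₁, hB₁⟩ := NF3U_onb hF G₁ hh1 hd1
  obtain ⟨B₂, hB₂⟩ := NF3U_onb hF G₂ hh2 hd2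
  have hdet : ∀ (G B : Matrix (Fin 3) (Fin 3) F),
      Bᵀ * G * B.map (NF3U_sig hF) = 1 → B.det ≠ 0 := by
    intro G B hB h0
    have h1 := congrArg Matrix.det hB
    rw [Matrix.det_mul, Matrix.det_mul, Matrix.det_transpose, h0, zero_mul, zero_mul,
      Matrix.det_one] at h1
    exact zero_ne_one h1
  have hB₁d := hdet G₁ B₁ hB₁
  have hB₂d := hdet G₂ B₂ hB₂
  have hB₁u : IsUnit B₁.det := IsUnit.mk0 _ hB₁d
  have hAm : IsUnit (B₂ * B₁⁻¹) := by
    rw [Matrix.isUnit_iff_isUnit_det, Matrix.det_mul, Matrix.det_nonsing_inv,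
      Ring.inverse_eq_inv']
    exact IsUnit.mk0 _ (mul_ne_zero hB₂d (inv_ne_zero hB₁d))
  obtain ⟨A, hA⟩ := hAm
  refine ⟨A, 1, one_ne_zero, ?_⟩
  show (A : Matrix (Fin 3) (Fin 3) F)ᵀ * G₂ *
    (A : Matrix (Fin 3) (Fin 3) F).map (NF3U_sig hF) = (1 : F) • G₁
  rw [hA, one_smul, Matrix.transpose_mul, Matrix.map_mul]
  have e1 : (B₁⁻¹)ᵀ * B₂ᵀ * G₂ * (B₂.map (NF3U_sig hF) * B₁⁻¹.map (NF3U_sig hF)) =
      (B₁⁻¹)ᵀ * (B₂ᵀ * G₂ * B₂.map (NF3U_sig hF)) * B₁⁻¹.map (NF3U_sig hF) := by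
    simp only [Matrix.mul_assoc]
  rw [e1, hB₂, Matrix.mul_one]
  have e2 : G₁ = (B₁ * B₁⁻¹)ᵀ * G₁ * (B₁ * B₁⁻¹).map (NF3U_sig hF) := by
    rw [Matrix.mul_nonsing_inv _ hB₁u, Matrix.transpose_one, Matrix.one_mul,
      Matrix.map_one (NF3U_sig hF) (map_zero (NF3U_sig hF)) (map_one (NF3U_sig hF)),
      Matrix.mul_one]
  have e3 : (B₁ * B₁⁻¹)ᵀ * G₁ * (B₁ * B₁⁻¹).map (NF3U_sig hF) =
      (B₁⁻¹)ᵀ * (B₁ᵀ * G₁ * B₁.map (NF3U_sig hF)) * B₁⁻¹.map (NF3U_sig hF) := by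
    rw [Matrix.transpose_mul, Matrix.map_mul]
    simp only [Matrix.mul_assoc]
  rw [e3, hB₁, Matrix.mul_one] at e2
  exact e2.symm

end Cfsg.Agent.Lib.Helper44.U9
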